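import Groth.Agent.Neron.K491.Closure
import Groth.Agent.Models.DVRGeneric
import Groth.Agent.Sga3B.BcPts
import Groth.Agent.Localalg.GrpSchComp2

/-!
# The closure of the graph of a homomorphism of generic fibres

`V` a discrete valuation ring, `T`, `G` groups of finite type over `Spec V`, `T_K` integral, `φ : T_K ⟶ G_K` a
homomorphism: `exists_graph` gives the closure `H` of the graph of `φ` in `T × G` with its projections `p : H ⟶ T`,
`s : H ⟶ G`.
-/

set_option autoImplicit false
universe u

open CategoryTheory CategoryTheory.Limits AlgebraicGeometry MonObj MonoidalCategory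
  CartesianMonoidalCategory GrpObj

namespace K211.Graph

open Groth.Agent Groth.Agent.Sga3B.BcPts

theorem isIntegral_of_ker {X Y : Scheme.{u}} (g : Y ⟶ X) (hg : g.ker = ⊥) [QuasiCompact g]
    [IsIntegral Y] : IsIntegral X := by
  have : IsSchemeTheoreticallyDominant g := ⟨hg⟩
  have hred : IsReduced X := IsSchemeTheoreticallyDominant.isReduced g
  have hd : closure (Set.range g) = Set.univ := (Scheme.Hom.denseRange g).closure_range
  have hi : IsIrreducible (Set.univ : Set X) := by
    rw [← hd, ← Set.image_univ]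
    exact ((IrreducibleSpace.isIrreducible_univ Y).image g g.continuous.continuousOn).closure
  have hirr : IrreducibleSpace X := (irreducibleSpace_def _).mpr hi
  exact isIntegral_of_irreducibleSpace_of_isReduced _

/-- Base change of points of a product. -/
lemma bc_prod_ext {S S' : Scheme.{u}} (g : S' ⟶ S) {X Y : Over S} {Z : Over S'} {a b : Z ⟶ Red.bc g (X ⊗ Y)}
    (h1 : a ≫ (Over.pullback g).map (fst X Y) = b ≫ (Over.pullback g).map (fst X Y))
    (h2 : a ≫ (Over.pullback g).map (snd X Y) = b ≫ (Over.pullback g).map (snd X Y)) : a = b := by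
  apply (bcEquiv g Z (X ⊗ Y)).symm.injective
  apply CartesianMonoidalCategory.hom_ext
  · rw [← bcEquiv_symm_comp, ← bcEquiv_symm_comp, h1]
  · rw [← bcEquiv_symm_comp, ← bcEquiv_symm_comp, h2]

lemma isMonHom_of_mul {S : Scheme.{u}} {X Y : Over S} [GrpObj X] [GrpObj Y] (f : X ⟶ Y)
    (h : ∀ (T : Over S) (x y : T ⟶ X), (x * y) ≫ f = (x ≫ f) * (y ≫ f)) : IsMonHom f := by
  have hm : μ[X] ≫ f = (f ⊗ₘ f) ≫ μ[Y] := by
    have h1 := h _ (fst X X) (snd X X)
    rw [Hom.mul_def, Hom.mul_def] at h1
    have h2 : lift (fst X X) (snd X X) ≫ μ[X] = μ[X] := by simp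
    have h3 : lift (fst X X ≫ f) (snd X X ≫ f) = (f ⊗ₘ f) := by
      ext1 <;> simp
    rw [← h2]
    simpa [h3] using h1
  refine ⟨?_, hm⟩
  have h1 : (1 : 𝟙_ (Over S) ⟶ X) ≫ f = 1 := by
    have h2 := h _ (1 : 𝟙_ (Over S) ⟶ X) 1
    rw [_root_.mul_one] at h2
    exact (mul_eq_left.1 h2.symm)
  rw [MonObj.one_eq_one, h1, MonObj.one_eq_one]

variable {V : Type u} [CommRing V] [IsDomain V] [IsDiscreteValuationRing V]

/-- The morphism from the generic fibre. -/
noncomputable def gen (X : Over (Spec (CommRingCat.of V))) :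
    (Over.map (Neron.genPt V)).obj (Red.bc (Neron.genPt V) X) ⟶ X :=
  Over.homMk (pullback.fst X.hom (Neron.genPt V)) pullback.condition

omit [IsDomain V] [IsDiscreteValuationRing V] in
lemma gen_eq (X : Over (Spec (CommRingCat.of V))) : gen X = (bcEquiv (Neron.genPt V) _ X).symm (𝟙 _) := by
  ext1
  have h1 := K491.Closure.dn_left (Neron.genPt V) (𝟙 (Red.bc (Neron.genPt V) X))
  rw [Over.id_left, Category.id_comp] at h1
  exact h1.symm

omit [IsDomain V] [IsDiscreteValuationRing V] in
lemma gen_naturality {X Y : Over (Spec (CommRingCat.of V))} (f : X ⟶ Y) :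
    (Over.map (Neron.genPt V)).map ((Over.pullback (Neron.genPt V)).map f) ≫ gen Y = gen X ≫ f := by
  rw [gen_eq, gen_eq, ← comp_bcEquiv_symm, ← bcEquiv_symm_comp, Category.comp_id, Category.id_comp]

instance flat_genPt : Flat (Neron.genPt V) := by
  rw [HasRingHomProperty.Spec_iff (P := @Flat)]
  change (algebraMap V (FractionRing V)).Flat
  rw [RingHom.flat_algebraMap_iff]
  exact IsLocalization.flat _ (nonZeroDivisors V)

instance dom_gen (X : Over (Spec (CommRingCat.of V))) [Flat X.hom] :
    IsSchemeTheoreticallyDominant (gen X).left := by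
  have hdomg : IsSchemeTheoreticallyDominant (Neron.genPt V) := K491.Ext.dom_genPt V
  change IsSchemeTheoreticallyDominant (pullback.fst X.hom (Neron.genPt V))
  infer_instance

variable {T G : Over (Spec (CommRingCat.of V))} [GrpObj T] [GrpObj G]

theorem exists_graph [LocallyOfFiniteType T.hom] [LocallyOfFiniteType G.hom] [QuasiCompact T.hom]
    [QuasiCompact G.hom] [IsIntegral (Red.bc (Neron.genPt V) T).left]
    (φ : Red.bc (Neron.genPt V) T ⟶ Red.bc (Neron.genPt V) G) [IsMonHom φ] :
    ∃ (H : Over (Spec (CommRingCat.of V))) (_ : GrpObj H) (p : H ⟶ T) (s : H ⟶ G),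
      IsMonHom p ∧ IsMonHom s ∧ Flat H.hom ∧ LocallyOfFiniteType H.hom ∧ QuasiCompact H.hom ∧
      IsIntegral H.left ∧ IsIso ((Over.pullback (Neron.genPt V)).map p) ∧
      (Over.pullback (Neron.genPt V)).map s = (Over.pullback (Neron.genPt V)).map p ≫ φ ∧
      (∀ (X : Over (Spec (CommRingCat.of V))) [Flat X.hom] (x : X ⟶ T) (y : X ⟶ G),
        (Over.pullback (Neron.genPt V)).map x ≫ φ = (Over.pullback (Neron.genPt V)).map y →
        ∃ z : X ⟶ H, z ≫ p = x ∧ z ≫ s = y) ∧
      (∀ (X : Over (Spec (CommRingCat.of V))) (a b : X ⟶ H), a ≫ p = b ≫ p → a ≫ s = b ≫ s → a = b) := by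
  let g := Neron.genPt V
  let F := Over.pullback g
  let i : Red.bc g T ⟶ Red.bc g (T ⊗ G) :=
    bcEquiv g _ (T ⊗ G) (lift ((bcEquiv g _ T).symm (𝟙 _)) ((bcEquiv g _ G).symm φ))
  have hi1 : i ≫ F.map (fst T G) = 𝟙 _ := by
    rw [← bcEquiv_comp, lift_fst, Equiv.apply_symm_apply]
  have hi2 : i ≫ F.map (snd T G) = φ := by
    rw [← bcEquiv_comp, lift_snd, Equiv.apply_symm_apply]
  have hm1 : IsMonHom (F.map (fst T G)) := inferInstance
  have hm2 : IsMonHom (F.map (snd T G)) := inferInstance
  have him : IsMonHom i := by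
    refine isMonHom_of_mul i fun Z x y => bc_prod_ext g ?_ ?_
    · rw [Category.assoc, hi1, Category.comp_id, MonObj.mul_comp, Category.assoc, Category.assoc, hi1,
        Category.comp_id, Category.comp_id]
    · rw [Category.assoc, hi2, MonObj.mul_comp, MonObj.mul_comp, Category.assoc, Category.assoc, hi2]
  have hicl : IsClosedImmersion i.left := by
    have hsep : IsSeparated (Red.bc g (T ⊗ G)).hom := Localalg.GrpSchComp2.isSeparated_hom _
    have h1 : IsSeparated ((F.map (fst T G)).left ≫ (Red.bc g T).hom) := by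
      rw [Over.w]; exact hsep
    have h2 : IsSeparated (F.map (fst T G)).left := IsSeparated.of_comp _ (Red.bc g T).hom
    have h3 : IsClosedImmersion (i.left ≫ (F.map (fst T G)).left) := by
      rw [← Over.comp_left, hi1]
      exact inferInstanceAs (IsClosedImmersion (𝟙 (Red.bc g T).left))
    exact IsClosedImmersion.of_comp i.left (F.map (fst T G)).left
  obtain ⟨H, hH, j, c, hj, hjcl, hfl, hpb, hcj, hker⟩ := K491.Closure.exists_closure (T ⊗ G) (Red.bc g T) i
  let p : H ⟶ T := j ≫ fst T G
  let s : H ⟶ G := j ≫ snd T G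
  let e : Red.bc g T ⟶ Red.bc g H := bcEquiv g _ H (Over.homMk c hpb.w)
  have hej : e ≫ F.map j = i := by
    rw [← bcEquiv_comp]
    apply (bcEquiv g _ (T ⊗ G)).symm.injective
    rw [Equiv.symm_apply_apply]
    apply Over.OverMorphism.ext
    rw [Over.comp_left]
    exact hcj.trans (K491.Closure.dn_left (Neron.genPt V) i).symm
  have hep : e ≫ F.map p = 𝟙 _ := by
    rw [show F.map p = F.map j ≫ F.map (fst T G) from F.map_comp _ _, reassoc_of% hej, hi1]
  have hes : e ≫ F.map s = φ := by
    rw [show F.map s = F.map j ≫ F.map (snd T G) from F.map_comp _ _, reassoc_of% hej, hi2]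
  have heiso : IsIso e := by
    have h0 : e.left = hpb.isoPullback.hom := by
      apply pullback.hom_ext
      · rw [hpb.isoPullback_hom_fst]
        have h1 := K491.Closure.dn_left (Neron.genPt V) e
        rw [← h1]
        have h2 : K491.Closure.dn (Neron.genPt V) e = Over.homMk c hpb.w :=
          (bcEquiv g (Red.bc g T) H).symm_apply_apply _
        rw [h2]
        rfl
      · rw [hpb.isoPullback_hom_snd]
        exact Over.w e
    have h1 : IsIso ((Over.forget _).map e) := by
      change IsIso e.left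
      rw [h0]
      infer_instance
    exact isIso_of_reflects_iso e (Over.forget _)
  have hFp : F.map p = inv e := by
    rw [← cancel_epi e, hep, IsIso.hom_inv_id]
  have hprod : (T ⊗ G).hom = pullback.fst T.hom G.hom ≫ T.hom := rfl
  have hlft : LocallyOfFiniteType H.hom := by
    rw [← Over.w j, hprod]
    infer_instance
  have hqc : QuasiCompact H.hom := by
    rw [← Over.w j, hprod]
    infer_instance
  have hcqc : QuasiCompact c := MorphismProperty.of_isPullback hpb.flip
    (inferInstanceAs (QuasiCompact (Neron.genPt V)))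
  refine ⟨H, hH, p, s, inferInstance, inferInstance, hfl, hlft, hqc, isIntegral_of_ker c hker, ?_, ?_, ?_, ?_⟩
  · change IsIso (F.map p)
    rw [hFp]
    infer_instance
  · change F.map s = F.map p ≫ φ
    rw [hFp, ← hes, IsIso.inv_hom_id_assoc]
  · intro X _ x y hxy
    have h1 : F.map x ≫ i = F.map (lift x y) := by
      refine bc_prod_ext g ?_ ?_
      · rw [Category.assoc, hi1, Category.comp_id]
        change _ = F.map (lift x y) ≫ F.map (fst T G)
        rw [← F.map_comp, lift_fst]
      · rw [Category.assoc, hi2]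
        change _ = F.map (lift x y) ≫ F.map (snd T G)
        rw [← F.map_comp, lift_snd]
        exact hxy
    obtain ⟨z, hz⟩ := Groth.Agent.Sga3C.SchemImage.exists_lift_over (gen X) (lift x y) j
      ((Over.map g).map (F.map x ≫ e) ≫ gen H) (by
        rw [Category.assoc, ← gen_naturality, ← Category.assoc, ← Functor.map_comp, Category.assoc, hej, h1,
          gen_naturality])
    refine ⟨z, ?_, ?_⟩
    · change z ≫ j ≫ fst T G = x
      rw [← Category.assoc, hz, lift_fst]
    · change z ≫ j ≫ snd T G = y
      rw [← Category.assoc, hz, lift_snd]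
  · intro X a b h1 h2
    have hjm : Mono j.left := inferInstance
    have hjm' : Mono j := (Over.forget _).mono_of_mono_map hjm
    rw [← cancel_mono j]
    refine CartesianMonoidalCategory.hom_ext _ _ ?_ ?_
    · rw [Category.assoc, Category.assoc]; exact h1
    · rw [Category.assoc, Category.assoc]; exact h2

end K211.Graph
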