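import Groth.Agent.Neron.K491.Closure
import Groth.Agent.Models.DVRGeneric
import Groth.Agent.S5315
import Groth.Agent.S4809
import Groth.Agent.S1608
import Groth.Agent.S3025
import Groth.Agent.Sga3.H778.NeutralOpen
import Groth.Agent.Sga3C.GrpSep
import Groth.Agent.Sga3C.GrpIrr

/-!
# A birational homomorphism of group schemes over a discrete valuation ring, normal target

`V` a discrete valuation ring, `p : H ⟶ T` a homomorphism of `V`-groups of finite type, `H` flat and integral, `T`
smooth, separated, normal, with geometrically irreducible fibres. If `p` is an isomorphism on the generic fibres and if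
some point of the special fibre of `H` is sent to a point of `T` whose local ring has dimension at most one, then `p`
is a local isomorphism, and it induces an isomorphism of the neutral component of `H` onto `T`.
-/

set_option autoImplicit false
universe u

open CategoryTheory CategoryTheory.Limits AlgebraicGeometry MonObj MonoidalCategory
  CartesianMonoidalCategory GrpObj

namespace K211.NeutralSec

open Groth.Agent Groth.Agent.Sga3.H778.NeutralOpen

variable {V : Type u} [CommRing V] [IsDomain V] [IsDiscreteValuationRing V]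

/-- The generic point of the spectrum of a discrete valuation ring is open. -/
instance isOpenImmersion_genPt : IsOpenImmersion (Neron.genPt V) :=
  Models.DVRGeneric.isOpenImmersion_generic V (FractionRing V)

/-- The points of the spectrum of a discrete valuation ring. -/
lemma eq_or_eq (s : Spec (CommRingCat.of V)) :
    s = IsLocalRing.closedPoint V ∨ s ∈ Set.range (Neron.genPt V) := by
  by_cases h : s.asIdeal = ⊥
  · right
    refine ⟨⟨⊥, Ideal.isPrime_bot⟩, ?_⟩
    apply PrimeSpectrum.ext
    change Ideal.comap (algebraMap V (FractionRing V)) ⊥ = _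
    rw [h, ← RingHom.ker_eq_comap_bot, RingHom.ker_eq_bot_iff_eq_zero]
    intro x hx
    exact (map_eq_zero_iff _ (IsFractionRing.injective V (FractionRing V))).1 hx
  · left
    apply PrimeSpectrum.ext
    have h1 : s.asIdeal.IsMaximal := Ring.DimensionLEOne.maximalOfPrime h s.2
    exact IsLocalRing.eq_maximalIdeal h1

section

variable {T H : Over (Spec (CommRingCat.of V))} (p : H ⟶ T)

/-- On the generic fibre, `p` is an open immersion. -/
lemma isOpenImmersion_gen [hK : IsIso ((Over.pullback (Neron.genPt V)).map p)] :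
    IsOpenImmersion (pullback.fst H.hom (Neron.genPt V) ≫ p.left) := by
  have h1 : pullback.fst H.hom (Neron.genPt V) ≫ p.left =
      ((Over.pullback (Neron.genPt V)).map p).left ≫ pullback.fst T.hom (Neron.genPt V) :=
    (pullback.lift_fst _ _ _).symm
  have h2 : IsIso ((Over.pullback (Neron.genPt V)).map p).left :=
    inferInstanceAs (IsIso ((Over.forget _).map ((Over.pullback (Neron.genPt V)).map p)))
  rw [h1]
  infer_instance

lemma genericPoint_mem [IsIntegral H.left] (hne : Nonempty ↥(pullback H.hom (Neron.genPt V))) :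
    genericPoint H.left ∈ Set.range (pullback.fst H.hom (Neron.genPt V)) := by
  have h1 : IsOpen (Set.range (pullback.fst H.hom (Neron.genPt V))) :=
    (pullback.fst H.hom (Neron.genPt V)).isOpenEmbedding.isOpen_range
  refine ((genericPoint_spec H.left).mem_open_set_iff h1).2 ?_
  obtain ⟨z⟩ := hne
  exact ⟨_, trivial, z, rfl⟩

/-- The generic fibre of a group scheme is not empty. -/
lemma nonempty_gen [GrpObj H] : Nonempty ↥(pullback H.hom (Neron.genPt V)) := by
  have h1 : (η[H] : 𝟙_ (Over (Spec (CommRingCat.of V))) ⟶ H).left ≫ H.hom = 𝟙 _ := Over.w η[H]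
  let z : Spec (CommRingCat.of (FractionRing V)) ⟶ pullback H.hom (Neron.genPt V) :=
    pullback.lift (Neron.genPt V ≫ (η[H] : 𝟙_ (Over (Spec (CommRingCat.of V))) ⟶ H).left) (𝟙 _)
      (by rw [Category.assoc, h1]; simp)
  exact ⟨z ⟨⊥, Ideal.isPrime_bot⟩⟩

/-- `p` is birational. -/
lemma birational [GrpObj H] [IsIntegral H.left] [IsIntegral T.left]
    [hK : IsIso ((Over.pullback (Neron.genPt V)).map p)] :
    p.left (genericPoint H.left) = genericPoint T.left ∧
      IsIso (p.left.stalkMap (genericPoint H.left)) := by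
  obtain ⟨z, hz⟩ := genericPoint_mem (H := H) nonempty_gen
  have hoi := isOpenImmersion_gen p
  have h3 : p.left (genericPoint H.left) = genericPoint T.left := by
    have h1 : IsOpen (Set.range (pullback.fst H.hom (Neron.genPt V) ≫ p.left)) :=
      (pullback.fst H.hom (Neron.genPt V) ≫ p.left).isOpenEmbedding.isOpen_range
    have h2 : genericPoint T.left ∈ Set.range (pullback.fst H.hom (Neron.genPt V) ≫ p.left) := by
      refine ((genericPoint_spec T.left).mem_open_set_iff h1).2 ?_
      exact ⟨_, trivial, z, rfl⟩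
    obtain ⟨w, hw⟩ := h2
    have h4 : genericPoint H.left ⤳ pullback.fst H.hom (Neron.genPt V) w :=
      (genericPoint_spec H.left).specializes (by trivial)
    have h5 : z ⤳ w := by
      rw [← hz] at h4
      exact (pullback.fst H.hom (Neron.genPt V)).isOpenEmbedding.isInducing.specializes_iff.1 h4
    have h6 : p.left (genericPoint H.left) ⤳ genericPoint T.left := by
      rw [← hw, ← hz, ← Scheme.Hom.comp_apply]
      exact h5.map (pullback.fst H.hom (Neron.genPt V) ≫ p.left).continuous
    exact (h6.antisymm ((genericPoint_spec T.left).specializes (by trivial))).eq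
  refine ⟨h3, ?_⟩
  have h7 : IsIso ((pullback.fst H.hom (Neron.genPt V) ≫ p.left).stalkMap z) := inferInstance
  rw [Scheme.Hom.stalkMap_comp] at h7
  have h8 : IsIso (p.left.stalkMap (pullback.fst H.hom (Neron.genPt V) z)) :=
    @IsIso.of_isIso_comp_right _ _ _ _ _ (p.left.stalkMap (pullback.fst H.hom (Neron.genPt V) z))
      ((pullback.fst H.hom (Neron.genPt V)).stalkMap z) _ h7
  rw [hz] at h8
  exact h8

lemma quasiFiniteAt_iff_exists {X Y : Scheme.{u}} (f : X ⟶ Y) [LocallyOfFiniteType f] (x : X) :
    f.QuasiFiniteAt x ↔ x ∈ {x : X | ∃ W : X.Opens, x ∈ W ∧ LocallyQuasiFinite (W.ι ≫ f)} := by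
  constructor
  · intro hx
    exact ⟨f.quasiFiniteLocus, hx, inferInstance⟩
  · rintro ⟨W, hxW, hW⟩
    have h1 : (W.ι ≫ f).QuasiFiniteAt ⟨x, hxW⟩ := (W.ι ≫ f).quasiFiniteAt ⟨x, hxW⟩
    have h2 := (Scheme.Hom.quasiFiniteAt_comp_iff_of_isOpenImmersion (f := W.ι) (g := f) (x := ⟨x, hxW⟩)).1 h1
    exact h2

/-- If some point of the special fibre of `H` is sent to a point of `T` with local ring of dimension at most one, then
`p` is locally quasi-finite. -/
theorem locallyQuasiFinite [GrpObj H] [GrpObj T] [IsMonHom p] [IsIntegral H.left] [IsIntegral T.left]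
    [hK : IsIso ((Over.pullback (Neron.genPt V)).map p)] [LocallyOfFiniteType H.hom] [LocallyOfFiniteType T.hom]
    (hdim : ∃ x : H.left, H.hom x = IsLocalRing.closedPoint V ∧
      ringKrullDim (T.left.presheaf.stalk (p.left x)) ≤ 1) : LocallyQuasiFinite p.left := by
  obtain ⟨x, hx, hd⟩ := hdim
  have hp : LocallyOfFiniteType p.left := by
    have : LocallyOfFiniteType (p.left ≫ T.hom) := by rw [Over.w]; infer_instance
    exact locallyOfFiniteType_of_comp p.left T.hom
  have hoi := isOpenImmersion_gen p
  have hT : IsLocallyNoetherian T.left := LocallyOfFiniteType.isLocallyNoetherian T.hom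
  have hgen : ∀ y ∈ Set.range (pullback.fst H.hom (Neron.genPt V)), p.left.QuasiFiniteAt y := by
    rintro _ ⟨z, rfl⟩
    rw [← Scheme.Hom.quasiFiniteAt_comp_iff_of_isOpenImmersion]
    exact Scheme.Hom.quasiFiniteAt _ _
  have h1 : p.left.QuasiFiniteAt x := by
    refine Groth.Agent.S1608.result p.left (p.left x) hd ?_ x rfl
    intro Z hZ c hc
    have hZ' : Z = Set.univ := by
      have := irreducibleComponents_eq_singleton (X := H.left)
      rw [this] at hZ
      exact hZ
    have hc' : c = genericPoint H.left := by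
      subst hZ'
      exact hc.eq (genericPoint_spec H.left)
    rw [hc']
    exact hgen _ (genericPoint_mem nonempty_gen)
  have hfib : ∀ s : Spec (CommRingCat.of V), LocallyOfFiniteType (H.hom.fiberToSpecResidueField s) := fun s =>
    inferInstanceAs (LocallyOfFiniteType (pullback.snd H.hom ((Spec (CommRingCat.of V)).fromSpecResidueField s)))
  obtain ⟨-, h2⟩ := Groth.Agent.S5315.result _ H T p hfib
  have key : ∀ y : H.left, p.left.QuasiFiniteAt y ↔
      y ∈ {x : H.left | ∃ W : H.left.Opens, x ∈ W ∧ LocallyQuasiFinite (W.ι ≫ p.left)} :=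
    quasiFiniteAt_iff_exists p.left
  rw [← Scheme.Hom.quasiFiniteLocus_eq_top_iff, eq_top_iff]
  intro y _
  change p.left.QuasiFiniteAt y
  rw [key, h2]
  rcases eq_or_eq (H.hom y) with hy | ⟨s, hs⟩
  · have h3 := (key x).1 h1
    rw [h2] at h3
    rw [Set.mem_preimage] at h3 ⊢
    rwa [hy, ← hx]
  · have h4 : y ∈ Set.range (pullback.fst H.hom (Neron.genPt V)) := by
      rw [Scheme.Pullback.range_fst]
      exact ⟨s, hs⟩
    have h5 := (key y).1 (hgen y h4)
    rw [h2] at h5
    exact h5

/-- A homomorphism of groups with open image on a geometrically irreducible group is surjective. -/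
lemma surjective_of_isOpen {S : Scheme.{u}} {P T : Over S} [GrpObj P] [GrpObj T] (q : P ⟶ T) [IsMonHom q]
    [GeometricallyIrreducible T.hom] [UniversallyOpen T.hom] (h : IsOpen (Set.range q.left)) : Surjective q.left := by
  refine ⟨fun g => ?_⟩
  let W : T.left.Opens := ⟨_, h⟩
  obtain ⟨k, h1, h2, h3⟩ := Groth.Agent.Sga3C.GrpSep.exists_mul_eq T W g
    ⟨(η[T] : 𝟙_ (Over S) ⟶ T).left (T.hom g), by
      refine ⟨(η[P] : 𝟙_ (Over S) ⟶ P).left (T.hom g), ?_⟩
      rw [← Scheme.Hom.comp_apply, ← Over.comp_left, IsMonHom.one_hom], by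
      rw [← Scheme.Hom.comp_apply, Over.w η[T]]
      rfl⟩
  have hr : k ∈ Set.range (q ⊗ₘ q).left := by
    rw [Over.tensorHom_left, Scheme.Pullback.range_map]
    exact ⟨h1, h2⟩
  obtain ⟨k', rfl⟩ := hr
  refine ⟨(μ[P]).left k', ?_⟩
  rw [← h3, ← Scheme.Hom.comp_apply, ← Scheme.Hom.comp_apply, ← Over.comp_left, ← Over.comp_left, IsMonHom.mul_hom]

open Groth.Agent.Sga3.H778.NeutralOpen in
/-- `p` induces an isomorphism of the neutral component of `H` onto `T`. -/
theorem exists_neutral [GrpObj H] [GrpObj T] [IsMonHom p] [IsIntegral H.left] [IsIntegral T.left]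
    [hK : IsIso ((Over.pullback (Neron.genPt V)).map p)] [LocallyOfFiniteType H.hom] [Smooth T.hom]
    [IsSeparated T.hom] [GeometricallyIrreducible T.hom]
    (hN : ∀ y : T.left, IsIntegrallyClosed (T.left.presheaf.stalk y))
    (hdim : ∃ x : H.left, H.hom x = IsLocalRing.closedPoint V ∧
      ringKrullDim (T.left.presheaf.stalk (p.left x)) ≤ 1) :
    ∃ (P : Over (Spec (CommRingCat.of V))) (_ : GrpObj P) (o : P ⟶ H), IsMonHom o ∧ IsOpenImmersion o.left ∧
      IsIso (o ≫ p) ∧ Set.range o.left = SGA3x.neutralSet H := by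
  have hlqf := locallyQuasiFinite p hdim
  have hp : LocallyOfFiniteType p.left := by
    have : LocallyOfFiniteType (p.left ≫ T.hom) := by rw [Over.w]; infer_instance
    exact locallyOfFiniteType_of_comp p.left T.hom
  obtain ⟨hb1, hb2⟩ := birational p
  have hloc := (Groth.Agent.S4809.result hN p.left hb1 hb2).1
  have het : Smooth p.left := by
    refine Groth.Agent.Sga3.H778.SecNbhd.smooth_of_forall_exists _ fun x => ?_
    obtain ⟨U, hxU, hU⟩ := hloc.exists_isOpenImmersion x
    exact ⟨U, hxU, inferInstance⟩
  have hsm : Smooth H.hom := by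
    rw [← Over.w p]
    infer_instance
  have hsmU : Smooth ((⊤ : H.left.Opens).ι ≫ H.hom) := inferInstance
  have hopen := isOpen_neutralSet H ⊤ (fun _ => trivial)
  obtain ⟨hgrp, hmon⟩ := exists_grpObj H hopen
  have hconn := isConnected_fibre H hopen
  let P : Over (Spec (CommRingCat.of V)) := opn H (neutral H hopen)
  let o : P ⟶ H := opnι H (neutral H hopen)
  have hsmP : Smooth P.hom := smooth_neutral H ⊤ (fun _ => trivial) hopen
  have hsep : IsSeparated P.hom := (Groth.Agent.S3025.result _ P hconn).1
  have hro : Set.range o.left = SGA3x.neutralSet H := by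
    change Set.range (neutral H hopen).ι = _
    rw [Scheme.Opens.range_ι]
    rfl
  have hnon : Nonempty P.left := ⟨(η[P] : 𝟙_ (Over (Spec (CommRingCat.of V))) ⟶ P).left (IsLocalRing.closedPoint V)⟩
  have hint : IsIntegral P.left := isIntegral_of_isOpenImmersion o.left
  have hgen : o.left (genericPoint P.left) = genericPoint H.left := by
    exact genericPoint_eq_of_isOpenImmersion o.left
  have hPT : IsSeparated ((o ≫ p).left ≫ T.hom) := by rw [Over.w]; exact hsep
  have hsepP : IsSeparated (o ≫ p).left := IsSeparated.of_comp (o ≫ p).left T.hom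
  have hlft : LocallyOfFiniteType (o ≫ p).left := by
    rw [Over.comp_left]; infer_instance
  have hlqfP : LocallyQuasiFinite (o ≫ p).left := by
    rw [Over.comp_left]; infer_instance
  have hoi : IsOpenImmersion (o ≫ p).left := by
    refine (Groth.Agent.S4809.result hN (o ≫ p).left ?_ ?_).2 hsepP
    · rw [Over.comp_left, Scheme.Hom.comp_apply, hgen, hb1]
    · rw [Over.comp_left, Scheme.Hom.stalkMap_comp]
      rw [← hgen] at hb2
      have h9 : IsIso (o.left.stalkMap (genericPoint P.left)) := inferInstance
      exact @IsIso.comp_isIso _ _ _ _ _ (p.left.stalkMap (o.left (genericPoint P.left)))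
        (o.left.stalkMap (genericPoint P.left)) hb2 h9
  have hsurj : Surjective (o ≫ p).left := surjective_of_isOpen (o ≫ p) (o ≫ p).left.isOpenEmbedding.isOpen_range
  have hisoL : IsIso ((Over.forget _).map (o ≫ p)) := by
    change IsIso (o ≫ p).left
    rw [isIso_iff_isOpenImmersion_and_surjective]
    exact ⟨hoi, hsurj⟩
  exact ⟨P, hgrp, o, hmon, inferInstance, isIso_of_reflects_iso (o ≫ p) (Over.forget _), hro⟩

end

end K211.NeutralSec
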