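import Groth.Agent.SGA3x.K211.TorsQ
import Groth.Agent.SGA3x.K21.FlatSub
import Groth.Agent.Sga3B.TorusIrr
import Groth.Agent.Sga3B.MaxTorusCrit
import Groth.Agent.Ega4dA.SmoothStalk

/-!
# The split torus `D(ℤ^r)` over a domain, over a discrete valuation ring

`V` a discrete valuation ring, `T = D(ℤ^r)` over `Spec V`.
* `isIntegral_DS`, `geomIrr_DS`, `smooth_DS`, `normal_DS`;
* `xi V r` is the generic point of the special fibre of `T`; `dim_xi`: its local ring has dimension at most one;
* `xi_mem`: if `q` is invertible in `V`, a closed subset of `T` containing the points of `q`-power order of the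
  special fibre contains `xi V r`.
-/

set_option autoImplicit false
universe u
open CategoryTheory MonoidalCategory CartesianMonoidalCategory MonObj GrpObj AlgebraicGeometry Limits

namespace K211.SplitTor

open Groth.Agent Groth.Agent.Sga3B.DSPts Groth.Agent.Sga3B.InfConj TorsQ

variable (C : Type u) [CommRing C]

instance isIso_univPt_left (M : Type) [AddCommGroup M] : IsIso (univPt C M).left :=
  inferInstanceAs (IsIso ((Over.forget _).map (univPt C M)))

variable (r : ℕ)

instance isIntegral_DS [IsDomain C] : IsIntegral (Red.DS (Spec (CommRingCat.of C)) (Fin r → ℤ)).left := by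
  have h1 : IsDomain (MonoidAlgebra C (Multiplicative (Fin r → ℤ))) := inferInstance
  have h2 : IsIntegral (pt C (MonoidAlgebra C (Multiplicative (Fin r → ℤ)))).left :=
    inferInstanceAs (IsIntegral (Spec (CommRingCat.of (MonoidAlgebra C (Multiplicative (Fin r → ℤ))))))
  have h3 : Nonempty (pt C (MonoidAlgebra C (Multiplicative (Fin r → ℤ)))).left := inferInstance
  have h4 : Nonempty (Red.DS (Spec (CommRingCat.of C)) (Fin r → ℤ)).left := h3.map (univPt C _).left
  exact isIntegral_of_isOpenImmersion (inv (univPt C (Fin r → ℤ)).left)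

lemma isTorus_DS (S : Scheme.{u}) : Red.IsTorus (Red.DS S (Fin r → ℤ)) :=
  Groth.Agent.Sga3B.MaxTorusCrit.isTorus_DS S r

instance geomIrr_DS (S : Scheme.{u}) : GeometricallyIrreducible (Red.DS S (Fin r → ℤ)).hom :=
  Sga3B.TorusIrr.geometricallyIrreducible_of_isTorus (isTorus_DS r S)

instance smooth_DS (S : Scheme.{u}) : Smooth (Red.DS S (Fin r → ℤ)).hom :=
  Sga3B.TorusAlgClosed.smooth_of_isTorus (isTorus_DS r S)

instance isAffineHom_DS (S : Scheme.{u}) : IsAffineHom (Red.DS S (Fin r → ℤ)).hom :=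
  Sga3B.TorusAlgClosed.isAffineHom_of_isTorus (isTorus_DS r S)

section dvr

variable (V : Type u) [CommRing V] [IsDomain V] [IsDiscreteValuationRing V]

theorem isNormalScheme_spec (A : Type u) [CommRing A] [IsDomain A] [IsIntegrallyClosed A] :
    Pi1.IsNormalScheme (Spec (CommRingCat.of A)) := by
  intro x
  have hx : x.asIdeal.IsPrime := x.isPrime
  let _ : Algebra A ((Spec (CommRingCat.of A)).presheaf.stalk x) := StructureSheaf.stalkAlgebra A x
  have h1 : IsLocalization.AtPrime ((Spec (CommRingCat.of A)).presheaf.stalk x) x.asIdeal :=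
    StructureSheaf.IsLocalization.to_stalk A x
  have h2 : IsDomain ((Spec (CommRingCat.of A)).presheaf.stalk x) :=
    IsLocalization.isDomain_of_atPrime _ x.asIdeal
  exact ⟨h2, isIntegrallyClosed_of_isLocalization _ x.asIdeal.primeCompl
    x.asIdeal.primeCompl_le_nonZeroDivisors⟩

lemma normal_DS (y : (Red.DS (Spec (CommRingCat.of V)) (Fin r → ℤ)).left) :
    IsIntegrallyClosed ((Red.DS (Spec (CommRingCat.of V)) (Fin r → ℤ)).left.presheaf.stalk y) :=
  (Ega4dA.SmoothStalk.stalk_of_smooth (isNormalScheme_spec V) (Red.DS (Spec (CommRingCat.of V)) (Fin r → ℤ)).hom y).2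

/-- Reduction of group algebras to the residue field. -/
noncomputable abbrev red (M : Type) [AddCommGroup M] : MonoidAlgebra V (Multiplicative M) →+*
    MonoidAlgebra (IsLocalRing.ResidueField V) (Multiplicative M) :=
  MonoidAlgebra.mapRingHom (Multiplicative M) (IsLocalRing.residue V)

/-- The ideal of the special fibre. -/
noncomputable abbrev xiI : Ideal (MonoidAlgebra V (Multiplicative (Fin r → ℤ))) := RingHom.ker (red V (Fin r → ℤ))

instance xiI_isPrime : (xiI r V).IsPrime := RingHom.ker_isPrime _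

variable {r V}

lemma mem_xiI_iff (f : MonoidAlgebra V (Multiplicative (Fin r → ℤ))) :
    f ∈ xiI r V ↔ ∀ m, f.coeff m ∈ IsLocalRing.maximalIdeal V := by
  rw [RingHom.mem_ker]
  constructor
  · intro h m
    have h1 := congrArg (fun g => g.coeff m) h
    rw [← IsLocalRing.residue_eq_zero_iff]
    simpa using h1
  · intro h
    ext m
    have h1 := (IsLocalRing.residue_eq_zero_iff _).2 (h m)
    simpa using h1

variable (r V)

lemma xiI_eq_span (π : V) (hπ : Irreducible π) : xiI r V = Ideal.span {algebraMap V _ π} := by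
  apply le_antisymm
  · intro f hf
    rw [mem_xiI_iff] at hf
    have h1 : ∀ x : V, ∃ c : V, x ∈ IsLocalRing.maximalIdeal V → x = π * c := by
      intro x
      by_cases hx : x ∈ IsLocalRing.maximalIdeal V
      · have h2 := hx
        rw [hπ.maximalIdeal_eq, Ideal.mem_span_singleton] at h2
        obtain ⟨c, hc⟩ := h2
        exact ⟨c, fun _ => hc⟩
      · exact ⟨0, fun h => absurd h hx⟩
    choose c hc using h1
    have hc0 : c 0 = 0 := by
      have h2 := hc 0 (Ideal.zero_mem _)
      exact (mul_eq_zero.1 h2.symm).resolve_left hπ.ne_zero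
    rw [Ideal.mem_span_singleton]
    refine ⟨MonoidAlgebra.ofCoeff (Finsupp.mapRange c hc0 f.coeff), ?_⟩
    rw [← Algebra.smul_def]
    ext m
    rw [MonoidAlgebra.coeff_smul_apply, MonoidAlgebra.coeff_ofCoeff, Finsupp.mapRange_apply, smul_eq_mul]
    exact hc _ (hf m)
  · rw [Ideal.span_le, Set.singleton_subset_iff, SetLike.mem_coe, RingHom.mem_ker]
    have h2 : red V (Fin r → ℤ) (algebraMap V _ π) = algebraMap _ _ (IsLocalRing.residue V π) := by
      have := MonoidAlgebra.mapRingHom_comp_algebraMap (M := Multiplicative (Fin r → ℤ)) (IsLocalRing.residue V)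
      exact RingHom.congr_fun this π
    rw [h2, (IsLocalRing.residue_eq_zero_iff _).2, map_zero]
    exact (IsLocalRing.mem_maximalIdeal _).2 hπ.not_isUnit

lemma xiI_principal : (xiI r V).IsPrincipal := by
  obtain ⟨π, hπ⟩ := IsDiscreteValuationRing.exists_irreducible V
  exact ⟨⟨algebraMap V _ π, xiI_eq_span r V π hπ⟩⟩

/-- The generic point of the special fibre. -/
noncomputable def xi : (Red.DS (Spec (CommRingCat.of V)) (Fin r → ℤ)).left :=
  (univPt V (Fin r → ℤ)).left ⟨xiI r V, inferInstance⟩

lemma dim_xi : ringKrullDim ((Red.DS (Spec (CommRingCat.of V)) (Fin r → ℤ)).left.presheaf.stalk (xi r V)) ≤ 1 := by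
  let A := MonoidAlgebra V (Multiplicative (Fin r → ℤ))
  let x : Spec (CommRingCat.of A) := ⟨xiI r V, inferInstance⟩
  have h1 : ringKrullDim ((Red.DS (Spec (CommRingCat.of V)) (Fin r → ℤ)).left.presheaf.stalk (xi r V)) =
      ringKrullDim ((Spec (CommRingCat.of A)).presheaf.stalk x) :=
    ringKrullDim_eq_of_ringEquiv (asIso ((univPt V (Fin r → ℤ)).left.stalkMap x)).commRingCatIsoToRingEquiv
  rw [h1]
  have hN : IsNoetherianRing A := by
    have h0 : Monoid.FG (Multiplicative (Fin r → ℤ)) := by
      have h1 : Group.FG (Multiplicative (Fin r → ℤ)) := inferInstance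
      exact Monoid.fg_of_group_fg
    exact Algebra.FiniteType.isNoetherianRing V _
  let _ : Algebra A ((Spec (CommRingCat.of A)).presheaf.stalk x) := StructureSheaf.stalkAlgebra A x
  have h2' : IsLocalization.AtPrime ((Spec (CommRingCat.of A)).presheaf.stalk x) (xiI r V) :=
    StructureSheaf.IsLocalization.to_stalk A x
  have h2 : ringKrullDim ((Spec (CommRingCat.of A)).presheaf.stalk x) = (xiI r V).height :=
    IsLocalization.AtPrime.ringKrullDim_eq_height (xiI r V) _
  rw [h2]
  have h3 : (xiI r V).IsPrincipal := xiI_principal r V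
  have h4 := Ideal.height_le_one_of_isPrincipal_of_mem_minimalPrimes (xiI r V) (xiI r V)
    (by rw [Ideal.minimalPrimes_eq_subsingleton_self]; rfl)
  exact_mod_cast h4

variable {r V}

omit [IsDomain V] [IsDiscreteValuationRing V] in
lemma hom_univPt (M : Type) [AddCommGroup M] (y : Spec (CommRingCat.of (MonoidAlgebra V (Multiplicative M)))) :
    (Red.DS (Spec (CommRingCat.of V)) M).hom ((univPt V M).left y) =
      Spec.map (CommRingCat.ofHom (algebraMap V (MonoidAlgebra V (Multiplicative M)))) y := by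
  rw [← Scheme.Hom.comp_apply, Over.w (univPt V M)]
  rfl

omit [IsDomain V] [IsDiscreteValuationRing V] in
lemma exists_univPt (M : Type) [AddCommGroup M] (x : (Red.DS (Spec (CommRingCat.of V)) M).left) :
    ∃ y : Spec (CommRingCat.of (MonoidAlgebra V (Multiplicative M))), (univPt V M).left y = x :=
  (univPt V M).left.surjective x

lemma xi_specializes (x : (Red.DS (Spec (CommRingCat.of V)) (Fin r → ℤ)).left)
    (hx : (Red.DS (Spec (CommRingCat.of V)) (Fin r → ℤ)).hom x = IsLocalRing.closedPoint V) : xi r V ⤳ x := by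
  obtain ⟨y, rfl⟩ := exists_univPt _ x
  rw [hom_univPt] at hx
  refine Specializes.map (f := (univPt V (Fin r → ℤ)).left) ?_ (univPt V (Fin r → ℤ)).left.continuous
  refine (PrimeSpectrum.le_iff_specializes ⟨xiI r V, xiI_isPrime r V⟩ y).1 ?_
  change xiI r V ≤ y.asIdeal
  obtain ⟨π, hπ⟩ := IsDiscreteValuationRing.exists_irreducible V
  rw [xiI_eq_span r V π hπ, Ideal.span_le, Set.singleton_subset_iff]
  have h1 := congrArg PrimeSpectrum.asIdeal hx
  have h2 : π ∈ IsLocalRing.maximalIdeal V := (IsLocalRing.mem_maximalIdeal _).2 hπ.not_isUnit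
  have h3 : π ∈ (Spec.map (CommRingCat.ofHom (algebraMap V (MonoidAlgebra V (Multiplicative (Fin r → ℤ))))) y).asIdeal := by
    rw [h1]; exact h2
  exact h3

lemma comap_red (M : Type) [AddCommGroup M]
    (P : PrimeSpectrum (MonoidAlgebra (IsLocalRing.ResidueField V) (Multiplicative M))) :
    (Spec.map (CommRingCat.ofHom (algebraMap V (MonoidAlgebra V (Multiplicative M)))))
      (PrimeSpectrum.comap (red V M) P) = IsLocalRing.closedPoint V := by
  apply PrimeSpectrum.ext
  refine IsLocalRing.eq_maximalIdeal (Ring.DimensionLEOne.maximalOfPrime ?_ ?_)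
  · obtain ⟨π, hπ⟩ := IsDiscreteValuationRing.exists_irreducible V
    intro h0
    have h1 : π ∈ (Spec.map (CommRingCat.ofHom (algebraMap V (MonoidAlgebra V (Multiplicative M))))
      (PrimeSpectrum.comap (red V M) P)).asIdeal := by
      change red V M (algebraMap V _ π) ∈ P.asIdeal
      have h2 : red V M (algebraMap V _ π) = algebraMap _ _ (IsLocalRing.residue V π) :=
        RingHom.congr_fun (MonoidAlgebra.mapRingHom_comp_algebraMap (M := Multiplicative M) (IsLocalRing.residue V)) π
      rw [h2, (IsLocalRing.residue_eq_zero_iff _).2 ((IsLocalRing.mem_maximalIdeal _).2 hπ.not_isUnit), map_zero]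
      exact Ideal.zero_mem _
    rw [h0] at h1
    exact hπ.ne_zero h1
  · exact (Spec.map (CommRingCat.ofHom (algebraMap V (MonoidAlgebra V (Multiplicative M))))
      (PrimeSpectrum.comap (red V M) P)).isPrime

lemma hom_xi : (Red.DS (Spec (CommRingCat.of V)) (Fin r → ℤ)).hom (xi r V) = IsLocalRing.closedPoint V := by
  exact (hom_univPt _ _).trans (comap_red (Fin r → ℤ) ⟨⊥, Ideal.isPrime_bot⟩)

/-- **Density of the torsion of the special fibre.** -/
theorem xi_mem {q : ℕ} (hq : 1 < q) (hqu : IsUnit (q : V)) (Z : Set (Red.DS (Spec (CommRingCat.of V)) (Fin r → ℤ)).left)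
    (hZ : IsClosed Z) (h : ∀ (k : ℕ) (y : (Red.DS (Spec (CommRingCat.of V)) (Fin r → ZMod (q ^ k))).left),
      (Red.DS (Spec (CommRingCat.of V)) (Fin r → ZMod (q ^ k))).hom y = IsLocalRing.closedPoint V →
      (Red.DSmap (Spec (CommRingCat.of V)) (cz r (q ^ k))).left y ∈ Z) : xi r V ∈ Z := by
  let K := IsLocalRing.ResidueField V
  have hqK : (q : K) ≠ 0 := by
    have h1 : IsUnit (IsLocalRing.residue V (q : V)) := hqu.map _
    rw [map_natCast] at h1
    exact h1.ne_zero
  have h1 : IsClosed ((univPt V (Fin r → ℤ)).left ⁻¹' Z) := hZ.preimage (univPt V (Fin r → ℤ)).left.continuous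
  obtain ⟨I, hI⟩ := (PrimeSpectrum.isClosed_iff_zeroLocus _).1 h1
  change (⟨xiI r V, inferInstance⟩ : PrimeSpectrum (MonoidAlgebra V (Multiplicative (Fin r → ℤ)))) ∈
    (univPt V (Fin r → ℤ)).left ⁻¹' Z
  rw [hI]
  intro f hf
  change red V (Fin r → ℤ) f = 0
  refine eq_zero_of_cz r hq _ fun k => ?_
  have hred : IsReduced (MonoidAlgebra K (Multiplicative (Fin r → ZMod (q ^ k)))) := by
    have : NeZero (q ^ k) := ⟨(pow_pos (by omega) k).ne'⟩
    apply Sga3.H816.TorsDense.isReduced_of_field
    rw [Nat.card_eq_fintype_card]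
    simp [hqK]
  have h3 : qA K (cz r (q ^ k)) (red V (Fin r → ℤ) f) = red V (Fin r → ZMod (q ^ k)) (qA V (cz r (q ^ k)) f) := by
    have h4 : ((qA K (cz r (q ^ k)) : _ →+* _).comp (red V (Fin r → ℤ))) =
        (red V (Fin r → ZMod (q ^ k))).comp (qA V (cz r (q ^ k)) : _ →+* _) := by
      refine MonoidAlgebra.ringHom_ext ?_ ?_
      · intro c
        simp [MonoidAlgebra.mapDomainAlgHom_apply, K]
      · intro m
        simp [MonoidAlgebra.mapDomainAlgHom_apply]
    exact RingHom.congr_fun h4 f
  rw [h3]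
  refine IsNilpotent.eq_zero ?_
  rw [nilpotent_iff_mem_prime]
  intro P hP
  let y : Spec (CommRingCat.of (MonoidAlgebra V (Multiplicative (Fin r → ZMod (q ^ k))))) :=
    PrimeSpectrum.comap (red V (Fin r → ZMod (q ^ k))) ⟨P, hP⟩
  have h4 := h k ((univPt V (Fin r → ZMod (q ^ k))).left y) (by
    rw [hom_univPt]
    exact comap_red (Fin r → ZMod (q ^ k)) ⟨P, hP⟩)
  rw [← Scheme.Hom.comp_apply, ← Over.comp_left, univPt_DSmap, Over.comp_left, Scheme.Hom.comp_apply] at h4
  have h5 : (ptMap (qA V (cz r (q ^ k)))).left y ∈ (univPt V (Fin r → ℤ)).left ⁻¹' Z := h4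
  rw [hI] at h5
  exact h5 hf

end dvr

end K211.SplitTor
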