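import Groth.Agent.SGA3x.K211.SecDiv
import Groth.Agent.SGA3x.K211.Graph
import Groth.Agent.SGA3x.K211.SplitTor
import Groth.Agent.SGA3x.K211.NeutralSec
import Groth.Agent.Sga3C.GenPts

/-!
# Extension of homomorphisms from split tori over a discrete valuation ring

`V` a discrete valuation ring with fraction field `K`, `q > 1` invertible in `V`, `G` a `V`-group of finite type (not
necessarily separated), `φ : D(ℤ^r)_K ⟶ G_K` a homomorphism, `u k : D((ℤ/q^k)^r) ⟶ G` a coherent family of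
homomorphisms over `V` extending the restrictions of `φ`. `exists_hom`: `φ` extends to a homomorphism
`D(ℤ^r) ⟶ G` with restrictions `u k`.
-/

set_option autoImplicit false
universe u
open CategoryTheory MonoidalCategory CartesianMonoidalCategory MonObj GrpObj AlgebraicGeometry Limits

namespace K211.Trait

open Groth.Agent Groth.Agent.Sga3B.DSPts Groth.Agent.Sga3B.InfConj TorsQ SecDiv SplitTor

variable {V : Type u} [CommRing V] [IsDomain V] [IsDiscreteValuationRing V] {r q : ℕ}

/-- A quasi-compact morphism to the split torus whose image contains the torsion of the special fibre reaches the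
generic point of the special fibre. -/
theorem exists_point {H : Over (Spec (CommRingCat.of V))} [QuasiCompact H.hom] (hq : 1 < q) (hqu : IsUnit (q : V))
    (p : H ⟶ Red.DS (Spec (CommRingCat.of V)) (Fin r → ℤ))
    (z : ∀ k, Red.DS (Spec (CommRingCat.of V)) (Fin r → ZMod (q ^ k)) ⟶ H)
    (hzp : ∀ k, z k ≫ p = Red.DSmap _ (cz r (q ^ k))) :
    ∃ x : H.left, H.hom x = IsLocalRing.closedPoint V ∧ p.left x = xi r V := by
  let c : Spec (CommRingCat.of (IsLocalRing.ResidueField V)) ⟶ Spec (CommRingCat.of V) :=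
    Spec.map (CommRingCat.ofHom (IsLocalRing.residue V))
  have hc : Set.range c = {IsLocalRing.closedPoint V} := by
    ext y
    constructor
    · rintro ⟨y, rfl⟩
      exact IsLocalRing.PrimeSpectrum.comap_residue V y
    · rintro rfl
      exact ⟨⟨⊥, Ideal.isPrime_bot⟩, IsLocalRing.PrimeSpectrum.comap_residue V _⟩
  let f : pullback H.hom c ⟶ (Red.DS (Spec (CommRingCat.of V)) (Fin r → ℤ)).left := pullback.fst H.hom c ≫ p.left
  have hpq : QuasiCompact p.left := by
    have h1 : QuasiCompact (p.left ≫ (Red.DS (Spec (CommRingCat.of V)) (Fin r → ℤ)).hom) := by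
      rw [Over.w]; infer_instance
    exact QuasiCompact.of_comp p.left (Red.DS (Spec (CommRingCat.of V)) (Fin r → ℤ)).hom
  have hcq : QuasiCompact (pullback.fst H.hom c) := inferInstance
  have hfq : QuasiCompact f := inferInstance
  have hf : ∀ w, H.hom (pullback.fst H.hom c w) = IsLocalRing.closedPoint V := by
    intro w
    have h1 : H.hom (pullback.fst H.hom c w) ∈ Set.range c := by
      rw [← Scheme.Hom.comp_apply, pullback.condition, Scheme.Hom.comp_apply]
      exact ⟨_, rfl⟩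
    rw [hc] at h1
    exact h1
  have h1 : xi r V ∈ closure (Set.range f) := by
    refine xi_mem hq hqu _ isClosed_closure fun k y hy => subset_closure ?_
    have h2 : H.hom ((z k).left y) = IsLocalRing.closedPoint V := by
      rw [← Scheme.Hom.comp_apply, Over.w (z k)]
      exact hy
    have h3 : (z k).left y ∈ Set.range (pullback.fst H.hom c) := by
      rw [Scheme.Pullback.range_fst, Set.mem_preimage, h2, hc]
      rfl
    obtain ⟨w, hw⟩ := h3
    refine ⟨w, ?_⟩
    rw [Scheme.Hom.comp_apply, hw, ← Scheme.Hom.comp_apply, ← Over.comp_left, hzp]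
  obtain ⟨w, hw⟩ := Sga3C.GenPts.exists_specializes_of_mem_closure_range f _ h1
  refine ⟨pullback.fst H.hom c w, hf w, ?_⟩
  have h2 : xi r V ⤳ f w := by
    apply xi_specializes
    rw [Scheme.Hom.comp_apply, ← Scheme.Hom.comp_apply p.left, Over.w p]
    exact hf w
  exact (hw.antisymm h2).eq

/-- Every point is the image of a geometric point. -/
lemma exists_geomPt {X : Scheme.{u}} (y : X) : ∃ (Ω : Type u) (_ : Field Ω) (_ : IsAlgClosed Ω)
    (y' : Spec (CommRingCat.of Ω) ⟶ X) (t : Spec (CommRingCat.of Ω)), y' t = y := by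
  obtain ⟨t⟩ : Nonempty (Spec (CommRingCat.of (AlgebraicClosure (X.residueField y)))) := inferInstance
  refine ⟨AlgebraicClosure (X.residueField y), inferInstance, inferInstance,
    Spec.map (CommRingCat.ofHom (algebraMap (X.residueField y) (AlgebraicClosure (X.residueField y)))) ≫
      X.fromSpecResidueField y, t, ?_⟩
  rw [Scheme.Hom.comp_apply]
  exact Scheme.fromSpecResidueField_apply _ _

lemma mul_post {S : Scheme.{u}} {A B X : Over S} [GrpObj A] [GrpObj B] {f : A ⟶ B} (hf : IsMonHom f) (x y : X ⟶ A) :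
    (x * y) ≫ f = (x ≫ f) * (y ≫ f) := MonObj.mul_comp _ _ _

lemma isMonHom_inv {S : Scheme.{u}} {X Y : Over S} [GrpObj X] [GrpObj Y] (f : X ⟶ Y) [IsMonHom f] [IsIso f] :
    IsMonHom (inv f) := by
  refine Graph.isMonHom_of_mul _ fun T x y => ?_
  rw [← cancel_mono f, Category.assoc, IsIso.inv_hom_id, Category.comp_id, mul_post ‹IsMonHom f›, Category.assoc,
    Category.assoc, IsIso.inv_hom_id, Category.comp_id, Category.comp_id]

/-- **Extension of homomorphisms from split tori**, the trait case. -/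
theorem exists_hom {G : Over (Spec (CommRingCat.of V))} [GrpObj G] [LocallyOfFiniteType G.hom] [QuasiCompact G.hom]
    (hq : 1 < q) (hqu : IsUnit (q : V))
    (φ : Red.bc (Neron.genPt V) (Red.DS (Spec (CommRingCat.of V)) (Fin r → ℤ)) ⟶ Red.bc (Neron.genPt V) G)
    [IsMonHom φ] (u : ∀ k, Red.DS (Spec (CommRingCat.of V)) (Fin r → ZMod (q ^ k)) ⟶ G) (hu : ∀ k, IsMonHom (u k))
    (hcoh : ∀ j k (h : j ≤ k), Red.DSmap _ (tz r (pow_dvd_pow q h)) ≫ u k = u j)
    (huφ : ∀ k, (Over.pullback (Neron.genPt V)).map (Red.DSmap _ (cz r (q ^ k))) ≫ φ =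
      (Over.pullback (Neron.genPt V)).map (u k)) :
    ∃ Φ : Red.DS (Spec (CommRingCat.of V)) (Fin r → ℤ) ⟶ G, IsMonHom Φ ∧
      (Over.pullback (Neron.genPt V)).map Φ = φ ∧ ∀ k, Red.DSmap _ (cz r (q ^ k)) ≫ Φ = u k := by
  have hinst : IsIntegral (Red.bc (Neron.genPt V) (Red.DS (Spec (CommRingCat.of V)) (Fin r → ℤ))).left := by
    have hne : Nonempty (Red.bc (Neron.genPt V) (Red.DS (Spec (CommRingCat.of V)) (Fin r → ℤ))).left :=
      NeutralSec.nonempty_gen (H := Red.DS (Spec (CommRingCat.of V)) (Fin r → ℤ))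
    exact isIntegral_of_isOpenImmersion (pullback.fst (Red.DS (Spec (CommRingCat.of V)) (Fin r → ℤ)).hom (Neron.genPt V))
  obtain ⟨H, hH, p, s, hp, hs, hfl, hlft, hqc, hint, hiso, hFs, hlift, hext⟩ := Graph.exists_graph φ
  -- the torsion
  have hfin : ∀ k, NeZero (q ^ k) := fun k => ⟨(pow_pos (by omega) k).ne'⟩
  have hflk : ∀ k, Flat (Red.DS (Spec (CommRingCat.of V)) (Fin r → ZMod (q ^ k))).hom := fun k =>
    Sga3.H827.DSFlat.flat_DS _ _
  have hz := fun k => hlift (Red.DS (Spec (CommRingCat.of V)) (Fin r → ZMod (q ^ k))) (Red.DSmap _ (cz r (q ^ k)))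
    (u k) (huφ k)
  choose z hzp hzs using hz
  have hDS : ∀ {M N : Type} [AddCommGroup M] [AddCommGroup N] (ψ : M →+ N),
      IsMonHom (Red.DSmap (Spec (CommRingCat.of V)) ψ) := fun ψ => Sga3.H827.KerLoc.isMonHom_DSmap ψ
  have hzm : ∀ k, IsMonHom (z k) := fun k => by
    refine Graph.isMonHom_of_mul _ fun T a b => hext _ _ _ ?_ ?_
    · rw [Category.assoc, hzp, mul_post (hDS (cz r (q ^ k))), mul_post hp, Category.assoc, Category.assoc, hzp]
    · rw [Category.assoc, hzs, mul_post (hu k), mul_post hs, Category.assoc, Category.assoc, hzs]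
  have hzcoh : ∀ j k (h : j ≤ k), Red.DSmap _ (tz r (pow_dvd_pow q h)) ≫ z k = z j := by
    intro j k h
    refine hext _ _ _ ?_ ?_
    · rw [Category.assoc, hzp, hzp, K7.DSProp.DSmap_comp, tz_comp_cz]
    · rw [Category.assoc, hzs, hzs, hcoh j k h]
  -- quasi-finiteness
  obtain ⟨x, hx, hpx⟩ := exists_point hq hqu p z hzp
  have hdim : ∃ x : H.left, H.hom x = IsLocalRing.closedPoint V ∧
      ringKrullDim ((Red.DS (Spec (CommRingCat.of V)) (Fin r → ℤ)).left.presheaf.stalk (p.left x)) ≤ 1 :=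
    ⟨x, hx, by rw [hpx]; exact dim_xi r V⟩
  have hqf := NeutralSec.locallyQuasiFinite p hdim
  obtain ⟨P, hP, o, ho, hoi, hisoP, hro⟩ := NeutralSec.exists_neutral p (normal_DS r V) hdim
  have hplft : LocallyOfFiniteType p.left := by
    have : LocallyOfFiniteType (p.left ≫ (Red.DS (Spec (CommRingCat.of V)) (Fin r → ℤ)).hom) := by
      rw [Over.w]; infer_instance
    exact locallyOfFiniteType_of_comp p.left (Red.DS (Spec (CommRingCat.of V)) (Fin r → ℤ)).hom
  have hpqc : QuasiCompact p.left := by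
    have h1 : QuasiCompact (p.left ≫ (Red.DS (Spec (CommRingCat.of V)) (Fin r → ℤ)).hom) := by
      rw [Over.w]; infer_instance
    exact QuasiCompact.of_comp p.left (Red.DS (Spec (CommRingCat.of V)) (Fin r → ℤ)).hom
  have hinvm : IsMonHom (inv (o ≫ p)) := isMonHom_inv _
  let w : Red.DS (Spec (CommRingCat.of V)) (Fin r → ℤ) ⟶ H := inv (o ≫ p) ≫ o
  have hwm : IsMonHom w := inferInstance
  have hw : w ≫ p = 𝟙 _ := by rw [Category.assoc, IsIso.inv_hom_id]
  have hzw : ∀ k, z k = Red.DSmap _ (cz r (q ^ k)) ≫ w := by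
    intro k
    have hr : ∀ y : (Red.DS (Spec (CommRingCat.of V)) (Fin r → ZMod (q ^ k))).left, (z k).left y ∈ Set.range o.left := by
      intro y
      obtain ⟨Ω, _, _, y', t, hy'⟩ := exists_geomPt y
      let yy : Over.mk (y' ≫ (Red.DS (Spec (CommRingCat.of V)) (Fin r → ZMod (q ^ k))).hom) ⟶
        Red.DS (Spec (CommRingCat.of V)) (Fin r → ZMod (q ^ k)) := Over.homMk y' rfl
      have h1 := eq_section p w hw (by omega : 0 < q) z hzm hzp hzcoh _ k yy
      have h2 : y' ≫ (z k).left = (y' ≫ (Red.DSmap _ (cz r (q ^ k))).left ≫ (inv (o ≫ p)).left) ≫ o.left := by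
        have h3 := congrArg (fun f => f.left) h1
        simpa [yy, w] using h3
      refine ⟨(y' ≫ (Red.DSmap _ (cz r (q ^ k))).left ≫ (inv (o ≫ p)).left) t, ?_⟩
      rw [← Scheme.Hom.comp_apply, ← h2, Scheme.Hom.comp_apply, hy']
    obtain ⟨l, hl⟩ : ∃ l : (Red.DS (Spec (CommRingCat.of V)) (Fin r → ZMod (q ^ k))).left ⟶ P.left,
        l ≫ o.left = (z k).left :=
      ⟨IsOpenImmersion.lift o.left (z k).left (by rintro _ ⟨y, rfl⟩; exact hr y), IsOpenImmersion.lift_fac _ _ _⟩
    let z' : Red.DS (Spec (CommRingCat.of V)) (Fin r → ZMod (q ^ k)) ⟶ P :=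
      Over.homMk l (by rw [← Over.w o, ← Category.assoc, hl, Over.w])
    have hz' : z' ≫ o = z k := by
      ext1
      exact hl
    have h4 : z' = Red.DSmap _ (cz r (q ^ k)) ≫ inv (o ≫ p) := by
      rw [← cancel_mono (o ≫ p), ← Category.assoc, hz', hzp, Category.assoc, IsIso.inv_hom_id, Category.comp_id]
    rw [← hz', h4, Category.assoc]
  refine ⟨w ≫ s, inferInstance, ?_, fun k => ?_⟩
  · rw [Functor.map_comp, hFs, ← Category.assoc, ← Functor.map_comp, hw, CategoryTheory.Functor.map_id, Category.id_comp]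
  · rw [← Category.assoc, ← hzw, hzs]

/-- **Two homomorphisms from a split torus which agree on the generic fibre are equal.** -/
theorem hom_ext_gen {G : Over (Spec (CommRingCat.of V))} [GrpObj G] [LocallyOfFiniteType G.hom] [QuasiCompact G.hom]
    (Φ Φ' : Red.DS (Spec (CommRingCat.of V)) (Fin r → ℤ) ⟶ G) [IsMonHom Φ] [IsMonHom Φ']
    (h : (Over.pullback (Neron.genPt V)).map Φ = (Over.pullback (Neron.genPt V)).map Φ') : Φ = Φ' := by
  have hinst : IsIntegral (Red.bc (Neron.genPt V) (Red.DS (Spec (CommRingCat.of V)) (Fin r → ℤ))).left := by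
    have hne : Nonempty (Red.bc (Neron.genPt V) (Red.DS (Spec (CommRingCat.of V)) (Fin r → ℤ))).left :=
      NeutralSec.nonempty_gen (H := Red.DS (Spec (CommRingCat.of V)) (Fin r → ℤ))
    exact isIntegral_of_isOpenImmersion (pullback.fst (Red.DS (Spec (CommRingCat.of V)) (Fin r → ℤ)).hom (Neron.genPt V))
  obtain ⟨H, hH, p, s, hp, hs, hfl, hlft, hqc, hint, hiso, hFs, hlift, hext⟩ :=
    Graph.exists_graph ((Over.pullback (Neron.genPt V)).map Φ)
  have hF1 : (Over.pullback (Neron.genPt V)).map (𝟙 (Red.DS (Spec (CommRingCat.of V)) (Fin r → ℤ))) ≫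
      (Over.pullback (Neron.genPt V)).map Φ = (Over.pullback (Neron.genPt V)).map Φ := by
    rw [CategoryTheory.Functor.map_id, Category.id_comp]
  have hF2 : (Over.pullback (Neron.genPt V)).map (𝟙 (Red.DS (Spec (CommRingCat.of V)) (Fin r → ℤ))) ≫
      (Over.pullback (Neron.genPt V)).map Φ = (Over.pullback (Neron.genPt V)).map Φ' := by
    rw [CategoryTheory.Functor.map_id, Category.id_comp, h]
  obtain ⟨z, hz1, hz2⟩ := hlift _ (𝟙 _) Φ hF1
  obtain ⟨z', hz1', hz2'⟩ := hlift _ (𝟙 _) Φ' hF2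
  have hm : ∀ (c : Red.DS (Spec (CommRingCat.of V)) (Fin r → ℤ) ⟶ H) (Ψ : Red.DS (Spec (CommRingCat.of V)) (Fin r → ℤ) ⟶ G)
      (_ : IsMonHom Ψ), c ≫ p = 𝟙 _ → c ≫ s = Ψ → IsMonHom c := by
    intro c Ψ hΨ h1 h2
    refine Graph.isMonHom_of_mul _ fun T a b => hext _ _ _ ?_ ?_
    · rw [Category.assoc, h1, mul_post hp, Category.assoc, Category.assoc, h1, Category.comp_id, Category.comp_id,
        Category.comp_id]
    · rw [Category.assoc, h2, mul_post hΨ, mul_post hs, Category.assoc, Category.assoc, h2]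
  have hzm := hm z Φ inferInstance hz1 hz2
  have hzm' := hm z' Φ' inferInstance hz1' hz2'
  have hdim : ∃ x : H.left, H.hom x = IsLocalRing.closedPoint V ∧
      ringKrullDim ((Red.DS (Spec (CommRingCat.of V)) (Fin r → ℤ)).left.presheaf.stalk (p.left x)) ≤ 1 := by
    refine ⟨z.left (xi r V), ?_, ?_⟩
    · rw [← Scheme.Hom.comp_apply, Over.w z]
      exact hom_xi
    · rw [← Scheme.Hom.comp_apply, ← Over.comp_left, hz1]
      exact dim_xi r V
  have hqf := NeutralSec.locallyQuasiFinite p hdim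
  obtain ⟨P, hP, o, ho, hoi, hisoP, hro⟩ := NeutralSec.exists_neutral p (normal_DS r V) hdim
  have hplft : LocallyOfFiniteType p.left := by
    have : LocallyOfFiniteType (p.left ≫ (Red.DS (Spec (CommRingCat.of V)) (Fin r → ℤ)).hom) := by
      rw [Over.w]; infer_instance
    exact locallyOfFiniteType_of_comp p.left (Red.DS (Spec (CommRingCat.of V)) (Fin r → ℤ)).hom
  have hpqc : QuasiCompact p.left := by
    have h1 : QuasiCompact (p.left ≫ (Red.DS (Spec (CommRingCat.of V)) (Fin r → ℤ)).hom) := by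
      rw [Over.w]; infer_instance
    exact QuasiCompact.of_comp p.left (Red.DS (Spec (CommRingCat.of V)) (Fin r → ℤ)).hom
  have hinvm : IsMonHom (inv (o ≫ p)) := isMonHom_inv _
  let w : Red.DS (Spec (CommRingCat.of V)) (Fin r → ℤ) ⟶ H := inv (o ≫ p) ≫ o
  have hwm : IsMonHom w := inferInstance
  have hw : w ≫ p = 𝟙 _ := by rw [Category.assoc, IsIso.inv_hom_id]
  have key : ∀ (c : Red.DS (Spec (CommRingCat.of V)) (Fin r → ℤ) ⟶ H) (_ : IsMonHom c), c ≫ p = 𝟙 _ → c = w := by
    intro c hcm hc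
    have hr : ∀ y : (Red.DS (Spec (CommRingCat.of V)) (Fin r → ℤ)).left, c.left y ∈ Set.range o.left := by
      intro y
      obtain ⟨Ω, _, _, y', t, hy'⟩ := exists_geomPt y
      let yy : Over.mk (y' ≫ (Red.DS (Spec (CommRingCat.of V)) (Fin r → ℤ)).hom) ⟶
        Red.DS (Spec (CommRingCat.of V)) (Fin r → ℤ) := Over.homMk y' rfl
      have h1 := eq_of_sections p w c hw hc _ yy
      have h2 : y' ≫ c.left = (y' ≫ (inv (o ≫ p)).left) ≫ o.left := by
        have h3 := congrArg (fun f => f.left) h1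
        simpa [yy, w] using h3
      refine ⟨(y' ≫ (inv (o ≫ p)).left) t, ?_⟩
      rw [← Scheme.Hom.comp_apply, ← h2, Scheme.Hom.comp_apply, hy']
    obtain ⟨l, hl⟩ : ∃ l : (Red.DS (Spec (CommRingCat.of V)) (Fin r → ℤ)).left ⟶ P.left, l ≫ o.left = c.left :=
      ⟨IsOpenImmersion.lift o.left c.left (by rintro _ ⟨y, rfl⟩; exact hr y), IsOpenImmersion.lift_fac _ _ _⟩
    let c' : Red.DS (Spec (CommRingCat.of V)) (Fin r → ℤ) ⟶ P :=
      Over.homMk l (by rw [← Over.w o, ← Category.assoc, hl, Over.w])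
    have hc' : c' ≫ o = c := by
      ext1
      exact hl
    have h4 : c' = inv (o ≫ p) := by
      rw [← cancel_mono (o ≫ p), ← Category.assoc, hc', hc, IsIso.inv_hom_id]
    rw [← hc', h4]
  rw [← hz2, ← hz2', key z hzm hz1, key z' hzm' hz1']

end K211.Trait
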