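import Mathlib.Topology.Sober
import Mathlib.Topology.NoetherianSpace
import Mathlib.Topology.Connected.Clopen

/-!
# Properties stable under specialisation and generisation
-/

set_option autoImplicit false
open TopologicalSpace

namespace K211.Conn

theorem isClosed_of_stable {X : Type*} [TopologicalSpace X] [NoetherianSpace X] [QuasiSober X]
    (Q : X → Prop) (h1 : ∀ t s, t ⤳ s → Q t → Q s) (h2 : ∀ t s, t ⤳ s → Q s → Q t) : IsClosed {x | Q x} := by
  have h3 : {x | Q x} = ⋃ Z ∈ {Z ∈ irreducibleComponents X | Z ⊆ {x | Q x}}, Z := by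
    ext z
    constructor
    · intro hz
      refine Set.mem_iUnion₂.2 ⟨irreducibleComponent z, ⟨irreducibleComponent_mem_irreducibleComponents z, ?_⟩,
        mem_irreducibleComponent⟩
      intro w hw
      obtain ⟨ξ, hξ⟩ := QuasiSober.sober (isIrreducible_irreducibleComponent (x := z)) isClosed_irreducibleComponent
      have h4 : ξ ⤳ z := hξ.specializes mem_irreducibleComponent
      have h5 : ξ ⤳ w := hξ.specializes hw
      exact h1 _ _ h5 (h2 _ _ h4 hz)
    · intro hz
      obtain ⟨Z, hZ, hzZ⟩ := Set.mem_iUnion₂.1 hz
      exact hZ.2 hzZ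
  rw [h3]
  refine Set.Finite.isClosed_biUnion (NoetherianSpace.finite_irreducibleComponents.subset (Set.sep_subset _ _))
    fun Z hZ => isClosed_of_mem_irreducibleComponents Z hZ.1

/-- A property of the points of a connected Noetherian sober space which is stable under specialisation and
generisation holds everywhere as soon as it holds somewhere. -/
theorem forall_of_stable {X : Type*} [TopologicalSpace X] [NoetherianSpace X] [QuasiSober X] [PreconnectedSpace X]
    (P : X → Prop) (h1 : ∀ t s, t ⤳ s → P t → P s) (h2 : ∀ t s, t ⤳ s → P s → P t) {x : X} (hx : P x) (y : X) : P y := by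
  have h3 : IsClopen {x | P x} := by
    refine ⟨isClosed_of_stable P h1 h2, ?_⟩
    have h4 := isClosed_of_stable (fun x => ¬ P x) (fun t s h hn hs => hn (h2 t s h hs)) (fun t s h hn ht => hn (h1 t s h ht))
    rw [← isOpen_compl_iff] at h4
    convert h4 using 1
    ext z
    simp
  have h4 : y ∈ {x | P x} := by
    rw [h3.eq_univ ⟨x, hx⟩]
    trivial
  exact h4

end K211.Conn
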