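import Groth.Agent.SGA3x.K211.NearStep
import Groth.Agent.S8440

/-!
# Subtori with given torsion from their fibres
-/

set_option autoImplicit false
set_option linter.dupNamespace false
universe u
open CategoryTheory MonoidalCategory CartesianMonoidalCategory MonObj GrpObj AlgebraicGeometry Limits

namespace K211.Main

open Groth.Agent Groth.Agent.Sga3B TorsQ FibD K207.FibDesc DPull

/-- Reduced bases. -/
theorem exists_torus_of_reduced {A : Type u} [CommRing A] [IsNoetherianRing A] [_root_.IsReduced A] {q : ℕ} (hq : 1 < q)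
    (hqu : IsUnit (q : A)) {G : Over (Spec (CommRingCat.of A))} [GrpObj G] [QuasiCompact G.hom] [LocallyOfFiniteType G.hom]
    {M : ℕ → Over (Spec (CommRingCat.of A))} [grp : ∀ k, GrpObj (M k)] {m : ∀ k, M k ⟶ G} (hm : Coh q m)
    (hfib : ∀ s : ↥(Spec (CommRingCat.of A)), FD q m ((Spec (CommRingCat.of A)).fromSpecResidueField s)) :
    ∃ (T : Over (Spec (CommRingCat.of A))) (_ : GrpObj T) (j : T ⟶ G), IsMonHom j ∧ Mono j ∧ Red.IsTorus T ∧
      ∀ k, ∃ g : M k ⟶ T, g ≫ j = m k ∧ AlgGrp.IsKernel g ((𝟙 T : T ⟶ T) ^ (q ^ k)) := by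
  have hno : IsLocallyNoetherian (Spec (CommRingCat.of A)) := inferInstance
  exact K207.SubTor.exists_of_etale_local hq (fun k => (hm.hm k).2.1) fun s => NearStep.near hq hqu hm hfib s

/-- **Subtori with given torsion exist as soon as they exist on the fibres.** -/
theorem exists_torus_of_fibres {A : Type u} [CommRing A] [IsNoetherianRing A] {q : ℕ} (hq : 1 < q)
    (hqu : IsUnit (q : A)) {G : Over (Spec (CommRingCat.of A))} [GrpObj G] [QuasiCompact G.hom] [LocallyOfFiniteType G.hom]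
    {M : ℕ → Over (Spec (CommRingCat.of A))} [grp : ∀ k, GrpObj (M k)] {m : ∀ k, M k ⟶ G} (hm : Coh q m)
    (hfib : ∀ s : ↥(Spec (CommRingCat.of A)), FD q m ((Spec (CommRingCat.of A)).fromSpecResidueField s)) :
    ∃ (T : Over (Spec (CommRingCat.of A))) (_ : GrpObj T) (j : T ⟶ G), IsMonHom j ∧ Mono j ∧ Red.IsTorus T ∧
      ∀ k, ∃ g : M k ⟶ T, g ≫ j = m k ∧ AlgGrp.IsKernel g ((𝟙 T : T ⟶ T) ^ (q ^ k)) := by
  let J : Ideal A := nilradical A
  have hJ : IsNilpotent J := IsNoetherianRing.isNilpotent_nilradical A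
  have hred : _root_.IsReduced (A ⧸ J) := (Ideal.isRadical_iff_quotient_reduced J).1 (Ideal.radical_isRadical _)
  let v : Spec (CommRingCat.of (A ⧸ J)) ⟶ Spec (CommRingCat.of A) := Spec.map (CommRingCat.ofHom (Ideal.Quotient.mk J))
  have hqJ : IsUnit (q : A ⧸ J) := by
    have h1 := hqu.map (Ideal.Quotient.mk J)
    rwa [map_natCast] at h1
  have hlft : LocallyOfFiniteType (Red.bc v G).hom := inferInstanceAs (LocallyOfFiniteType (pullback.snd _ _))
  have hqc : QuasiCompact (Red.bc v G).hom := inferInstanceAs (QuasiCompact (pullback.snd _ _))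
  obtain ⟨T₀, _, j₀, h1, h2, h3, h4⟩ := exists_torus_of_reduced hq hqJ (hm.bc v) (fd_up hfib v)
  obtain ⟨T, gT, j, h5, h6, h7, -, h8⟩ := (S8440.result A J hJ G T₀ j₀ h3 q hq hqu M grp m hm.hm hm.hcoh h4).1
  exact ⟨T, gT, j, h5, h6, h7, h8⟩

end K211.Main
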