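import Groth.Agent.SGA3x.K12.CentEq
import Groth.Agent.Sga3.H816.TorsDense

/-!
# Density of the `q`-power torsion in a split torus, over an arbitrary base

* `cz r n : ℤ^r → (ℤ/n)^r`, `tz r h : (ℤ/n)^r → (ℤ/m)^r` for `m ∣ n`;
* `exists_injOn`, `eq_zero_of_cz` : finite subsets of `ℤ^r` are separated by some `(ℤ/q^k)^r`;
* `eq_of_cz` : two morphisms `D(ℤ^r) ⟶ G` (`G` any group scheme over `Spec C`) which agree on `D((ℤ/q^k)^r)` for
  all `k` are equal.
-/

set_option autoImplicit false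
universe u
open CategoryTheory MonoidalCategory CartesianMonoidalCategory MonObj GrpObj AlgebraicGeometry Limits

namespace K211.TorsQ

open Groth.Agent Groth.Agent.Sga3.H827 Groth.Agent.Sga3B.DSPts Groth.Agent.Sga3B.InfConj
  Groth.Agent.Sga3B.InfConjFam KerPts Groth.Agent.SGA3x.K5.Clopen K12.Central

/-- Reduction `ℤ^r → (ℤ/n)^r`. -/
abbrev cz (r n : ℕ) : (Fin r → ℤ) →+ (Fin r → ZMod n) := (Int.castAddHom (ZMod n)).compLeft (Fin r)

/-- The transition maps. -/
abbrev tz (r : ℕ) {m n : ℕ} (h : m ∣ n) : (Fin r → ZMod n) →+ (Fin r → ZMod m) :=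
  ((ZMod.castHom h (ZMod m)).toAddMonoidHom).compLeft (Fin r)

@[simp] lemma cz_apply (r n : ℕ) (x : Fin r → ℤ) (i : Fin r) : cz r n x i = (x i : ZMod n) := rfl

lemma tz_comp_cz (r : ℕ) {m n : ℕ} (h : m ∣ n) : (tz r h).comp (cz r n) = cz r m := by
  ext x i
  simp [AddMonoidHom.compLeft]

lemma tz_comp_tz (r : ℕ) {l m n : ℕ} (h : m ∣ n) (h' : l ∣ m) : (tz r h').comp (tz r h) = tz r (h'.trans h) := by
  refine AddMonoidHom.ext fun x => funext fun i => ?_
  exact RingHom.congr_fun (RingHom.ext_zmod ((ZMod.castHom h' (ZMod l)).comp (ZMod.castHom h (ZMod m)))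
    (ZMod.castHom (h'.trans h) (ZMod l))) (x i)

lemma cz_surjective (r n : ℕ) : Function.Surjective (cz r n) := by
  intro y
  choose x hx using fun i => ZMod.intCast_surjective (y i)
  exact ⟨x, funext hx⟩

lemma tz_surjective (r : ℕ) {m n : ℕ} (h : m ∣ n) : Function.Surjective (tz r h) := by
  intro y
  obtain ⟨x, rfl⟩ := cz_surjective r m y
  exact ⟨cz r n x, by rw [← tz_comp_cz r h]; rfl⟩

/-- Finite subsets of `ℤ^r` are separated by `(ℤ/q^k)^r` for `k` large. -/
theorem exists_injOn (r : ℕ) {q : ℕ} (hq : 1 < q) (F : Finset (Fin r → ℤ)) :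
    ∃ k₀, ∀ k, k₀ ≤ k → Set.InjOn (cz r (q ^ k)) (F : Set (Fin r → ℤ)) := by
  classical
  let B : ℕ := ∑ x ∈ F, ∑ i, (x i).natAbs
  have hB : ∀ x ∈ F, ∀ i, (x i).natAbs ≤ B := by
    intro x hx i
    refine (Finset.single_le_sum (f := fun i => (x i).natAbs) (fun _ _ => Nat.zero_le _)
      (Finset.mem_univ i)).trans ?_
    exact Finset.single_le_sum (f := fun x : Fin r → ℤ => ∑ i, (x i).natAbs) (fun _ _ => Nat.zero_le _) hx
  refine ⟨2 * B + 1, fun k hk x hx y hy hxy => ?_⟩
  funext i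
  have h1 : ((x i : ℤ) : ZMod (q ^ k)) = (y i : ℤ) := congrFun hxy i
  rw [← sub_eq_zero, ← Int.cast_sub, ZMod.intCast_zmod_eq_zero_iff_dvd] at h1
  by_contra hne
  have h2 : x i - y i ≠ 0 := sub_ne_zero.2 hne
  have h3 : (q ^ k : ℕ) ≤ (x i - y i).natAbs := by
    have := Int.natAbs_dvd_natAbs.2 h1
    exact Nat.le_of_dvd (Int.natAbs_pos.2 h2) (by simpa using this)
  have h4 : (x i - y i).natAbs ≤ (x i).natAbs + (y i).natAbs := Int.natAbs_sub_le _ _
  have h5 : k < q ^ k := Nat.lt_pow_self hq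
  have h6 := hB x hx i
  have h7 := hB y hy i
  omega

lemma sep (r : ℕ) {q : ℕ} (hq : 1 < q) :
    Sga3.H816.TorsDense.Sep (fun k : ℕ => AddMonoidHom.toMultiplicative (cz r (q ^ k))) := by
  classical
  intro F
  obtain ⟨k, hk⟩ := exists_injOn r hq (F.image Multiplicative.toAdd)
  refine ⟨k, fun x hx y hy hxy => ?_⟩
  have h1 := hk k le_rfl (Finset.mem_coe.2 (Finset.mem_image_of_mem _ hx))
    (Finset.mem_coe.2 (Finset.mem_image_of_mem _ hy)) (by exact hxy)
  exact h1

/-- The map of group algebras. -/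
noncomputable abbrev qA (C : Type u) [CommRing C] {M M' : Type} [AddCommGroup M] [AddCommGroup M'] (φ : M →+ M') :
    MonoidAlgebra C (Multiplicative M) →ₐ[C] MonoidAlgebra C (Multiplicative M') :=
  MonoidAlgebra.mapDomainAlgHom C C (AddMonoidHom.toMultiplicative φ)

lemma eq_zero_of_cz {C : Type u} [CommRing C] (r : ℕ) {q : ℕ} (hq : 1 < q)
    (x : MonoidAlgebra C (Multiplicative (Fin r → ℤ))) (hx : ∀ k, qA C (cz r (q ^ k)) x = 0) : x = 0 :=
  Sga3.H816.TorsDense.eq_zero_of_sep (sep r hq) x hx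

variable {C : Type u} [CommRing C] {M M' : Type} [AddCommGroup M] [AddCommGroup M']
  {G : Over (Spec (CommRingCat.of C))}

/-- `D(φ)` on universal points. -/
lemma univPt_DSmap (φ : M →+ M') :
    univPt C M' ≫ Red.DSmap (Spec (CommRingCat.of C)) φ = ptMap (qA C φ) ≫ univPt C M := by
  rw [univPt, univPt, ptMap_charPt, charPt, dsEquiv_DSmap, charPt]
  congr 1
  ext m
  simp [qA]

variable {r q : ℕ} {a b : Red.DS (Spec (CommRingCat.of C)) (Fin r → ℤ) ⟶ G}

lemma ptMap_of_cz (h : ∀ k, Red.DSmap _ (cz r (q ^ k)) ≫ a = Red.DSmap _ (cz r (q ^ k)) ≫ b) (k : ℕ) :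
    ptMap (qA C (cz r (q ^ k))) ≫ univPt C _ ≫ a = ptMap (qA C (cz r (q ^ k))) ≫ univPt C _ ≫ b := by
  rw [← Category.assoc, ← univPt_DSmap, Category.assoc, h k, ← Category.assoc, univPt_DSmap, Category.assoc]

/-- Agreement on the `q`-power torsion, `G` separated. -/
theorem eq_of_cz_separated (hq : 1 < q) [IsSeparated G.hom]
    (h : ∀ k, Red.DSmap _ (cz r (q ^ k)) ≫ a = Red.DSmap _ (cz r (q ^ k)) ≫ b) : a = b := by
  obtain ⟨J, hJ⟩ := K12.MonoNhd.exists_ideal (univPt C _ ≫ a) (univPt C _ ≫ b)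
  have h0 : ∀ j ∈ J, j = 0 := by
    intro j hj
    refine eq_zero_of_cz r hq j fun k => ?_
    have h2 := (hJ _ _).1 (ptMap_of_cz h k) j hj
    rw [gl_ptMap] at h2
    exact (map_eq_zero_iff _ (gPt_injective C _)).1 h2
  have h1 : univPt C _ ≫ a = univPt C _ ≫ b := by
    have h2 := (hJ (pt C _) (𝟙 _)).2 (fun j hj => by rw [h0 j hj, map_zero])
    rwa [Category.id_comp, Category.id_comp] at h2
  obtain ⟨t, ht⟩ := exists_eq_comp_charPt (𝟙 (Red.DS (Spec (CommRingCat.of C)) (Fin r → ℤ)))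
  rw [← Category.id_comp a, ← Category.id_comp b, ht, Category.assoc, Category.assoc, h1]

section pts

variable {S : Scheme.{u}} {r : ℕ}

/-- A point of order `n` of `D(ℤ^r)` comes from `D((ℤ/n)^r)`. -/
lemma exists_fac {T : Over S} (x : T ⟶ Red.DS S (Fin r → ℤ)) (n : ℕ) (hx : x ^ n = 1) :
    ∃ y : T ⟶ Red.DS S (Fin r → ZMod n), x = y ≫ Red.DSmap S (cz r n) := by
  let χ : Multiplicative (Fin r → ℤ) →* Γ(T.left, ⊤)ˣ := (dsChar x).toHomUnits
  have hx' : ∀ m, dsChar x m ^ n = 1 := by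
    intro m
    have h1 : dsChar x ^ n = 1 := by
      change ((dsEquiv T _).symm x) ^ n = 1
      rw [← map_pow, hx, map_one]
    rw [← MonoidHom.pow_apply, h1]
    rfl
  have hker : (AddMonoidHom.toMultiplicative (cz r n)).ker ≤ χ.ker := by
    intro m hm
    have h1 : ∀ i, ((Multiplicative.toAdd m i : ℤ) : ZMod n) = 0 := fun i => congrFun hm i
    choose c hc using fun i => (ZMod.intCast_zmod_eq_zero_iff_dvd _ n).1 (h1 i)
    have h2 : m = (Multiplicative.ofAdd c) ^ n := by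
      change m = Multiplicative.ofAdd (n • c)
      apply Multiplicative.toAdd.injective
      funext i
      simpa using hc i
    rw [MonoidHom.mem_ker, h2, map_pow]
    ext
    push_cast
    exact hx' _
  obtain ⟨y, hy⟩ : ∃ y : Multiplicative (Fin r → ZMod n) →* Γ(T.left, ⊤)ˣ,
      y.comp (AddMonoidHom.toMultiplicative (cz r n)) = χ :=
    ⟨MonoidHom.liftOfSurjective (AddMonoidHom.toMultiplicative (cz r n)) (cz_surjective r n) ⟨χ, hker⟩,
      MonoidHom.liftOfRightInverse_comp _ _ _ _⟩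
  refine ⟨dsEquiv T _ ((Units.coeHom _).comp y), ?_⟩
  rw [dsEquiv_DSmap, MonoidHom.comp_assoc, hy]
  conv_lhs => rw [← dsEquiv_dsChar x]
  rfl

lemma DSmap_cz_pow (n : ℕ) : (Red.DSmap S (cz r n)) ^ n = 1 := by
  apply (dsEquiv _ (Fin r → ℤ)).symm.injective
  rw [map_pow, map_one]
  have h0 : (dsEquiv _ (Fin r → ℤ)).symm (Red.DSmap S (cz r n)) =
      (dsChar (𝟙 (Red.DS S (Fin r → ZMod n)))).comp (AddMonoidHom.toMultiplicative (cz r n)) := by
    rw [← dsChar_DSmap, Category.id_comp]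
    rfl
  rw [h0]
  refine MonoidHom.ext fun m => ?_
  change (dsChar (𝟙 (Red.DS S (Fin r → ZMod n))) (AddMonoidHom.toMultiplicative (cz r n) m)) ^ n = 1
  rw [← map_pow, ← map_pow]
  have h1 : AddMonoidHom.toMultiplicative (cz r n) (m ^ n) = 1 := by
    change Multiplicative.ofAdd (cz r n (n • Multiplicative.toAdd m)) = 1
    rw [map_nsmul]
    change Multiplicative.ofAdd _ = Multiplicative.ofAdd 0
    congr 1
    funext i
    simp
  rw [h1, map_one]

/-- Agreement on the points of `q`-power order. -/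
def QT (q : ℕ) {H G : Over S} [GrpObj H] (a b : H ⟶ G) : Prop :=
  ∀ (T : Over S) (x : T ⟶ H) (k : ℕ), x ^ (q ^ k) = 1 → x ≫ a = x ≫ b

theorem qt_iff {q : ℕ} {G : Over S} (a b : Red.DS S (Fin r → ℤ) ⟶ G) :
    QT q a b ↔ ∀ k, Red.DSmap S (cz r (q ^ k)) ≫ a = Red.DSmap S (cz r (q ^ k)) ≫ b := by
  constructor
  · intro h k
    exact h _ _ k (DSmap_cz_pow _)
  · intro h T x k hx
    obtain ⟨y, rfl⟩ := exists_fac x _ hx
    rw [Category.assoc, Category.assoc, h k]

variable {S' : Scheme.{u}} {H G : Over S} [GrpObj H] {a b : H ⟶ G} {q : ℕ}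

theorem QT.map (h : QT q a b) (v : S' ⟶ S) :
    QT q (H := Red.bc v H) (G := Red.bc v G) ((Over.pullback v).map a) ((Over.pullback v).map b) := by
  intro T x k hx
  apply (Sga3B.BcPts.bcEquiv v T G).symm.injective
  rw [Sga3B.BcPts.bcEquiv_symm_comp, Sga3B.BcPts.bcEquiv_symm_comp]
  refine h _ _ k ?_
  change ((Sga3B.BcPts.bcMulEquiv v T H).symm x) ^ (q ^ k) = 1
  rw [← map_pow, hx, map_one]

theorem QT.pre {H' : Over S} [GrpObj H'] (h : QT q a b) (e : H' ⟶ H) [IsMonHom e] : QT q (e ≫ a) (e ≫ b) := by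
  intro T x k hx
  rw [← Category.assoc, ← Category.assoc]
  refine h _ _ k ?_
  rw [← MonObj.pow_comp, hx, MonObj.one_comp]

end pts

/-- Agreement on the points of `q`-power order, over a field. -/
theorem eqz_of_field [GrpObj G] (hq : 1 < q) (h : QT q a b) {k : Type u} [Field k] (ρ : C →+* k) :
    Eqz a b (Over.mk (Spec.map (CommRingCat.ofHom ρ))) := by
  let v : Spec (CommRingCat.of k) ⟶ Spec (CommRingCat.of C) := Spec.map (CommRingCat.ofHom ρ)
  let i := (Sga3B.TorusAlgClosed.dsBcIso v (Fin r → ℤ)).inv.hom.hom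
  have hi : IsMonHom i := inferInstance
  have hi' : IsIso i := inferInstanceAs (IsIso ((Grp.forget _).map (Sga3B.TorusAlgClosed.dsBcIso v _).inv))
  have hsep : IsSeparated (Red.bc v G).hom := Localalg.GrpSchComp2.isSeparated_hom _
  have h1 : i ≫ (Over.pullback v).map a = i ≫ (Over.pullback v).map b :=
    eq_of_cz_separated hq ((qt_iff _ _).1 ((h.map v).pre i))
  rw [eqz_mk_iff]
  exact (cancel_epi i).1 h1

/-- **Density of the `q`-power torsion**, `G` an arbitrary group scheme. -/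
theorem eq_of_qt [GrpObj G] (hq : 1 < q) (h : QT q a b) : a = b := by
  apply K12.CentEq.eq_of_univPt
  ext1
  let A := MonoidAlgebra C (Multiplicative (Fin r → ℤ))
  refine K12.Agree.eq_of_points (A := A) (univPt C _ ≫ a).left (univPt C _ ≫ b).left ?_ (K := ℕ)
    (fun l => RingHom.ker (qA C (cz r (q ^ l)))) ?_ ?_
  · intro t
    have hp : t.asIdeal.IsPrime := t.isPrime
    let k := t.asIdeal.ResidueField
    refine ⟨Spec (CommRingCat.of k), Spec.map (CommRingCat.ofHom (algebraMap A k)), ?_, ?_⟩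
    · change t ∈ Set.range (PrimeSpectrum.comap (algebraMap A k))
      refine ⟨⊥, ?_⟩
      apply PrimeSpectrum.ext
      exact (RingHom.ker_eq_comap_bot (algebraMap A k)).symm.trans t.asIdeal.ker_algebraMap_residueField
    · have h1 := eqz_of_field hq h (algebraMap C k)
      let y : pt C k ⟶ pt C A := ptMap (IsScalarTower.toAlgHom C A k)
      have h2 := h1 (pt C k) (𝟙 _) (y ≫ univPt C _)
      rw [Category.assoc, Category.assoc] at h2
      exact congrArg (fun f => Over.Hom.left f) h2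
  · rw [eq_bot_iff]
    intro x hx
    rw [Ideal.mem_iInf] at hx
    exact (Ideal.mem_bot).2 (eq_zero_of_cz r hq x fun l => hx l)
  · intro l
    let I : Ideal A := RingHom.ker (qA C (cz r (q ^ l)))
    let χ : Multiplicative (Fin r → ℤ) →* A ⧸ I := (Ideal.Quotient.mk I : A →* A ⧸ I).comp (MonoidAlgebra.of C _)
    have hn : charPt (C := C) χ ^ (q ^ l) = 1 := by
      rw [← K12.TorsAgree.charPt_pow]
      have h1 : χ ^ (q ^ l) = 1 := by
        refine MonoidHom.ext fun m => ?_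
        rw [MonoidHom.pow_apply, ← map_pow]
        change Ideal.Quotient.mk I (MonoidAlgebra.of C _ (m ^ (q ^ l))) = 1
        rw [← map_one (Ideal.Quotient.mk I), Ideal.Quotient.eq]
        change _ ∈ RingHom.ker _
        rw [RingHom.mem_ker, map_sub, map_one, sub_eq_zero]
        have h2 : AddMonoidHom.toMultiplicative (cz r (q ^ l)) (m ^ (q ^ l)) = 1 := by
          change Multiplicative.ofAdd (cz r (q ^ l) ((q ^ l) • Multiplicative.toAdd m)) = 1
          rw [map_nsmul]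
          change Multiplicative.ofAdd _ = Multiplicative.ofAdd 0
          congr 1
          funext i
          simp
        change MonoidAlgebra.mapDomainAlgHom C C (AddMonoidHom.toMultiplicative (cz r (q ^ l)))
          (MonoidAlgebra.single (m ^ (q ^ l)) 1) = 1
        rw [MonoidAlgebra.mapDomainAlgHom_apply, MonoidAlgebra.mapDomain_single, h2]
        rfl
      rw [h1, K12.TorsAgree.charPt_one]
    have h1 := h _ _ l hn
    have h4 : charPt (C := C) χ = ptMap (Ideal.Quotient.mkₐ C I) ≫ univPt C _ := by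
      unfold univPt
      rw [ptMap_charPt]
      rfl
    rw [h4, Category.assoc, Category.assoc] at h1
    exact congrArg (fun f => Over.Hom.left f) h1

/-- **Density of the `q`-power torsion**: two morphisms `D(ℤ^r) ⟶ G` agreeing on the `D((ℤ/q^k)^r)` are equal. -/
theorem eq_of_cz [GrpObj G] (hq : 1 < q)
    (h : ∀ k, Red.DSmap _ (cz r (q ^ k)) ≫ a = Red.DSmap _ (cz r (q ^ k)) ≫ b) : a = b :=
  eq_of_qt hq ((qt_iff _ _).2 h)

end K211.TorsQ
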