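import Mathlib.RingTheory.LocalRing.ResidueField.Ideal
import Mathlib.RingTheory.Localization.LocalizationLocalization
import Mathlib.RingTheory.Localization.Integer
import Mathlib.RingTheory.FiniteType

/-!
# Algebras of finite type over `A` with values in a residue field
-/

set_option autoImplicit false
universe u

namespace K211.AwayFac

variable {A : Type u} [CommRing A] (P : Ideal A) [P.IsPrime]

/-- The canonical map `(A/P)_f → κ(P)`. -/
theorem exists_iota (f : A) (hf : f ∉ P) :
    ∃ ι : Localization.Away (Ideal.Quotient.mk P f) →ₐ[A] P.ResidueField,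
      Function.Injective ι ∧ (∀ (c : A ⧸ P) (n : ℕ) (x : P.ResidueField),
        algebraMap (A ⧸ P) P.ResidueField (Ideal.Quotient.mk P f) ^ n * x = algebraMap _ _ c → x ∈ ι.range) ∧
      ∀ (K : Type u) [Field K] (g : Localization.Away (Ideal.Quotient.mk P f) →+* K), Function.Injective g →
        ∃ g' : P.ResidueField →+* K, g'.comp ι.toRingHom = g := by
  let m : A ⧸ P := Ideal.Quotient.mk P f
  have hm : m ≠ 0 := by
    intro h
    exact hf (Ideal.Quotient.eq_zero_iff_mem.1 h)
  have hmK : IsUnit (algebraMap (A ⧸ P) P.ResidueField m) := by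
    rw [isUnit_iff_ne_zero]
    intro h
    exact hm (Ideal.injective_algebraMap_quotient_residueField P (by rw [h, map_zero]))
  let ι₀ : Localization.Away m →ₐ[A ⧸ P] P.ResidueField :=
    IsLocalization.liftAlgHom (M := Submonoid.powers m) (S := Localization.Away m)
      (f := Algebra.ofId (A ⧸ P) P.ResidueField) (by
        rintro ⟨_, n, rfl⟩
        change IsUnit (algebraMap (A ⧸ P) P.ResidueField (m ^ n))
        rw [map_pow]
        exact hmK.pow n)
  let : Algebra (Localization.Away m) P.ResidueField := (ι₀ : _ →+* _).toAlgebra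
  have htow : IsScalarTower (A ⧸ P) (Localization.Away m) P.ResidueField :=
    IsScalarTower.of_algebraMap_eq fun x => (ι₀.commutes x).symm
  have hfr : IsFractionRing (Localization.Away m) P.ResidueField :=
    IsFractionRing.isFractionRing_of_isDomain_of_isLocalization (Submonoid.powers m) (Localization.Away m) P.ResidueField
  have hdom : IsDomain (Localization.Away m) :=
    IsLocalization.isDomain_localization (powers_le_nonZeroDivisors_of_noZeroDivisors hm)
  let ι : Localization.Away m →ₐ[A] P.ResidueField := ι₀.restrictScalars A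
  have hι : Function.Injective ι := IsFractionRing.injective (Localization.Away m) P.ResidueField
  refine ⟨ι, hι, fun c n x hx => ?_, fun K _ g hg => ⟨IsFractionRing.lift hg, ?_⟩⟩
  · refine ⟨IsLocalization.mk' _ c (⟨m ^ n, n, rfl⟩ : Submonoid.powers m), ?_⟩
    have h1 : algebraMap (A ⧸ P) P.ResidueField (m ^ n) * ι (IsLocalization.mk' _ c (⟨m ^ n, n, rfl⟩ : Submonoid.powers m)) =
        algebraMap _ _ c := by
      have h2 : algebraMap (A ⧸ P) P.ResidueField (m ^ n) = ι₀ (algebraMap _ _ (m ^ n)) := (ι₀.commutes _).symm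
      rw [h2]
      change ι₀ _ * ι₀ _ = _
      rw [← map_mul, mul_comm]
      have h3 := IsLocalization.mk'_spec (Localization.Away m) c (⟨m ^ n, n, rfl⟩ : Submonoid.powers m)
      change _ * algebraMap _ _ (m ^ n) = _ at h3
      rw [h3]
      exact ι₀.commutes c
    rw [← hx, map_pow] at h1
    exact (hmK.pow n).mul_left_cancel h1
  · ext x
    exact IsFractionRing.lift_algebraMap hg x

/-- An algebra of finite type with a morphism to `κ(P)` has a morphism to `(A/P)_f`. -/
theorem exists_factor {W : Type u} [CommRing W] [Algebra A W] [hW : Algebra.FiniteType A W] (b : W →ₐ[A] P.ResidueField) :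
    ∃ f : A, f ∉ P ∧ ∃ (β : W →ₐ[A] Localization.Away (Ideal.Quotient.mk P f))
      (ι : Localization.Away (Ideal.Quotient.mk P f) →ₐ[A] P.ResidueField), ι.comp β = b ∧ Function.Injective ι ∧
      ∀ (K : Type u) [Field K] (g : Localization.Away (Ideal.Quotient.mk P f) →+* K), Function.Injective g →
        ∃ g' : P.ResidueField →+* K, g'.comp ι.toRingHom = g := by
  classical
  obtain ⟨s, hs⟩ := hW.out
  obtain ⟨⟨m, hm0⟩, hm⟩ := IsLocalization.exist_integer_multiples_of_finset (nonZeroDivisors (A ⧸ P)) (s.image b)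
  obtain ⟨f, rfl⟩ := Ideal.Quotient.mk_surjective m
  have hf : f ∉ P := by
    intro h
    exact nonZeroDivisors.ne_zero hm0 (Ideal.Quotient.eq_zero_iff_mem.2 h)
  obtain ⟨ι, hι, hι2, hι3⟩ := exists_iota P f hf
  have hle : b.range ≤ ι.range := by
    rw [← Algebra.map_top, ← hs, ← Algebra.adjoin_image, Algebra.adjoin_le_iff]
    rintro _ ⟨w, hw, rfl⟩
    obtain ⟨c, hc⟩ := hm (b w) (Finset.mem_image_of_mem _ hw)
    refine hι2 c 1 _ ?_
    rw [pow_one, hc]
    change _ = (Ideal.Quotient.mk P f) • b w
    rw [Algebra.smul_def]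
  let e := AlgEquiv.ofInjective ι hι
  let β : W →ₐ[A] Localization.Away (Ideal.Quotient.mk P f) :=
    (e.symm.toAlgHom.comp (Subalgebra.inclusion hle)).comp b.rangeRestrict
  refine ⟨f, hf, β, ι, ?_, hι, hι3⟩
  refine AlgHom.ext fun w => ?_
  have h1 : ∀ y : ι.range, ι (e.symm y) = y := fun y => by
    have := e.apply_symm_apply y
    exact congrArg Subtype.val this
  exact h1 _

end K211.AwayFac
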