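import Groth.Agent.SGA3.K207.SubTorDesc
import Groth.Agent.SGA3x.K18.MTDesc
import Groth.Agent.Sga3B.TorusBc

/-!
# Subtori with given torsion and base change
-/

set_option autoImplicit false
set_option linter.dupNamespace false
universe u
open CategoryTheory MonoidalCategory CartesianMonoidalCategory MonObj GrpObj AlgebraicGeometry Limits

namespace K211.FibD

open Groth.Agent Groth.Agent.Sga3B Groth.Agent.Sga3B.MT Groth.Agent.Sga3B.BcPts Groth.Agent.Sga7.H760.KerBc K207.SubTor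

variable {S S' S'' : Scheme.{u}} {G : Over S} [GrpObj G] {M : ℕ → Over S} {q : ℕ} {m : ∀ k, M k ⟶ G}

/-- There is a subtorus of the base change of `G` along `v` with `q^k`-torsion `m k` for all `k`. -/
def FibData (q : ℕ) (m : ∀ k, M k ⟶ G) (v : S' ⟶ S) : Prop :=
  ∃ (T : Over S') (_ : GrpObj T) (j : T ⟶ Red.bc v G), IsMonHom j ∧ Mono j ∧ Red.IsTorus T ∧
    ∀ k, ∃ g : Red.bc v (M k) ⟶ T, g ≫ j = (Over.pullback v).map (m k) ∧ AlgGrp.IsKernel g ((𝟙 T : T ⟶ T) ^ (q ^ k))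

theorem FibData.comp {v : S' ⟶ S} (h : FibData q m v) (w : S'' ⟶ S') : FibData q m (w ≫ v) := by
  obtain ⟨T, _, j, h1, h2, h3, h4⟩ := h
  exact ⟨Red.bc w T, inferInstance, bcSub w j, isMonHom_bcSub w j, mono_bcSub w j, TorusBc.isTorus_bc w h3,
    good_bcSub w j h4⟩

/-- Iterated base change. -/
theorem FibData.up {v : S' ⟶ S} {w : S'' ⟶ S'} (h : FibData q m (w ≫ v)) :
    FibData q (fun k => ((Over.pullback v).map (m k) : Red.bc v (M k) ⟶ Red.bc v G)) w := by
  obtain ⟨T, _, j, h1, h2, h3, h4⟩ := h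
  let c : Red.bc (w ≫ v) G ⟶ Red.bc w (Red.bc v G) := (RedIso.und (BcIso.bcCompIso w v G)).hom
  have hc : c = (Over.pullbackComp w v).hom.app G := BcNat.und_bcCompIso w v G
  have hcm : IsMonHom c := inferInstance
  have hci : Mono c := inferInstance
  refine ⟨T, inferInstance, j ≫ c, inferInstance, mono_comp _ _, h3, fun k => ?_⟩
  obtain ⟨g, hg, hker⟩ := h4 k
  refine ⟨((Over.pullbackComp w v).app (M k)).inv ≫ g, ?_, isKernel_iso_left ((Over.pullbackComp w v).app (M k)).symm hker⟩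
  have h5 := (Over.pullbackComp w v).inv.naturality (m k)
  rw [Category.assoc, ← Category.assoc g, hg, hc]
  change (Over.pullbackComp w v).inv.app (M k) ≫ (Over.pullback (w ≫ v)).map (m k) ≫ _ = _
  rw [← Category.assoc, ← h5, Category.assoc, ← NatTrans.comp_app, Iso.inv_hom_id, NatTrans.id_app]
  exact Category.comp_id _

section coh

variable [grp : ∀ k, GrpObj (M k)]

/-- Coherent families of torsion subgroups. -/
structure Coh (q : ℕ) (m : ∀ k, M k ⟶ G) : Prop where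
  hm : ∀ k, IsMonHom (m k) ∧ Mono (m k) ∧ SGA3x.IsMultTypeFT (M k)
  hcoh : ∀ j k : ℕ, j ≤ k → ∃ f : M j ⟶ M k, f ≫ m k = m j ∧ AlgGrp.IsKernel f ((𝟙 (M k) : M k ⟶ M k) ^ (q ^ j))

theorem Coh.bc (h : Coh q m) (v : S' ⟶ S) : Coh q (fun k => ((Over.pullback v).map (m k) : Red.bc v (M k) ⟶ Red.bc v G)) where
  hm k := by
    obtain ⟨h1, h2, h3⟩ := h.hm k
    exact ⟨inferInstance, inferInstance, K18.MTDesc.isMultTypeFT_bc v h3⟩
  hcoh j k hjk := by
    obtain ⟨f, hf, hker⟩ := h.hcoh j k hjk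
    refine ⟨(Over.pullback v).map f, ?_, torsion_bc v hker⟩
    rw [← Functor.map_comp, hf]

/-- `M k` is killed by `q^k`. -/
theorem Coh.pow_eq_one (h : Coh q m) (k : ℕ) : (𝟙 (M k) : M k ⟶ M k) ^ (q ^ k) = 1 := by
  obtain ⟨f, hf, hker⟩ := h.hcoh k k le_rfl
  have hmono := (h.hm k).2.1
  have h1 : f = 𝟙 _ := by rw [← cancel_mono (m k), hf, Category.id_comp]
  subst h1
  exact (isKernel_pow_iff.1 hker).1

end coh

end K211.FibD
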