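import Groth.Agent.SGA3x.K211.Val
import Groth.Agent.SGA3x.K211.AwayFac
import Groth.Agent.Sga3.H767.FamRing

/-!
# Spreading out homomorphisms from split tori with given torsion from a point
-/

set_option autoImplicit false
set_option linter.dupNamespace false
universe u
open CategoryTheory MonoidalCategory CartesianMonoidalCategory MonObj GrpObj AlgebraicGeometry Limits

namespace K211.Spread

open Groth.Agent Groth.Agent.Sga3B Groth.Agent.Sga3B.DSPts Groth.Agent.Sga3B.InfConjFam Groth.Agent.Sga3B.DSRigid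
  Groth.Agent.Sga3.H767 TorsQ Fam Val FamLim

lemma flat_of_field' {Y X : Scheme.{u}} (t : Y) (f : X ⟶ Spec (Y.residueField t)) : Flat f := inferInstance

lemma surj_of_field' {Y X : Scheme.{u}} (t : Y) [Nonempty X] (f : X ⟶ Spec (Y.residueField t)) : Surjective f :=
  inferInstance

section gen

variable {S : Scheme.{u}} {G : Over S} [GrpObj G] {r q : ℕ} {u : ∀ k, Red.DS S (Fin r → ZMod (q ^ k)) ⟶ G}

omit [GrpObj G] in
lemma eq_of_iso {P P' H : Over S} (e : P' ≅ P) {a b : H ⊗ P ⟶ G} (h : H ◁ e.hom ≫ a = H ◁ e.hom ≫ b) : a = b :=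
  (cancel_epi (H ◁ e.hom)).1 h

theorem IsExt.unique' {C : Type u} [CommRing C] {v : Spec (CommRingCat.of C) ⟶ S} {P : Over S} (e : Over.mk v ≅ P)
    (hq : 1 < q) {a b : Red.DS S (Fin r → ℤ) ⊗ P ⟶ G} (ha : IsExt u a) (hb : IsExt u b) : a = b :=
  eq_of_iso e ((ha.pull e.hom).unique hq (hb.pull e.hom))

omit [GrpObj G] in
/-- Flat descent of equalities. -/
theorem eq_of_surjective {H P P' : Over S} {χ χ' : H ⊗ P ⟶ G} (f : P' ⟶ P) [Flat f.left] [Surjective f.left]
    (h : H ◁ f ≫ χ = H ◁ f ≫ χ') : χ = χ' := by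
  have h1 : K12.CentFam.AgrAt χ χ' (𝟙 P) := by
    refine K12.CentFam.AgrAt.of_surjective f ?_
    intro T' b x
    rw [Category.comp_id, ← lift_whiskerLeft_assoc, h, lift_whiskerLeft_assoc]
  refine FamBase.hom_ext_lift fun Y p t => ?_
  have h2 := h1 Y t p
  rwa [Category.comp_id] at h2

/-- Flat descent of `IsExt`. -/
theorem IsExt.descend {P P' : Over S} {a : Red.DS S (Fin r → ℤ) ⊗ P ⟶ G} (f : P' ⟶ P) [Flat f.left]
    [Surjective f.left] (ha : AutFam.IsHomFamily _ _ a) (h : IsExt u (Red.DS S (Fin r → ℤ) ◁ f ≫ a)) : IsExt u a where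
  hom := ha
  tors k := by
    refine eq_of_surjective f ?_
    rw [← Category.assoc, whisker_exchange, Category.assoc, h.tors, whiskerLeft_fst_assoc]

/-- `IsExt` at a point only depends on the image. -/
theorem isExt_transfer {Q : Over S} {a : Red.DS S (Fin r → ℤ) ⊗ Q ⟶ G} (ha : AutFam.IsHomFamily _ _ a)
    {K K' : Type u} [Field K] [Field K'] {v : Spec (CommRingCat.of K) ⟶ S} {v' : Spec (CommRingCat.of K') ⟶ S}
    (h : Over.mk v ⟶ Q) (h' : Over.mk v' ⟶ Q) (p : Spec (CommRingCat.of K)) (p' : Spec (CommRingCat.of K'))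
    (hp : h.left p = h'.left p') (hh : IsExt u (Red.DS _ (Fin r → ℤ) ◁ h' ≫ a)) :
    IsExt u (Red.DS _ (Fin r → ℤ) ◁ h ≫ a) := by
  obtain ⟨w, hw⟩ : ∃ w : Over.mk v' ⟶ Over.mk (Q.left.fromSpecResidueField (h.left p) ≫ Q.hom),
      w ≫ rp (h.left p) = h' := by
    rw [hp]
    exact exists_fac_rp h' p'
  obtain ⟨w', hw'⟩ := exists_fac_rp h p
  have hfl : Flat w.left := flat_of_field' (h.left p) w.left
  have hsj : Surjective w.left := surj_of_field' (X := Spec (CommRingCat.of K')) (h.left p) w.left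
  have h4 : IsExt u (Red.DS _ (Fin r → ℤ) ◁ (rp (h.left p)) ≫ a) := by
    refine IsExt.descend w (IsoFam.isHomFamily_pull ha _) ?_
    rw [← Category.assoc, ← MonoidalCategory.whiskerLeft_comp, hw]
    exact hh
  rw [← hw', MonoidalCategory.whiskerLeft_comp, Category.assoc]
  exact h4.pull w'

end gen

section base

variable {A : Type u} [CommRing A] {G : Over (Spec (CommRingCat.of A))} [GrpObj G] {r q : ℕ}
  {u : ∀ k, Red.DS (Spec (CommRingCat.of A)) (Fin r → ZMod (q ^ k)) ⟶ G} [LocallyOfFiniteType G.hom] [QuasiCompact G.hom]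

/-- A family of homomorphisms over a Noetherian domain `B` with given torsion at the generic point has given torsion at
all points. -/
theorem isExt_of_generic (hq : 1 < q) (hqu : IsUnit (q : A)) (hu : ∀ k, IsMonHom (u k))
    (hcoh : ∀ j k (h : j ≤ k), Red.DSmap _ (tz r (pow_dvd_pow q h)) ≫ u k = u j)
    {B : Type u} [CommRing B] [IsDomain B] [IsNoetherianRing B] [Algebra A B]
    (a : Red.DS (Spec (CommRingCat.of A)) (Fin r → ℤ) ⊗ sp A B ⟶ G) (ha : AutFam.IsHomFamily _ _ a)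
    (hgen : ∀ (K : Type u) [Field K] (v : Spec (CommRingCat.of K) ⟶ Spec (CommRingCat.of A)) (h : Over.mk v ⟶ sp A B),
      Function.Injective (Spec.preimage h.left).hom → IsExt u (Red.DS _ (Fin r → ℤ) ◁ h ≫ a))
    (K : Type u) [Field K] (v : Spec (CommRingCat.of K) ⟶ Spec (CommRingCat.of A)) (h : Over.mk v ⟶ sp A B) :
    IsExt u (Red.DS _ (Fin r → ℤ) ◁ h ≫ a) := by
  let t : Spec (CommRingCat.of B) := h.left (IsLocalRing.closedPoint K)
  let x₀ : Spec (CommRingCat.of B) := ⟨⊥, Ideal.isPrime_bot⟩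
  have hηt : x₀ ⤳ t := by
    exact (PrimeSpectrum.le_iff_specializes x₀ t).1 (bot_le (a := t.asIdeal))
  obtain ⟨V, _, _, _, α, κ, hκ, hκη, hαt⟩ := K735.DvrSpec.exists_dvr (𝟙 (Spec (CommRingCat.of B))) x₀ t hηt
  rw [Category.comp_id] at hκ
  let vV := α ≫ (sp A B).hom
  let hV : Over.mk vV ⟶ sp A B := Over.homMk α
  have haV : AutFam.IsHomFamily _ _ (Red.DS _ (Fin r → ℤ) ◁ hV ≫ a) := IsoFam.isHomFamily_pull ha hV
  -- the generic point
  let gK : Over.mk (Neron.genPt V ≫ vV) ⟶ Over.mk vV := Over.homMk (Neron.genPt V)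
  have h1 : IsExt u (Red.DS _ (Fin r → ℤ) ◁ (gK ≫ hV) ≫ a) := by
    refine hgen _ _ _ ?_
    have h2 : (gK ≫ hV).left = κ := hκ.symm
    rw [h2]
    obtain ⟨ψ, hψ⟩ := Spec.map_surjective κ
    rw [← hψ, Spec.preimage_map]
    rw [injective_iff_map_eq_zero]
    intro x hx
    have h3 := hκη ⟨⊥, Ideal.isPrime_bot⟩
    rw [← hψ] at h3
    have h4 : x ∈ (Spec.map ψ ⟨⊥, Ideal.isPrime_bot⟩ : PrimeSpectrum B).asIdeal := by
      change ψ.hom x ∈ (⊥ : Ideal _)
      rw [hx]
      exact Ideal.zero_mem _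
    rw [h3] at h4
    exact h4
  obtain ⟨b, hb⟩ := has_dvr hq hqu hu hcoh vV ⟨_, h1⟩
  have h2 : Red.DS _ (Fin r → ℤ) ◁ hV ≫ a = b := by
    refine hom_ext_dvr vV haV hb.hom ?_
    refine IsExt.unique' (genI vV (Neron.genPt V)).symm hq ?_ (hb.pull _)
    have h3 : st vV (Over.mk (Neron.genPt V)) = (genI vV (Neron.genPt V)).hom ≫ gK := by
      ext1
      simp [genI, gK, st]
    rw [h3, ← Category.assoc, ← MonoidalCategory.whiskerLeft_comp, Category.assoc, MonoidalCategory.whiskerLeft_comp,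
      Category.assoc]
    exact h1.pull _
  -- the closed point
  obtain ⟨p, hp⟩ := closedPoint_range V
  let f : Over.mk (Spec.map (CommRingCat.ofHom (IsLocalRing.residue V)) ≫ vV) ⟶ Over.mk vV := Over.homMk (Spec.map _)
  have h3 : IsExt u (Red.DS _ (Fin r → ℤ) ◁ (f ≫ hV) ≫ a) := by
    rw [MonoidalCategory.whiskerLeft_comp, Category.assoc, h2]
    exact hb.pull f
  have hft : (f ≫ hV).left p = t := by
    rw [Over.comp_left, Scheme.Hom.comp_apply]
    exact (congrArg α hp).trans hαt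
  exact isExt_transfer ha h (f ≫ hV) (IsLocalRing.closedPoint K) p hft.symm h3

lemma spMap_comp {W W' W'' : Type u} [CommRing W] [Algebra A W] [CommRing W'] [Algebra A W'] [CommRing W'']
    [Algebra A W''] (f : W →ₐ[A] W') (g : W' →ₐ[A] W'') : spMap g ≫ spMap f = spMap (g.comp f) := by
  ext1
  change Spec.map _ ≫ Spec.map _ = Spec.map _
  rw [← Spec.map_comp]
  rfl

/-- **Spreading out.** The homomorphism with given torsion at `P` is the fibre of a family over a neighbourhood of `P`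
in `V(P)`, with given torsion at all points. -/
theorem exists_spread [IsNoetherianRing A] (hq : 1 < q) (hqu : IsUnit (q : A)) (hu : ∀ k, IsMonHom (u k))
    (hcoh : ∀ j k (h : j ≤ k), Red.DSmap _ (tz r (pow_dvd_pow q h)) ≫ u k = u j)
    (P : Ideal A) [P.IsPrime] (hP : Has u (sp A P.ResidueField)) :
    ∃ f : A, f ∉ P ∧ ∃ a : Red.DS (Spec (CommRingCat.of A)) (Fin r → ℤ) ⊗ sp A (Localization.Away (Ideal.Quotient.mk P f)) ⟶ G,
      AutFam.IsHomFamily _ _ a ∧
      ∀ (K : Type u) [Field K] (v : Spec (CommRingCat.of K) ⟶ Spec (CommRingCat.of A))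
        (h : Over.mk v ⟶ sp A (Localization.Away (Ideal.Quotient.mk P f))),
        IsExt u (Red.DS _ (Fin r → ℤ) ◁ h ≫ a) := by
  have hG : LocallyOfFinitePresentation G.hom := LocallyOfFinitePresentation.iff_locallyOfFiniteType.2 inferInstance
  have haff : IsAffineHom (Red.DS (Spec (CommRingCat.of A)) (Fin r → ℤ)).hom := SplitTor.isAffineHom_DS r _
  obtain ⟨a₀, ha₀⟩ := hP
  obtain ⟨W, _, _, b, v, hW, hv, hbv⟩ := FamRing.exists_finitePresentation a₀ ha₀.hom
  obtain ⟨f, hf, β, io, hioβ, hio, hio3⟩ := AwayFac.exists_factor P b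
  have hdom : IsDomain (Localization.Away (Ideal.Quotient.mk P f)) := hio.isDomain io.toRingHom
  have hnoe : IsNoetherianRing (Localization.Away (Ideal.Quotient.mk P f)) :=
    IsLocalization.isNoetherianRing (Submonoid.powers (Ideal.Quotient.mk P f)) _ inferInstance
  refine ⟨f, hf, Red.DS _ (Fin r → ℤ) ◁ spMap β ≫ v, IsoFam.isHomFamily_pull hv _, ?_⟩
  refine isExt_of_generic hq hqu hu hcoh _ (IsoFam.isHomFamily_pull hv _) ?_
  intro K _ v' h hinj
  obtain ⟨g', hg'⟩ := hio3 K _ hinj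
  have h1 : Spec.map (CommRingCat.ofHom g') ≫ Spec.map (CommRingCat.ofHom io.toRingHom) = h.left := by
    rw [← Spec.map_comp, ← CommRingCat.ofHom_comp, hg', CommRingCat.ofHom_hom, Spec.map_preimage]
  let h' : Over.mk v' ⟶ sp A P.ResidueField := Over.homMk (Spec.map (CommRingCat.ofHom g')) (by
    have h2 := Over.w h
    have h3 := Over.w (spMap io)
    rw [← h1, Category.assoc] at h2
    change Spec.map (CommRingCat.ofHom io.toRingHom) ≫ _ = _ at h3
    rw [h3] at h2
    exact h2)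
  have h4 : h = h' ≫ spMap io := by
    ext1
    exact h1.symm
  rw [h4, ← Category.assoc, ← MonoidalCategory.whiskerLeft_comp, Category.assoc, spMap_comp, hioβ,
    MonoidalCategory.whiskerLeft_comp, Category.assoc, hbv]
  exact ha₀.pull h'

end base

end K211.Spread
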