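import Groth.Agent.SGA3x.K211.FLang
import Groth.Agent.SGA3x.K211.FibD
import Groth.Agent.SGA3x.K211.Spread
import Groth.Agent.SGA3.K207.FibDesc

/-!
# Families of homomorphisms which are subtori with given torsion at a point
-/

set_option autoImplicit false
set_option linter.dupNamespace false
universe u
open CategoryTheory MonoidalCategory CartesianMonoidalCategory MonObj GrpObj AlgebraicGeometry Limits

namespace K211.DPull

open Groth.Agent Groth.Agent.Sga3B Groth.Agent.Sga3B.DSPts Groth.Agent.Sga3B.InfConjFam Groth.Agent.Sga3B.DSRigid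
  Groth.Agent.Sga3.H767 TorsQ Fam FLang FibD K207.FibDesc

/-- If the restriction of a family to `R` is a subtorus with given torsion, then the associated homomorphism has `D` at
`R`. -/
theorem d_of_family {S S' R : Scheme.{u}} {G : Over S} [GrpObj G] {r q : ℕ} {M : ℕ → Over S} [∀ k, GrpObj (M k)]
    {m : ∀ k, M k ⟶ G} {v : S' ⟶ S} {vR : R ⟶ S} (p : Over.mk vR ⟶ Over.mk v)
    (ψ : Red.DS S (Fin r → ℤ) ⊗ Over.mk v ⟶ G) (ΦR : Red.DS R (Fin r → ℤ) ⟶ Red.bc vR G) [Mono ΦR]
    (h : Red.DS S (Fin r → ℤ) ◁ p ≫ ψ = ofH vR ΦR) (hm : ∀ k, Mono (m k))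
    (he : ∀ k, ∃ e : Red.DS R (Fin r → ZMod (q ^ k)) ≅ Red.bc vR (M k),
      e.hom ≫ (Over.pullback vR).map (m k) = Red.DSmap R (cz r (q ^ k)) ≫ ΦR) :
    D q (toH v ψ) (fun k => ((Over.pullback v).map (m k) : Red.bc v (M k) ⟶ Red.bc v G)) p.left := by
  let i : (Over.map v).obj (Over.mk p.left) ≅ Over.mk vR := Over.isoMk (Iso.refl _) (by
    have h1 := Over.w p
    simpa using h1.symm)
  have hi : st v (Over.mk p.left) = i.hom ≫ p := by
    ext1
    simp [st, i]
  have h1 : FMono (Red.DS S (Fin r → ℤ) ◁ st v (Over.mk p.left) ≫ ψ) := by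
    rw [hi, MonoidalCategory.whiskerLeft_comp, Category.assoc, h]
    exact (fMono_ofH vR ΦR).pull i.hom
  have h2 := fMono_fam v _ h1
  rw [fam_restrict] at h2
  refine ⟨mono_of_fMono p.left (toH v ψ) h2, fun k => ?_⟩
  obtain ⟨e, he⟩ := he k
  have h3 : FTors (q ^ k) (m k) (Red.DS S (Fin r → ℤ) ◁ st v (Over.mk p.left) ≫ ψ) := by
    rw [hi, MonoidalCategory.whiskerLeft_comp, Category.assoc, h]
    exact (fTors_ofH vR ΦR (m k) e he).pull i.hom
  have h4 := fTors_fam v _ (m k) h3
  rw [fam_restrict] at h4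
  have hmk := hm k
  exact exists_iso_of_fTors p.left (toH v ψ) ((Over.pullback v).map (m k)) h2 h4

/-- `D` at a residue field only depends on the image. -/
theorem d_transfer {S Y : Scheme.{u}} {G : Over S} [GrpObj G] {r q : ℕ} {M : ℕ → Over S} {m : ∀ k, M k ⟶ G}
    {Φ : Red.DS S (Fin r → ℤ) ⟶ G} (hm : ∀ k, Mono (m k)) (v : Y ⟶ S) (y : Y) (s : S) (hs : v y = s)
    (h : D q Φ m v) : D q Φ m (S.fromSpecResidueField s) := by
  obtain rfl := hs
  have h1 : Y.fromSpecResidueField y ≫ v = Spec.map (v.residueFieldMap y) ≫ S.fromSpecResidueField (v y) :=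
    (Scheme.Hom.SpecMap_residueFieldMap_fromSpecResidueField v y).symm
  have h2 : D q Φ m (Spec.map (v.residueFieldMap y) ≫ S.fromSpecResidueField (v y)) := by
    rw [← h1]
    exact h.comp _
  have hfl : Flat (Spec.map (v.residueFieldMap y)) := Spread.flat_of_field' (v y) _
  have hsj : Surjective (Spec.map (v.residueFieldMap y)) := Spread.surj_of_field' (v y) _
  exact D.descend _ hm h2

/-- All field-valued points, from the residue fields. -/
theorem fd_point {S : Scheme.{u}} {G : Over S} [GrpObj G] {q : ℕ} {M : ℕ → Over S} {m : ∀ k, M k ⟶ G}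
    (h : ∀ s : S, FD q m (S.fromSpecResidueField s)) {K : Type u} [Field K] (v : Spec (CommRingCat.of K) ⟶ S) :
    FD q m v := by
  obtain ⟨g, hg⟩ := Val.exists_fac_pt v (IsLocalRing.closedPoint K)
  rw [← hg]
  exact (h _).comp g

/-- The same for residue fields of other schemes. -/
theorem fd_up {S S' : Scheme.{u}} {G : Over S} [GrpObj G] {q : ℕ} {M : ℕ → Over S} {m : ∀ k, M k ⟶ G}
    (h : ∀ s : S, FD q m (S.fromSpecResidueField s)) (v : S' ⟶ S) (s : S') :
    FD q (fun k => ((Over.pullback v).map (m k) : Red.bc v (M k) ⟶ Red.bc v G)) (S'.fromSpecResidueField s) := by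
  have h1 : FD q m (S'.fromSpecResidueField s ≫ v) := by
    have h2 : S'.fromSpecResidueField s ≫ v = Spec.map (v.residueFieldMap s) ≫ S.fromSpecResidueField (v s) :=
      (Scheme.Hom.SpecMap_residueFieldMap_fromSpecResidueField v s).symm
    rw [h2]
    exact (h _).comp _
  exact FibData.up h1

end K211.DPull
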