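import Groth.Agent.SGA3x.K211.Fam

/-!
# Monomorphisms and torsion, in the language of families
-/

set_option autoImplicit false
set_option linter.dupNamespace false
universe u
open CategoryTheory MonoidalCategory CartesianMonoidalCategory MonObj GrpObj AlgebraicGeometry Limits

namespace K211.FLang

open Groth.Agent Groth.Agent.Sga3B Groth.Agent.Sga3B.DSPts Groth.Agent.Sga3B.InfConjFam Groth.Agent.Sga3B.DSRigid
  Groth.Agent.Sga3.H767 TorsQ Fam

section defs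

variable {S : Scheme.{u}} {G : Over S} {r : ℕ}

/-- The family `a` is a family of monomorphisms. -/
def FMono {P : Over S} (a : Red.DS S (Fin r → ℤ) ⊗ P ⟶ G) : Prop :=
  ∀ (T : Over S) (t : T ⟶ P) (x y : T ⟶ Red.DS S (Fin r → ℤ)), lift x t ≫ a = lift y t ≫ a → x = y

/-- The `n`-torsion of the family `a` is the subgroup `m`. -/
def FTors (n : ℕ) {M : Over S} (m : M ⟶ G) {P : Over S} (a : Red.DS S (Fin r → ℤ) ⊗ P ⟶ G) : Prop :=
  (∀ (T : Over S) (t : T ⟶ P) (x : T ⟶ Red.DS S (Fin r → ZMod n)), ∃ z : T ⟶ M,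
    z ≫ m = lift (x ≫ Red.DSmap S (cz r n)) t ≫ a) ∧
  ∀ (T : Over S) (t : T ⟶ P) (z : T ⟶ M), ∃ x : T ⟶ Red.DS S (Fin r → ZMod n),
    z ≫ m = lift (x ≫ Red.DSmap S (cz r n)) t ≫ a

lemma FMono.pull {P P' : Over S} {a : Red.DS S (Fin r → ℤ) ⊗ P ⟶ G} (h : FMono a) (f : P' ⟶ P) :
    FMono (Red.DS S (Fin r → ℤ) ◁ f ≫ a) := by
  intro T t x y hxy
  rw [← Category.assoc, ← Category.assoc, lift_whiskerLeft, lift_whiskerLeft] at hxy
  exact h T (t ≫ f) x y hxy

lemma FTors.pull {n : ℕ} {M : Over S} {m : M ⟶ G} {P P' : Over S} {a : Red.DS S (Fin r → ℤ) ⊗ P ⟶ G}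
    (h : FTors n m a) (f : P' ⟶ P) : FTors n m (Red.DS S (Fin r → ℤ) ◁ f ≫ a) := by
  refine ⟨fun T t x => ?_, fun T t z => ?_⟩
  · obtain ⟨z, hz⟩ := h.1 T (t ≫ f) x
    exact ⟨z, by rw [hz, ← Category.assoc, lift_whiskerLeft]⟩
  · obtain ⟨x, hx⟩ := h.2 T (t ≫ f) z
    exact ⟨x, by rw [hx, ← Category.assoc, lift_whiskerLeft]⟩

end defs

section ofFst

variable {S S' : Scheme.{u}} {G : Over S} [GrpObj G] {r n : ℕ} {M : Over S} [GrpObj M] (w : S' ⟶ S)
  (Φ : Red.DS S (Fin r → ℤ) ⟶ G) (m : M ⟶ G)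

omit [GrpObj G] in
/-- `FMono` for a constant family. -/
theorem mono_of_fMono (h : FMono (fst (Red.DS S (Fin r → ℤ)) (Over.mk w) ≫ Φ)) :
    Mono ((Over.pullback w).map Φ) where
  right_cancellation {X} p p' hp := by
    apply (BcPts.bcEquiv w X _).symm.injective
    refine h _ (st w X) _ _ ?_
    rw [lift_fst_assoc, lift_fst_assoc, ← BcPts.bcEquiv_symm_comp, ← BcPts.bcEquiv_symm_comp, hp]

omit [GrpObj G] [GrpObj M] in
/-- `FTors` for a constant family. -/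
theorem exists_iso_of_fTors [Mono m] (hΦ : FMono (fst (Red.DS S (Fin r → ℤ)) (Over.mk w) ≫ Φ))
    (h : FTors n m (fst (Red.DS S (Fin r → ℤ)) (Over.mk w) ≫ Φ)) :
    ∃ e : Red.bc w (Red.DS S (Fin r → ZMod n)) ≅ Red.bc w M,
      e.hom ≫ (Over.pullback w).map m = (Over.pullback w).map (Red.DSmap S (cz r n) ≫ Φ) := by
  let D : Over S := Red.DS S (Fin r → ZMod n)
  have hmono : Mono (Red.DSmap S (cz r n)) := K7.DSProp.mono_DSmap _ _ (cz_surjective r n)
  have hm : Mono ((Over.pullback w).map m) := inferInstance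
  have hΦm : Mono ((Over.pullback w).map Φ) := mono_of_fMono w Φ hΦ
  have hDΦ : Mono ((Over.pullback w).map (Red.DSmap S (cz r n) ≫ Φ)) := by
    rw [Functor.map_comp]
    exact mono_comp _ _
  obtain ⟨z, hz⟩ := h.1 _ (st w (Red.bc w D)) ((BcPts.bcEquiv w _ D).symm (𝟙 _))
  obtain ⟨x, hx⟩ := h.2 _ (st w (Red.bc w M)) ((BcPts.bcEquiv w _ M).symm (𝟙 _))
  let a : Red.bc w D ⟶ Red.bc w M := BcPts.bcEquiv w _ M z
  let b : Red.bc w M ⟶ Red.bc w D := BcPts.bcEquiv w _ D x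
  have ha : a ≫ (Over.pullback w).map m = (Over.pullback w).map (Red.DSmap S (cz r n) ≫ Φ) := by
    change BcPts.bcEquiv w _ M z ≫ _ = _
    rw [← BcPts.bcEquiv_comp, hz, lift_fst_assoc, Category.assoc, ← BcPts.bcEquiv_symm_comp,
      Equiv.apply_symm_apply, Category.id_comp]
  have hb : b ≫ (Over.pullback w).map (Red.DSmap S (cz r n) ≫ Φ) = (Over.pullback w).map m := by
    change BcPts.bcEquiv w _ D x ≫ _ = _
    rw [← BcPts.bcEquiv_comp, ← Category.assoc, ← lift_fst (x ≫ Red.DSmap S (cz r n)) (st w (Red.bc w M)),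
      Category.assoc, ← hx, ← BcPts.bcEquiv_symm_comp, Equiv.apply_symm_apply, Category.id_comp]
  refine ⟨⟨a, b, ?_, ?_⟩, ha⟩
  · rw [← cancel_mono ((Over.pullback w).map (Red.DSmap S (cz r n) ≫ Φ)), Category.assoc, hb, ha, Category.id_comp]
  · rw [← cancel_mono ((Over.pullback w).map m), Category.assoc, ha, hb, Category.id_comp]

end ofFst

section up

variable {S S' : Scheme.{u}} {G : Over S} [GrpObj G] {r n : ℕ} {M : Over S} [GrpObj M] (v : S' ⟶ S)

lemma exists_eq_map {T : Over S} (t : T ⟶ Over.mk v) : ∃ (X : Over S') (e : (Over.map v).obj X ≅ T), e.hom ≫ t = st v X :=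
  ⟨Over.mk t.left, BcPts.overIso t, by
    ext1
    simp [st]⟩

lemma untr_tr {M : Type} [AddCommGroup M] {T : Over S'} (q : T ⟶ Red.DS S' M) : untr v (tr v q) = q := by
  apply (dsEquiv _ M).symm.injective
  change dsChar _ = dsChar _
  exact (dsChar_untr v _).trans (dsChar_tr v q)

lemma tr_injective {M : Type} [AddCommGroup M] {T : Over S'} {p q : T ⟶ Red.DS S' M} (h : tr v p = tr v q) : p = q := by
  rw [← untr_tr v p, h, untr_tr]

/-- From homomorphisms over `S'` to families over `S`. -/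
theorem fMono_ofH (Φ : Red.DS S' (Fin r → ℤ) ⟶ Red.bc v G) [Mono Φ] : FMono (ofH v Φ) := by
  intro T t x y hxy
  obtain ⟨X, e, he⟩ := exists_eq_map v t
  rw [← cancel_epi e.hom]
  have h1 := congrArg (fun f => e.hom ≫ f) hxy
  simp only [comp_lift_assoc, he] at h1
  have h2 := congrArg (DSPts.bcEquiv v X G) h1
  rw [← tr_untr v (e.hom ≫ x), ← tr_untr v (e.hom ≫ y), ← comp_toH, ← comp_toH, toH_ofH, cancel_mono] at h2
  rw [← tr_untr v (e.hom ≫ x), ← tr_untr v (e.hom ≫ y), h2]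

theorem fTors_ofH (Φ : Red.DS S' (Fin r → ℤ) ⟶ Red.bc v G) (m : M ⟶ G)
    (e : Red.DS S' (Fin r → ZMod n) ≅ Red.bc v M)
    (he : e.hom ≫ (Over.pullback v).map m = Red.DSmap S' (cz r n) ≫ Φ) : FTors n m (ofH v Φ) := by
  have key : ∀ (X : Over S') (p : X ⟶ Red.DS S' (Fin r → ZMod n)) (z : (Over.map v).obj X ⟶ M),
      DSPts.bcEquiv v X M z = p ≫ e.hom →
      z ≫ m = lift (tr v p ≫ Red.DSmap S (cz r n)) (st v X) ≫ ofH v Φ := by
    intro X p z hz
    apply (DSPts.bcEquiv v X G).injective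
    rw [← tr_DSmap, ← comp_toH, toH_ofH, ← DSPts.bcEquiv_comp, hz, Category.assoc, he, Category.assoc]
  refine ⟨fun T t x => ?_, fun T t z => ?_⟩
  · obtain ⟨X, i, hi⟩ := exists_eq_map v t
    let p : X ⟶ Red.DS S' (Fin r → ZMod n) := untr v (i.hom ≫ x)
    let z := (DSPts.bcEquiv v X M).symm (p ≫ e.hom)
    have h1 := key X p z (MulEquiv.apply_symm_apply _ _)
    rw [tr_untr] at h1
    refine ⟨i.inv ≫ z, ?_⟩
    rw [Category.assoc, h1, ← hi, Category.assoc, ← comp_lift_assoc, Iso.inv_hom_id_assoc]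
  · obtain ⟨X, i, hi⟩ := exists_eq_map v t
    let p : X ⟶ Red.DS S' (Fin r → ZMod n) := DSPts.bcEquiv v X M (i.hom ≫ z) ≫ e.inv
    have h1 := key X p (i.hom ≫ z) (by
      change _ = (_ ≫ e.inv) ≫ e.hom
      rw [Category.assoc, Iso.inv_hom_id, Category.comp_id])
    refine ⟨i.inv ≫ tr v p, ?_⟩
    rw [← cancel_epi i.hom, ← Category.assoc, h1, comp_lift_assoc, hi, ← Category.assoc i.hom, Iso.hom_inv_id_assoc]

/-- From families over `S` to families over `S'`. -/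
theorem fMono_fam {T' : Over S'} (a : Red.DS S (Fin r → ℤ) ⊗ (Over.map v).obj T' ⟶ G) (ha : FMono a) :
    FMono (FamBase.fam v a) := by
  intro X t p p' h
  rw [FamBase.lift_fam, FamBase.lift_fam] at h
  exact tr_injective v (ha _ _ _ _ ((DSPts.bcEquiv v X G).injective h))

theorem fTors_fam {T' : Over S'} (a : Red.DS S (Fin r → ℤ) ⊗ (Over.map v).obj T' ⟶ G) (m : M ⟶ G)
    (ha : FTors n m a) : FTors n ((Over.pullback v).map m) (FamBase.fam v a) := by
  refine ⟨fun X t p => ?_, fun X t z' => ?_⟩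
  · obtain ⟨z, hz⟩ := ha.1 _ ((Over.map v).map t) (tr v p)
    refine ⟨DSPts.bcEquiv v X M z, ?_⟩
    rw [DSPts.bcEquiv_comp, hz, FamBase.lift_fam, tr_DSmap]
  · obtain ⟨x, hx⟩ := ha.2 _ ((Over.map v).map t) ((DSPts.bcEquiv v X M).symm z')
    refine ⟨untr v x, ?_⟩
    rw [FamBase.lift_fam, tr_DSmap, tr_untr, ← hx, ← DSPts.bcEquiv_comp, MulEquiv.apply_symm_apply]

end up

end K211.FLang
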