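import Groth.Agent.SGA3x.K211.Trait
import Groth.Agent.Sga3.H767.FamBase
import Groth.Agent.SGA3x.K12.CentFam

/-!
# Families of homomorphisms from split tori with given torsion

`IsExt u a`: `a : D(ℤ^r) ⊗ P ⟶ G` is a family of homomorphisms parametrised by `P` whose restriction to the
`D((ℤ/q^k)^r)` is given by homomorphisms `u k : D((ℤ/q^k)^r) ⟶ G`. Such a family is unique (`IsExt.unique`), and extends
from the generic point of a discrete valuation ring (`IsExt.exists_of_dvr`).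
-/

set_option autoImplicit false
universe u
open CategoryTheory MonoidalCategory CartesianMonoidalCategory MonObj GrpObj AlgebraicGeometry Limits

namespace K211.Fam

open Groth.Agent Groth.Agent.Sga3B Groth.Agent.Sga3B.DSPts Groth.Agent.Sga3B.InfConjFam Groth.Agent.Sga3B.DSRigid
  Groth.Agent.Sga3.H767 TorsQ

variable {S S' : Scheme.{u}} {M M' : Type} [AddCommGroup M] [AddCommGroup M'] {G : Over S} [GrpObj G]

section dict

variable (v : S' ⟶ S)

/-- `S'` seen over `S`. -/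
noncomputable def topI : (Over.map v).obj (𝟙_ (Over S')) ≅ Over.mk v :=
  Over.isoMk (Iso.refl _) (by simp)

lemma map_toUnit_topI (X : Over S') : (Over.map v).map (toUnit X) ≫ (topI v).hom = st v X := by
  ext1
  simp [topI, st]

/-- The morphism over `S'` attached to a family parametrised by `S'`. -/
noncomputable def toH (a : Red.DS S M ⊗ Over.mk v ⟶ G) : Red.DS S' M ⟶ Red.bc v G :=
  lift (𝟙 _) (toUnit _) ≫ FamBase.fam v (Red.DS S M ◁ (topI v).hom ≫ a)

/-- The family parametrised by `S'` attached to a morphism over `S'`. -/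
noncomputable def ofH (b : Red.DS S' M ⟶ Red.bc v G) : Red.DS S M ⊗ Over.mk v ⟶ G :=
  Red.DS S M ◁ (topI v).inv ≫ FamBase.unfam v (fst _ _ ≫ b)

variable {v}

lemma fst_lift_toUnit {𝒞 : Type*} [Category 𝒞] [CartesianMonoidalCategory 𝒞] (X : 𝒞) :
    fst X (𝟙_ 𝒞) ≫ lift (𝟙 X) (toUnit X) = 𝟙 _ := by
  apply CartesianMonoidalCategory.hom_ext
  · simp
  · exact toUnit_unique _ _

@[simp] lemma toH_ofH (b : Red.DS S' M ⟶ Red.bc v G) : toH v (ofH v b) = b := by
  rw [toH, ofH, ← Category.assoc, ← MonoidalCategory.whiskerLeft_comp, Iso.hom_inv_id,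
    MonoidalCategory.whiskerLeft_id, Category.id_comp, FamBase.fam_unfam, lift_fst_assoc, Category.id_comp]

@[simp] lemma ofH_toH (a : Red.DS S M ⊗ Over.mk v ⟶ G) : ofH v (toH v a) = a := by
  rw [toH, ofH, ← Category.assoc (fst _ _), fst_lift_toUnit, Category.id_comp, FamBase.unfam_fam, ← Category.assoc,
    ← MonoidalCategory.whiskerLeft_comp, Iso.inv_hom_id, MonoidalCategory.whiskerLeft_id, Category.id_comp]

lemma toH_injective {a b : Red.DS S M ⊗ Over.mk v ⟶ G} (h : toH v a = toH v b) : a = b := by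
  rw [← ofH_toH a, h, ofH_toH]

lemma comp_toH (a : Red.DS S M ⊗ Over.mk v ⟶ G) {X : Over S'} (p : X ⟶ Red.DS S' M) :
    p ≫ toH v a = DSPts.bcEquiv v X G (lift (tr v p) (st v X) ≫ a) := by
  rw [toH, comp_lift_assoc, Category.comp_id, FamBase.lift_fam, ← Category.assoc, lift_whiskerLeft]
  congr 3
  rw [← map_toUnit_topI]
  congr 2
  exact toUnit_unique _ _

theorem isMonHom_toH {a : Red.DS S M ⊗ Over.mk v ⟶ G} (ha : AutFam.IsHomFamily (Red.DS S M) G a) :
    IsMonHom (toH v a) :=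
  Graph.isMonHom_of_mul _ fun T x y => by
    rw [comp_toH, comp_toH, comp_toH, tr_mul, ha, map_mul]

theorem isHomFamily_ofH (b : Red.DS S' M ⟶ Red.bc v G) [IsMonHom b] :
    AutFam.IsHomFamily (Red.DS S M) G (ofH v b) := by
  refine IsoFam.isHomFamily_pull (FamBase.isHomFamily_unfam v ?_) _
  intro X x y t
  rw [lift_fst_assoc, lift_fst_assoc, lift_fst_assoc]
  exact MonObj.mul_comp _ _ _

theorem DSmap_toH (χ : M →+ M') (a : Red.DS S M ⊗ Over.mk v ⟶ G) :
    Red.DSmap S' χ ≫ toH v a = toH v (Red.DSmap S χ ▷ Over.mk v ≫ a) := by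
  rw [comp_toH, ← Category.id_comp (toH v (_ ≫ a)), comp_toH, ← Category.assoc, lift_whiskerRight, ← tr_DSmap,
    Category.id_comp]

theorem fam_restrict {T' : Over S'} (a : Red.DS S M ⊗ Over.mk v ⟶ G) :
    FamBase.fam v (Red.DS S M ◁ st v T' ≫ a) = fst _ _ ≫ toH v a := by
  refine FamBase.hom_ext_lift fun X q t => ?_
  rw [FamBase.lift_fam, ← Category.assoc, lift_whiskerLeft, lift_fst_assoc, comp_toH]
  rw [st_comp v t]

end dict

section pull

variable {f : S' ⟶ S} {H H' : Over S}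

omit [GrpObj G] in
lemma map_unfam (χ : H' ⟶ H) (c : H ⊗ Over.mk f ⟶ G) :
    (Over.pullback f).map χ ≫ IsoFam.unfam c = IsoFam.unfam (χ ▷ Over.mk f ≫ c) := by
  rw [IsoFam.comp_unfam (T := Over.mk f) c ((Over.pullback f).map χ),
    ← Category.id_comp (IsoFam.unfam (_ ≫ c)), IsoFam.comp_unfam, ← Category.assoc (lift _ _),
    lift_whiskerRight]
  congr 3
  rw [← BcPts.bcEquiv_symm_comp]
  exact congrArg _ (Category.id_comp _).symm

omit [GrpObj G] in
lemma unfam_fst (χ : H ⟶ G) : IsoFam.unfam (fst H (Over.mk f) ≫ χ) = (Over.pullback f).map χ := by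
  rw [← Category.id_comp (IsoFam.unfam (_ ≫ χ)), IsoFam.comp_unfam, lift_fst_assoc, BcPts.bcEquiv_comp,
    Equiv.apply_symm_apply]
  exact Category.id_comp _

end pull

/-- A family of homomorphisms with given torsion. -/
structure IsExt {r q : ℕ} (u : ∀ k, Red.DS S (Fin r → ZMod (q ^ k)) ⟶ G) {P : Over S}
    (a : Red.DS S (Fin r → ℤ) ⊗ P ⟶ G) : Prop where
  hom : AutFam.IsHomFamily (Red.DS S (Fin r → ℤ)) G a
  tors : ∀ k, Red.DSmap S (cz r (q ^ k)) ▷ P ≫ a = fst _ _ ≫ u k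

variable {r q : ℕ} {u : ∀ k, Red.DS S (Fin r → ZMod (q ^ k)) ⟶ G}

lemma IsExt.pull {P P' : Over S} {a : Red.DS S (Fin r → ℤ) ⊗ P ⟶ G} (h : IsExt u a) (p : P' ⟶ P) :
    IsExt u (Red.DS S (Fin r → ℤ) ◁ p ≫ a) where
  hom := IsoFam.isHomFamily_pull h.hom p
  tors k := by
    rw [← Category.assoc, ← whisker_exchange, Category.assoc, h.tors, ← Category.assoc, whiskerLeft_fst]

theorem IsExt.unique {C : Type u} [CommRing C] {v : Spec (CommRingCat.of C) ⟶ S} (hq : 1 < q)
    {a b : Red.DS S (Fin r → ℤ) ⊗ Over.mk v ⟶ G} (ha : IsExt u a) (hb : IsExt u b) : a = b := by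
  apply toH_injective
  refine eq_of_cz hq fun k => ?_
  rw [DSmap_toH, DSmap_toH, ha.tors, hb.tors]

variable {V : Type u} [CommRing V] [IsDomain V] [IsDiscreteValuationRing V]
  [LocallyOfFiniteType G.hom] [QuasiCompact G.hom]

/-- **Extension of families**, the trait case. -/
theorem IsExt.exists_of_dvr (v : Spec (CommRingCat.of V) ⟶ S) (hq : 1 < q) (hqu : IsUnit (q : V))
    (hu : ∀ k, IsMonHom (u k)) (hcoh : ∀ j k (h : j ≤ k), Red.DSmap _ (tz r (pow_dvd_pow q h)) ≫ u k = u j)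
    {c : Red.DS S (Fin r → ℤ) ⊗ (Over.map v).obj (Over.mk (Neron.genPt V)) ⟶ G} (hc : IsExt u c) :
    ∃ b : Red.DS S (Fin r → ℤ) ⊗ Over.mk v ⟶ G, IsExt u b := by
  have hlft : LocallyOfFiniteType (Red.bc v G).hom := inferInstanceAs (LocallyOfFiniteType (pullback.snd _ _))
  have hqc : QuasiCompact (Red.bc v G).hom := inferInstanceAs (QuasiCompact (pullback.snd _ _))
  have hφ := IsoFam.isMonHom_unfam (FamBase.isHomFamily_fam v hc.hom)
  let φ : Red.bc (Neron.genPt V) (Red.DS (Spec (CommRingCat.of V)) (Fin r → ℤ)) ⟶ Red.bc (Neron.genPt V) (Red.bc v G) :=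
    IsoFam.unfam (FamBase.fam v c)
  have hφ' : IsMonHom φ := hφ
  let u' : ∀ k, Red.DS (Spec (CommRingCat.of V)) (Fin r → ZMod (q ^ k)) ⟶ Red.bc v G := fun k =>
    toH v (fst _ _ ≫ u k)
  have hfst : ∀ k, AutFam.IsHomFamily (Red.DS S (Fin r → ZMod (q ^ k))) G (fst _ (Over.mk v) ≫ u k) := by
    intro k X x y t
    rw [lift_fst_assoc, lift_fst_assoc, lift_fst_assoc]
    have := hu k
    exact MonObj.mul_comp _ _ _
  have hu' : ∀ k, IsMonHom (u' k) := fun k => isMonHom_toH (hfst k)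
  obtain ⟨Φ, hΦ, hΦφ, hΦu⟩ := Trait.exists_hom hq hqu φ u' hu' (by
    intro j k h
    change _ ≫ toH v _ = toH v _
    rw [DSmap_toH, whiskerRight_fst_assoc, hcoh j k h]) (by
    intro k
    change (Over.pullback (Neron.genPt V)).map (Red.DSmap _ (cz r (q ^ k))) ≫ IsoFam.unfam (FamBase.fam v c) = _
    rw [map_unfam, ← unfam_fst]
    congr 1
    refine FamBase.hom_ext_lift fun X x t => ?_
    rw [← Category.assoc, lift_whiskerRight, FamBase.lift_fam, lift_fst_assoc, comp_toH, tr_DSmap,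
      ← lift_whiskerRight, Category.assoc, hc.tors, lift_fst_assoc, lift_fst_assoc])
  refine ⟨ofH v Φ, isHomFamily_ofH Φ, fun k => ?_⟩
  apply toH_injective
  rw [← DSmap_toH, toH_ofH, hΦu]

/-- Two families over a discrete valuation ring which agree at the generic point are equal. -/
theorem hom_ext_dvr (v : Spec (CommRingCat.of V) ⟶ S) {a b : Red.DS S (Fin r → ℤ) ⊗ Over.mk v ⟶ G}
    (ha : AutFam.IsHomFamily _ _ a) (hb : AutFam.IsHomFamily _ _ b)
    (hab : Red.DS S (Fin r → ℤ) ◁ st v (Over.mk (Neron.genPt V)) ≫ a =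
      Red.DS S (Fin r → ℤ) ◁ st v (Over.mk (Neron.genPt V)) ≫ b) : a = b := by
  have hlft : LocallyOfFiniteType (Red.bc v G).hom := inferInstanceAs (LocallyOfFiniteType (pullback.snd _ _))
  have hqc : QuasiCompact (Red.bc v G).hom := inferInstanceAs (QuasiCompact (pullback.snd _ _))
  have h1 := isMonHom_toH ha
  have h2 := isMonHom_toH hb
  apply toH_injective
  refine Trait.hom_ext_gen _ _ ?_
  rw [← unfam_fst, ← unfam_fst, ← fam_restrict a, ← fam_restrict b, hab]

end K211.Fam
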