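import Mathlib.RingTheory.Ideal.AssociatedPrime.Finiteness
import Mathlib.RingTheory.TensorProduct.DirectLimitFG
import Mathlib.RingTheory.Flat.Basic
import Mathlib.RingTheory.LocalRing.ResidueField.Ideal
import Mathlib.LinearAlgebra.TensorProduct.Pi
import Mathlib.LinearAlgebra.TensorProduct.RightExactness
import Mathlib.RingTheory.Ideal.MinimalPrime.Noetherian
import Mathlib.RingTheory.Flat.Stability

/-!
# Universally injective families of flat algebras

`A` Noetherian, `R` and the `E i` flat over `A`, `R → E i`. If `κ(p) ⊗ R → ∏ κ(p) ⊗ E i` is injective for all primes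
`p` then `Q ⊗ R → ∏ Q ⊗ E i` is injective for all modules `Q` (`inj`). If `A` is reduced, a morphism `B → R` is the same
as compatible families of morphisms `B → κ(p) ⊗ R`, `B → E i` (`exists_lift`).
-/

set_option autoImplicit false
universe u
open TensorProduct

namespace K211.Push

section mod

variable {A R : Type u} [CommRing A] [AddCommGroup R] [Module A R] [Module.Flat A R] {ι : Type*}
  (E : ι → Type u) [∀ i, AddCommGroup (E i)] [∀ i, Module A (E i)] [∀ i, Module.Flat A (E i)] (ρ : ∀ i, R →ₗ[A] E i)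

theorem inj_of_finite [IsNoetherianRing A]
    (h : ∀ (p : Ideal A) [p.IsPrime] (x : p.ResidueField ⊗[A] R), (∀ i, (ρ i).lTensor _ x = 0) → x = 0)
    (Q : Type u) [AddCommGroup Q] [Module A Q] [hQ : Module.Finite A Q] :
    ∀ (x : Q ⊗[A] R), (∀ i, (ρ i).lTensor Q x = 0) → x = 0 := by
  have hcomm : ∀ {M N : Type u} [AddCommGroup M] [AddCommGroup N] [Module A M] [Module A N] (g : M →ₗ[A] N) (i : ι)
      (x : M ⊗[A] R), (ρ i).lTensor N (g.rTensor R x) = g.rTensor (E i) ((ρ i).lTensor M x) := by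
    intro M N _ _ _ _ g i x
    rw [← LinearMap.comp_apply, ← LinearMap.comp_apply, LinearMap.lTensor_comp_rTensor, LinearMap.rTensor_comp_lTensor]
  induction hQ using IsNoetherianRing.induction_on_isQuotientEquivQuotientPrime A with
  | subsingleton N =>
    intro x _
    exact Subsingleton.elim _ _
  | quotient N p f =>
    intro x hx
    have hp : p.1.IsPrime := p.2
    let g : N →ₗ[A] p.1.ResidueField := (IsScalarTower.toAlgHom A (A ⧸ p.1) p.1.ResidueField).toLinearMap ∘ₗ f.toLinearMap
    have hg : Function.Injective g := by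
      change Function.Injective (algebraMap (A ⧸ p.1) p.1.ResidueField ∘ f)
      exact (Ideal.injective_algebraMap_quotient_residueField p.1).comp f.injective
    have h1 := Module.Flat.rTensor_preserves_injective_linearMap (M := R) g hg
    apply h1
    rw [map_zero]
    refine h p.1 _ fun i => ?_
    rw [hcomm, hx, map_zero]
  | exact N₁ N₂ N₃ f g hf hg hfg h₁ h₃ =>
    intro x hx
    have h1 : g.rTensor R x = 0 := h₃ _ fun i => by rw [hcomm, hx, map_zero]
    obtain ⟨z, rfl⟩ := (rTensor_exact R hfg hg x).1 h1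
    rw [h₁ z fun i => ?_, map_zero]
    apply Module.Flat.rTensor_preserves_injective_linearMap (M := E i) f hf
    rw [map_zero, ← hcomm, hx]

theorem inj [IsNoetherianRing A]
    (h : ∀ (p : Ideal A) [p.IsPrime] (x : p.ResidueField ⊗[A] R), (∀ i, (ρ i).lTensor _ x = 0) → x = 0)
    (Q : Type u) [AddCommGroup Q] [Module A Q] (x : Q ⊗[A] R) (hx : ∀ i, (ρ i).lTensor Q x = 0) : x = 0 := by
  obtain ⟨P, hP, hy⟩ := TensorProduct.exists_finite_submodule_left_of_setFinite {x} (Set.finite_singleton x)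
  obtain ⟨y, rfl⟩ := hy rfl
  rw [inj_of_finite E ρ h P y fun i => ?_, map_zero]
  apply Module.Flat.rTensor_preserves_injective_linearMap (M := E i) P.subtype P.injective_subtype
  rw [map_zero, ← hx i, ← LinearMap.comp_apply, ← LinearMap.comp_apply, LinearMap.lTensor_comp_rTensor,
    LinearMap.rTensor_comp_lTensor]

omit [Module.Flat A R] in
lemma eq_of_proj {κ : Type*} [Finite κ] {F : κ → Type u} [∀ k, AddCommGroup (F k)] [∀ k, Module A (F k)]
    {x y : (∀ k, F k) ⊗[A] R} (h : ∀ k, (LinearMap.proj k : (∀ k, F k) →ₗ[A] F k).rTensor R x =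
      (LinearMap.proj k : (∀ k, F k) →ₗ[A] F k).rTensor R y) : x = y := by
  classical
  have := Fintype.ofFinite κ
  have h1 : ∀ z : (∀ k, F k) ⊗[A] R, z = ∑ k, (LinearMap.single A F k).rTensor R
      ((LinearMap.proj k : (∀ k, F k) →ₗ[A] F k).rTensor R z) := by
    intro z
    have h2 : (LinearMap.id : (∀ k, F k) →ₗ[A] (∀ k, F k)) =
        ∑ k, LinearMap.single A F k ∘ₗ (LinearMap.proj k : (∀ k, F k) →ₗ[A] F k) := by
      refine LinearMap.ext fun f => ?_
      simp only [LinearMap.id_apply, LinearMap.sum_apply, LinearMap.comp_apply, LinearMap.proj_apply,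
        LinearMap.single_apply]
      exact (Finset.univ_sum_single f).symm
    conv_lhs => rw [← LinearMap.id_apply (R := A) z, ← LinearMap.rTensor_id, h2]
    simp only [← LinearMap.comp_apply, ← LinearMap.rTensor_comp]
    rw [← LinearMap.sum_apply]
    congr 1
    ext
    simp [LinearMap.rTensor, TensorProduct.sum_tmul]
  rw [h1 x, h1 y]
  exact Finset.sum_congr rfl fun k _ => by rw [h k]

omit [Module.Flat A R] in
lemma exists_proj {κ : Type*} [Finite κ] {F : κ → Type u} [∀ k, AddCommGroup (F k)] [∀ k, Module A (F k)]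
    (g : ∀ k, F k ⊗[A] R) : ∃ x : (∀ k, F k) ⊗[A] R, ∀ k, (LinearMap.proj k : (∀ k, F k) →ₗ[A] F k).rTensor R x = g k := by
  classical
  have := Fintype.ofFinite κ
  refine ⟨∑ k, (LinearMap.single A F k).rTensor R (g k), fun k => ?_⟩
  rw [map_sum, Finset.sum_eq_single k]
  · rw [← LinearMap.comp_apply, ← LinearMap.rTensor_comp, LinearMap.proj_comp_single_same, LinearMap.rTensor_id,
      LinearMap.id_apply]
  · intro l _ hl
    rw [← LinearMap.comp_apply, ← LinearMap.rTensor_comp, LinearMap.proj_comp_single_ne A F _ _ hl.symm,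
      LinearMap.rTensor_zero, LinearMap.zero_apply]
  · intro h
    exact absurd (Finset.mem_univ k) h

end mod

section lift

variable {A R B : Type u} [CommRing A] [CommRing R] [Algebra A R] [CommRing B] [Algebra A B] {ι : Type*}
  (E : ι → Type u) [∀ i, CommRing (E i)] [∀ i, Algebra A (E i)] (ρ : ∀ i, R →ₐ[A] E i)

section fam

variable {κ : Type u} (P : κ → Ideal A) [hP : ∀ k, (P k).IsPrime]

/-- The embedding of `A` in a product of residue fields. -/
noncomputable def jj : A →ₗ[A] (∀ k, (P k).ResidueField) := LinearMap.pi fun k => Algebra.linearMap A (P k).ResidueField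

lemma jj_injective (hbot : ⨅ k, P k = ⊥) : Function.Injective (jj P) := by
  rw [← LinearMap.ker_eq_bot, eq_bot_iff]
  intro x hx
  have h1 : x ∈ ⨅ k, P k := by
    rw [Ideal.mem_iInf]
    intro k
    rw [← Ideal.algebraMap_residueField_eq_zero]
    exact congrFun hx k
  rwa [hbot] at h1

lemma rTensor_jj [Finite κ] (x : R) (y : (∀ k, (P k).ResidueField) ⊗[A] R)
    (h : ∀ k, (LinearMap.proj k : (∀ k, (P k).ResidueField) →ₗ[A] (P k).ResidueField).rTensor R y = 1 ⊗ₜ x) :
    (jj P).rTensor R (1 ⊗ₜ x) = y := by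
  refine eq_of_proj fun k => ?_
  rw [h k, LinearMap.rTensor_tmul, LinearMap.rTensor_tmul]
  exact congrArg (· ⊗ₜ[A] x) (map_one (algebraMap A (P k).ResidueField))

lemma eq_of_fam [Finite κ] [Module.Flat A R] (hbot : ⨅ k, P k = ⊥) {x y : R}
    (h : ∀ k, (1 : (P k).ResidueField) ⊗ₜ[A] x = 1 ⊗ₜ[A] y) : x = y := by
  have h1 : (jj P).rTensor R (1 ⊗ₜ x) = (jj P).rTensor R (1 ⊗ₜ y) := by
    refine rTensor_jj P x _ fun k => ?_
    rw [h k, LinearMap.rTensor_tmul, LinearMap.rTensor_tmul]
    exact congrArg (· ⊗ₜ[A] y) (map_one (algebraMap A (P k).ResidueField))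
  have h2 := Module.Flat.rTensor_preserves_injective_linearMap (M := R) _ (jj_injective P hbot) h1
  simpa using congrArg (TensorProduct.lid A R) h2

include ρ in
theorem exists_elt [IsNoetherianRing A] [Finite κ] [Module.Flat A R] [∀ i, Module.Flat A (E i)]
    (hinj : ∀ (p : Ideal A) [p.IsPrime] (x : p.ResidueField ⊗[A] R),
      (∀ i, Algebra.TensorProduct.map (AlgHom.id A _) (ρ i) x = 0) → x = 0)
    (g : ∀ k, (P k).ResidueField ⊗[A] R) (e : ∀ i, E i)
    (hge : ∀ k i, Algebra.TensorProduct.map (AlgHom.id A _) (ρ i) (g k) = 1 ⊗ₜ e i) :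
    ∃ f : R, ∀ k, (1 : (P k).ResidueField) ⊗ₜ[A] f = g k := by
  obtain ⟨x, hx⟩ := exists_proj (F := fun k => (P k).ResidueField) g
  let Q := (∀ k, (P k).ResidueField) ⧸ LinearMap.range (jj P)
  let π : (∀ k, (P k).ResidueField) →ₗ[A] Q := (LinearMap.range (jj P)).mkQ
  have h1 : π.rTensor R x = 0 := by
    refine inj E (fun i => (ρ i).toLinearMap) hinj Q _ fun i => ?_
    rw [← LinearMap.comp_apply, LinearMap.lTensor_comp_rTensor, ← LinearMap.rTensor_comp_lTensor,
      LinearMap.comp_apply]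
    have h2 : (ρ i).toLinearMap.lTensor _ x = (jj P).rTensor (E i) (1 ⊗ₜ e i) := by
      refine (rTensor_jj P (e i) _ fun k => ?_).symm
      rw [← hge k i, ← hx k, ← LinearMap.comp_apply, LinearMap.rTensor_comp_lTensor,
        ← LinearMap.lTensor_comp_rTensor, LinearMap.comp_apply]
      rfl
    rw [h2, ← LinearMap.comp_apply, ← LinearMap.rTensor_comp, LinearMap.range_mkQ_comp, LinearMap.rTensor_zero,
      LinearMap.zero_apply]
  have h3 : Function.Exact (jj P) π := by
    rw [LinearMap.exact_iff, Submodule.ker_mkQ]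
  obtain ⟨z, rfl⟩ := (rTensor_exact R h3 (Submodule.mkQ_surjective _) x).1 h1
  refine ⟨TensorProduct.lid A R z, fun k => ?_⟩
  rw [← hx k]
  obtain ⟨w, rfl⟩ : ∃ w, z = 1 ⊗ₜ w := ⟨TensorProduct.lid A R z, by
    apply (TensorProduct.lid A R).injective
    simp⟩
  rw [LinearMap.rTensor_tmul, LinearMap.rTensor_tmul, TensorProduct.lid_tmul, one_smul]
  exact congrArg (· ⊗ₜ[A] w) (map_one (algebraMap A (P k).ResidueField)).symm

end fam

/-- A family of morphisms `B → κ(p) ⊗ R` which is compatible with morphisms `B → E i` comes from a morphism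
`B → R`. -/
theorem exists_lift [IsNoetherianRing A] [IsReduced A] [Module.Flat A R] [∀ i, Module.Flat A (E i)]
    (hinj : ∀ (p : Ideal A) [p.IsPrime] (x : p.ResidueField ⊗[A] R),
      (∀ i, Algebra.TensorProduct.map (AlgHom.id A _) (ρ i) x = 0) → x = 0)
    (g : ∀ (p : Ideal A) [p.IsPrime], B →ₐ[A] p.ResidueField ⊗[A] R) (e : ∀ i, B →ₐ[A] E i)
    (hge : ∀ (p : Ideal A) [p.IsPrime] i b, Algebra.TensorProduct.map (AlgHom.id A _) (ρ i) (g p b) = 1 ⊗ₜ e i b) :
    ∃ f : B →ₐ[A] R, (∀ (p : Ideal A) [p.IsPrime] b, (1 : p.ResidueField) ⊗ₜ[A] f b = g p b) ∧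
      ∀ i b, ρ i (f b) = e i b := by
  let κ := minimalPrimes A
  let P : κ → Ideal A := Subtype.val
  have hfin : Finite κ := (minimalPrimes.finite_of_isNoetherianRing A).to_subtype
  have hP : ∀ k, (P k).IsPrime := fun k => Ideal.IsMinimalPrime.isPrime k.2
  have hbot : ⨅ k, P k = ⊥ := by
    have h1 : sInf (minimalPrimes A) = nilradical A := Ideal.sInf_minimalPrimes
    rw [nilradical_eq_zero] at h1
    rw [← Ideal.zero_eq_bot, ← h1, sInf_eq_iInf']
  have h1 : ∀ b, ∃ f : R, ∀ k, (1 : (P k).ResidueField) ⊗ₜ[A] f = g (P k) b := fun b =>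
    exists_elt E ρ P hinj (fun k => g (P k) b) (fun i => e i b) fun k i => hge (P k) i b
  choose f hf using h1
  have huniq : ∀ {x y : R}, (∀ k, (1 : (P k).ResidueField) ⊗ₜ[A] x = 1 ⊗ₜ[A] y) → x = y := fun h =>
    eq_of_fam P hbot h
  have hmap : ∀ k (x : R), (1 : (P k).ResidueField) ⊗ₜ[A] x =
      (Algebra.TensorProduct.includeRight : R →ₐ[A] (P k).ResidueField ⊗[A] R) x := fun k x => rfl
  let F : B →ₐ[A] R :=
    { toFun := f
      map_one' := huniq fun k => by rw [hf, map_one, hmap, map_one]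
      map_mul' := fun x y => huniq fun k => by rw [hf, map_mul, hmap k (f x * f y), map_mul, ← hmap, ← hmap, hf, hf]
      map_zero' := huniq fun k => by rw [hf, map_zero, hmap, map_zero]
      map_add' := fun x y => huniq fun k => by rw [hf, map_add, hmap k (f x + f y), map_add, ← hmap, ← hmap, hf, hf]
      commutes' := fun a => huniq fun k => by rw [hf, AlgHom.commutes, hmap, AlgHom.commutes] }
  have hFe : ∀ i b, ρ i (F b) = e i b := by
    intro i b
    refine eq_of_fam (R := E i) P hbot fun k => ?_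
    rw [← hge (P k) i b, ← hf b k]
    rfl
  refine ⟨F, fun p hp b => ?_, hFe⟩
  rw [← sub_eq_zero]
  refine hinj p _ fun i => ?_
  rw [map_sub, hge p i b, ← hFe i b]
  exact sub_self _

end lift

end K211.Push
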