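import Groth.Agent.SGA3x.K211.TorsQ
import Groth.Agent.SGA3x.K211.Push

/-!
# Density of the torsion in localisations of `A[ℤ^r]`
-/

set_option autoImplicit false
universe u
open TensorProduct

namespace K211.LocDense

open Groth.Agent TorsQ

lemma loc_aux (A : Type u) [CommRing A] (Q : Type u) [CommRing Q] [Algebra A Q] {B : Type u} [CommRing B] [Algebra A B]
    (h : B) (z : Q ⊗[A] Localization.Away h) : ∃ (n : ℕ) (x : Q ⊗[A] B),
      (1 ⊗ₜ algebraMap B (Localization.Away h) h) ^ n * z =
        Algebra.TensorProduct.map (AlgHom.id A Q) (IsScalarTower.toAlgHom A B (Localization.Away h)) x := by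
  induction z with
  | zero => exact ⟨0, 0, by simp⟩
  | tmul c b =>
    obtain ⟨n, b', hb⟩ := IsLocalization.Away.surj h b
    refine ⟨n, c ⊗ₜ b', ?_⟩
    rw [Algebra.TensorProduct.tmul_pow, one_pow, Algebra.TensorProduct.tmul_mul_tmul, one_mul,
      Algebra.TensorProduct.map_tmul, mul_comm, hb]
    rfl
  | add y z hy hz =>
    obtain ⟨n, a, ha⟩ := hy
    obtain ⟨m, b, hb⟩ := hz
    let H : Q ⊗[A] B := 1 ⊗ₜ h
    have hH : Algebra.TensorProduct.map (AlgHom.id A Q) (IsScalarTower.toAlgHom A B (Localization.Away h)) H =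
      1 ⊗ₜ algebraMap B (Localization.Away h) h := by
      simp [H]
    refine ⟨n + m, H ^ m * a + H ^ n * b, ?_⟩
    rw [map_add, map_mul, map_mul, map_pow, map_pow, hH, ← ha, ← hb]
    ring

lemma loc_aux' (A : Type u) [CommRing A] (Q : Type u) [CommRing Q] [Algebra A Q] {B : Type u} [CommRing B] [Algebra A B]
    (h : B) (x : Q ⊗[A] B)
    (hx : Algebra.TensorProduct.map (AlgHom.id A Q) (IsScalarTower.toAlgHom A B (Localization.Away h)) x = 0) :
    ∃ n : ℕ, (1 ⊗ₜ h) ^ n * x = 0 := by
  let φ := Algebra.TensorProduct.map (AlgHom.id A Q) (IsScalarTower.toAlgHom A B (Localization.Away h))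
  let : Algebra (Q ⊗[A] B) (Q ⊗[A] Localization.Away h) := (φ : _ →+* _).toAlgebra
  have ht : IsScalarTower Q (Q ⊗[A] B) (Q ⊗[A] Localization.Away h) := IsScalarTower.of_algebraMap_eq' (by
    ext c
    change c ⊗ₜ 1 = φ (c ⊗ₜ 1)
    simp [φ])
  have hl : IsLocalization ((Submonoid.powers h).map (Algebra.TensorProduct.includeRight (R := A) (A := Q)))
      (Q ⊗[A] Localization.Away h) := by
    refine IsLocalization.tensorProduct_tensorProduct_right A Q (Submonoid.powers h) (Localization.Away h) ?_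
    ext c
    change φ (1 ⊗ₜ c) = 1 ⊗ₜ algebraMap _ _ c
    simp [φ]
  obtain ⟨⟨_, _, ⟨n, rfl⟩, rfl⟩, hm⟩ := (IsLocalization.map_eq_zero_iff
    ((Submonoid.powers h).map (Algebra.TensorProduct.includeRight (R := A) (A := Q)))
      (Q ⊗[A] Localization.Away h) x).1 hx
  refine ⟨n, ?_⟩
  rw [← hm]
  congr 1
  change _ = Algebra.TensorProduct.includeRight (h ^ n)
  rw [map_pow]
  rfl

lemma smul_comm_aux {A Q B : Type u} [CommRing A] [CommRing Q] [Algebra A Q] [CommRing B] [Algebra A B] (h : B) (n : ℕ)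
    (x : Q ⊗[A] B) : h ^ n • TensorProduct.comm A Q B x = TensorProduct.comm A Q B ((1 ⊗ₜ h) ^ n * x) := by
  induction x with
  | zero => simp
  | tmul c b =>
    rw [Algebra.TensorProduct.tmul_pow, one_pow, Algebra.TensorProduct.tmul_mul_tmul, one_mul,
      TensorProduct.comm_tmul, TensorProduct.comm_tmul, TensorProduct.smul_tmul', smul_eq_mul]
  | add y z hy hz => rw [map_add, smul_add, hy, hz, mul_add, map_add]

variable {A : Type u} [CommRing A] {r q : ℕ}

/-- **Density of the torsion** in `Spec (A[ℤ^r]_h)`, universally. -/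
theorem eq_zero [IsNoetherianRing A] (hq : 1 < q) (hqu : IsUnit (q : A))
    (h : MonoidAlgebra A (Multiplicative (Fin r → ℤ))) (Q : Type u) [CommRing Q] [Algebra A Q]
    (z : Q ⊗[A] Localization.Away h)
    (hz : ∀ k, Algebra.TensorProduct.map (AlgHom.id A Q) (Localization.awayMapₐ (qA A (cz r (q ^ k))) h) z = 0) :
    z = 0 := by
  obtain ⟨n, x, hx⟩ := loc_aux A Q h z
  have hfin : ∀ k, Finite (Multiplicative (Fin r → ZMod (q ^ k))) := fun k => by
    have : NeZero (q ^ k) := ⟨(pow_pos (by omega) k).ne'⟩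
    exact (inferInstance : Finite (Fin r → ZMod (q ^ k)))
  have hcard : ∀ k, IsUnit ((Nat.card (Multiplicative (Fin r → ZMod (q ^ k))) : ℕ) : A) := by
    intro k
    have : NeZero (q ^ k) := ⟨(pow_pos (by omega) k).ne'⟩
    have h1 : Nat.card (Multiplicative (Fin r → ZMod (q ^ k))) = (q ^ k) ^ r := by
      change Nat.card (Fin r → ZMod (q ^ k)) = _
      rw [Nat.card_eq_fintype_card]
      simp
    rw [h1, Nat.cast_pow, Nat.cast_pow]
    exact (hqu.pow k).pow r
  obtain ⟨l, hl⟩ := Sga3.H816.TorsDense.dense (A := A) hfin hcard (sep r hq) Q h (TensorProduct.comm A _ _ x) fun k => by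
    have h1 : Algebra.TensorProduct.map (AlgHom.id A Q) (IsScalarTower.toAlgHom A _
        (Localization.Away (qA A (cz r (q ^ k)) h)))
        (Algebra.TensorProduct.map (AlgHom.id A Q) (qA A (cz r (q ^ k))) x) = 0 := by
      have h2 : (Algebra.TensorProduct.map (AlgHom.id A Q) (IsScalarTower.toAlgHom A _
          (Localization.Away (qA A (cz r (q ^ k)) h)))).comp
          (Algebra.TensorProduct.map (AlgHom.id A Q) (qA A (cz r (q ^ k)))) =
          (Algebra.TensorProduct.map (AlgHom.id A Q) (Localization.awayMapₐ (qA A (cz r (q ^ k))) h)).comp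
          (Algebra.TensorProduct.map (AlgHom.id A Q) (IsScalarTower.toAlgHom A _ (Localization.Away h))) := by
        rw [← Algebra.TensorProduct.map_comp, ← Algebra.TensorProduct.map_comp]
        congr 1
        ext m
        simp [Localization.awayMapₐ, IsLocalization.Away.mapₐ, IsLocalization.Away.map, IsLocalization.map_eq]
      have h3 := congr($h2 x)
      rw [AlgHom.comp_apply, AlgHom.comp_apply] at h3
      rw [h3, ← hx, map_mul, hz, mul_zero]
    obtain ⟨m, hm⟩ := loc_aux' A Q _ _ h1
    refine ⟨m, ?_⟩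
    rw [smul_comm_aux]
    have h4 : ∀ y : Q ⊗[A] MonoidAlgebra A (Multiplicative (Fin r → ℤ)),
        Sga3.H816.TorsDense.qmap A (AddMonoidHom.toMultiplicative (cz r (q ^ k))) Q (TensorProduct.comm A _ _ y) =
          TensorProduct.comm A _ _ (Algebra.TensorProduct.map (AlgHom.id A Q) (qA A (cz r (q ^ k))) y) := by
      intro y
      induction y with
      | zero => simp
      | tmul c b => rfl
      | add y z hy hz => rw [map_add, map_add, hy, hz, map_add, map_add]
    rw [h4, map_mul, map_pow, Algebra.TensorProduct.map_tmul, AlgHom.id_apply, hm, map_zero]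
  rw [smul_comm_aux] at hl
  have hl' : ((1 : Q) ⊗ₜ[A] h) ^ l * x = 0 := (TensorProduct.comm A _ _).injective (by rw [hl, map_zero])
  have hu : IsUnit ((1 : Q) ⊗ₜ[A] algebraMap _ (Localization.Away h) h) := by
    have h1 : IsUnit (algebraMap _ (Localization.Away h) h) := IsLocalization.Away.algebraMap_isUnit h
    exact h1.map (Algebra.TensorProduct.includeRight : Localization.Away h →ₐ[A] Q ⊗[A] Localization.Away h)
  have h5 := congrArg (Algebra.TensorProduct.map (AlgHom.id A Q) (IsScalarTower.toAlgHom A _ (Localization.Away h))) hl'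
  rw [map_mul, map_pow, Algebra.TensorProduct.map_tmul, AlgHom.id_apply, ← hx, map_zero, ← mul_assoc] at h5
  have h6 : IsUnit (((1 : Q) ⊗ₜ[A] (IsScalarTower.toAlgHom A _ (Localization.Away h)) h) ^ l *
      (1 ⊗ₜ[A] algebraMap _ (Localization.Away h) h) ^ n) := (hu.pow l).mul (hu.pow n)
  exact (h6.mul_right_eq_zero).1 h5

end K211.LocDense
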