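import Groth.Agent.SGA3x.K211.OpenE
import Groth.Agent.SGA3x.K211.LocDense

/-!
# Local construction of homomorphisms from split tori with given torsion
-/

set_option autoImplicit false
set_option linter.dupNamespace false
universe u
open CategoryTheory MonoidalCategory CartesianMonoidalCategory MonObj GrpObj AlgebraicGeometry Limits
open scoped TensorProduct

namespace K211.LocalHom

open Groth.Agent Groth.Agent.Sga3B Groth.Agent.Sga3B.DSPts Groth.Agent.Sga3B.InfConj Groth.Agent.Sga3B.InfConjFam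
  Groth.Agent.Sga3B.DSRigid Groth.Agent.Sga3.H767 TorsQ Fam Val FamLim Spread OpenE

section aff

variable {A : Type u} [CommRing A] {G : Over (Spec (CommRingCat.of A))}

theorem exists_ptMap {B C : Type u} [CommRing B] [Algebra A B] [CommRing C] [Algebra A C] (z : pt A C ⟶ pt A B) :
    ∃ f : B →ₐ[A] C, ptMap f = z := by
  obtain ⟨ψ, hψ⟩ := Spec.map_surjective z.left
  have h1 : CommRingCat.ofHom (algebraMap A B) ≫ ψ = CommRingCat.ofHom (algebraMap A C) := by
    apply Spec.map_injective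
    rw [Spec.map_comp, hψ]
    exact Over.w z
  refine ⟨{ ψ.hom with commutes' := fun a => congr($h1 a) }, ?_⟩
  ext1
  exact hψ

theorem ptMap_injective {B C : Type u} [CommRing B] [Algebra A B] [CommRing C] [Algebra A C] {f f' : B →ₐ[A] C}
    (h : ptMap f = ptMap f') : f = f' := by
  have h1 : Spec.map (CommRingCat.ofHom f.toRingHom) = Spec.map (CommRingCat.ofHom f'.toRingHom) :=
    congrArg (fun z => Over.Hom.left z) h
  have h2 := Spec.map_injective h1
  ext b
  exact congr($h2 b)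

/-- Affine open subschemes over the base. -/
theorem exists_model (U : G.left.Opens) (hU : IsAffineOpen U) :
    ∃ (B : Type u) (_ : CommRing B) (_ : Algebra A B) (g : pt A B ⟶ G), IsOpenImmersion g.left ∧
      Set.range g.left = U := by
  let φ := Spec.preimage (hU.fromSpec ≫ G.hom)
  let B : Type u := Γ(G.left, U)
  let : Algebra A B := φ.hom.toAlgebra
  refine ⟨B, inferInstance, inferInstance, Over.homMk hU.fromSpec ?_, ?_, ?_⟩
  · change hU.fromSpec ≫ G.hom = Spec.map φ
    rw [Spec.map_preimage]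
  · exact inferInstanceAs (IsOpenImmersion hU.fromSpec)
  · exact hU.range_fromSpec

theorem exists_algHom {B C : Type u} [CommRing B] [Algebra A B] [CommRing C] [Algebra A C] (g : pt A B ⟶ G)
    [IsOpenImmersion g.left] (z : pt A C ⟶ G) (hz : Set.range z.left ⊆ Set.range g.left) :
    ∃ f : B →ₐ[A] C, ptMap f ≫ g = z := by
  let l : pt A C ⟶ pt A B := Over.homMk (IsOpenImmersion.lift g.left z.left hz) (by
    rw [← Over.w g, ← Category.assoc, IsOpenImmersion.lift_fac, Over.w])
  obtain ⟨f, hf⟩ := exists_ptMap l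
  refine ⟨f, ?_⟩
  rw [hf]
  ext1
  exact IsOpenImmersion.lift_fac _ _ _

theorem algHom_ext {B C : Type u} [CommRing B] [Algebra A B] [CommRing C] [Algebra A C] (g : pt A B ⟶ G)
    [IsOpenImmersion g.left] {f f' : B →ₐ[A] C} (h : ptMap f ≫ g = ptMap f' ≫ g) : f = f' := by
  apply ptMap_injective
  ext1
  rw [← cancel_mono g.left]
  exact congrArg (fun z => Over.Hom.left z) h

end aff

variable {A : Type u} [CommRing A] {G : Over (Spec (CommRingCat.of A))} [GrpObj G] {r q : ℕ}
  {u : ∀ k, Red.DS (Spec (CommRingCat.of A)) (Fin r → ZMod (q ^ k)) ⟶ G}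

/-- Values at points whose image is in `E u U` are in `U`. -/
lemma range_subset_of_val (hq : 1 < q)
    (hF : ∀ (K : Type u) [Field K] (v : Spec (CommRingCat.of K) ⟶ Spec (CommRingCat.of A)), Has u (Over.mk v))
    {P : Over (Spec (CommRingCat.of A))} {x : P ⟶ Red.DS (Spec (CommRingCat.of A)) (Fin r → ℤ)} {y : P ⟶ G}
    (h : ∀ (K : Type u) [Field K] (v : Spec (CommRingCat.of K) ⟶ Spec (CommRingCat.of A)) (w : Over.mk v ⟶ P),
      Val u (w ≫ x) (w ≫ y))
    (U : Set G.left) (hx : Set.range x.left ⊆ E u U) : Set.range y.left ⊆ U := by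
  rintro _ ⟨c, rfl⟩
  have h1 := mem_E_iff hq hF (h _ _ (rp c)) (IsLocalRing.closedPoint _) U
  have h2 : (rp c).left (IsLocalRing.closedPoint _) = c := Scheme.fromSpecResidueField_apply _ _
  have h3 : (rp c ≫ x).left (IsLocalRing.closedPoint _) = x.left c := congrArg x.left h2
  have h4 : (rp c ≫ y).left (IsLocalRing.closedPoint _) = y.left c := congrArg y.left h2
  rw [← h4]
  refine h1.1 ?_
  have h5 : x.left c ∈ E u U := hx ⟨c, rfl⟩
  rw [← h3] at h5
  exact h5

variable (A r) in
/-- the point of `D(ℤ^r)` with values in `A[ℤ^r]_h` -/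
noncomputable def xh (h : MonoidAlgebra A (Multiplicative (Fin r → ℤ))) :
    pt A (Localization.Away h) ⟶ Red.DS (Spec (CommRingCat.of A)) (Fin r → ℤ) :=
  ptMap (IsScalarTower.toAlgHom A (MonoidAlgebra A (Multiplicative (Fin r → ℤ))) (Localization.Away h)) ≫
    univPt A (Fin r → ℤ)

variable (A r q) in
/-- the point of `D((ℤ/q^k)^r)` with values in `A[(ℤ/q^k)^r]_h` -/
noncomputable def xk (h : MonoidAlgebra A (Multiplicative (Fin r → ℤ))) (k : ℕ) :
    pt A (Localization.Away (qA A (cz r (q ^ k)) h)) ⟶ Red.DS (Spec (CommRingCat.of A)) (Fin r → ZMod (q ^ k)) :=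
  ptMap (IsScalarTower.toAlgHom A (MonoidAlgebra A (Multiplicative (Fin r → ZMod (q ^ k))))
    (Localization.Away (qA A (cz r (q ^ k)) h))) ≫ univPt A (Fin r → ZMod (q ^ k))

lemma xk_DSmap (h : MonoidAlgebra A (Multiplicative (Fin r → ℤ))) (k : ℕ) :
    xk A r q h k ≫ Red.DSmap _ (cz r (q ^ k)) =
      ptMap (Localization.awayMapₐ (qA A (cz r (q ^ k))) h) ≫ xh A r h := by
  rw [xk, xh, Category.assoc, univPt_DSmap, ← Category.assoc, ← Category.assoc, ptMap_comp, ptMap_comp]
  congr 2
  ext m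
  simp [Localization.awayMapₐ, IsLocalization.Away.mapₐ, IsLocalization.Away.map, IsLocalization.map_eq]

/-- A point with values in a field of `Spec R` factors through a fibre. -/
theorem exists_fibre {R : Type u} [CommRing R] [Algebra A R] {K : Type u} [Field K]
    {v : Spec (CommRingCat.of K) ⟶ Spec (CommRingCat.of A)} (x : Over.mk v ⟶ pt A R) :
    ∃ (P : Ideal A) (_ : P.IsPrime) (w : Over.mk v ⟶ pt A (P.ResidueField ⊗[A] R)),
      w ≫ ptMap (Algebra.TensorProduct.includeRight : R →ₐ[A] P.ResidueField ⊗[A] R) = x := by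
  obtain ⟨φ, rfl⟩ := Spec.map_surjective v
  let : Algebra A K := φ.hom.toAlgebra
  obtain ⟨f, hf⟩ := exists_ptMap (A := A) (B := R) (C := K) x
  let P : Ideal A := RingHom.ker (algebraMap A K)
  have hP : P.IsPrime := RingHom.ker_isPrime _
  let g : P.ResidueField →ₐ[A] K := Ideal.ResidueField.liftₐ P (Algebra.ofId A K) (fun _ h => h) (fun x hx => by
    change IsUnit (algebraMap A K x)
    rw [isUnit_iff_ne_zero]
    intro h
    exact hx h)
  refine ⟨P, hP, ptMap (Algebra.TensorProduct.lift g f fun _ _ => Commute.all _ _), ?_⟩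
  rw [ptMap_comp]
  refine Eq.trans ?_ hf
  congr 1
  ext b
  simp

/-- Every point of `D(ℤ^r)` is in `E u U` for some affine open `U`. -/
theorem exists_mem_E (hq : 1 < q)
    (hF : ∀ (K : Type u) [Field K] (v : Spec (CommRingCat.of K) ⟶ Spec (CommRingCat.of A)), Has u (Over.mk v))
    (t : (Red.DS (Spec (CommRingCat.of A)) (Fin r → ℤ)).left) :
    ∃ U : G.left.Opens, IsAffineOpen U ∧ t ∈ E u (U : Set G.left) := by
  obtain ⟨z, hz⟩ := (hF _ ((Red.DS (Spec (CommRingCat.of A)) (Fin r → ℤ)).left.fromSpecResidueField t ≫ _)).exists_val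
    (rp t)
  let y₀ : G.left := z.left (IsLocalRing.closedPoint _)
  obtain ⟨_, ⟨U, hU, rfl⟩, hyU, -⟩ := G.left.isBasis_affineOpens.exists_subset_of_mem_open
    (Set.mem_univ y₀) isOpen_univ
  refine ⟨U, hU, ?_⟩
  have h1 := mem_E_iff hq hF hz (IsLocalRing.closedPoint _) (U : Set G.left)
  have h2 : (rp t).left (IsLocalRing.closedPoint _) = t := Scheme.fromSpecResidueField_apply _ _
  have h3 := h1.2 hyU
  have h4 : ∀ t' ∈ E u (U : Set G.left), t' = t → t ∈ E u (U : Set G.left) := by
    rintro t' ht' rfl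
    exact ht'
  exact h4 _ h3 h2

/-- Neighbourhoods of points, on group algebras. -/
theorem exists_basic (W : Set (Red.DS (Spec (CommRingCat.of A)) (Fin r → ℤ)).left) (hW : IsOpen W)
    (y : Spec (CommRingCat.of (MonoidAlgebra A (Multiplicative (Fin r → ℤ)))))
    (hy : (univPt A (Fin r → ℤ)).left y ∈ W) :
    ∃ h : MonoidAlgebra A (Multiplicative (Fin r → ℤ)), h ∉ y.asIdeal ∧ Set.range (xh A r h).left ⊆ W := by
  have hopen : IsOpen ((univPt A (Fin r → ℤ)).left ⁻¹' W) := hW.preimage (univPt A (Fin r → ℤ)).left.continuous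
  obtain ⟨_, ⟨_, ⟨h, rfl⟩, rfl⟩, hyh, hhE⟩ := PrimeSpectrum.isBasis_basic_opens.exists_subset_of_mem_open
    (show y ∈ (univPt A (Fin r → ℤ)).left ⁻¹' W from hy) hopen
  refine ⟨h, hyh, ?_⟩
  rintro _ ⟨z, rfl⟩
  refine hhE ?_
  change algebraMap _ (Localization.Away h) h ∉ z.asIdeal
  intro h1
  exact z.isPrime.ne_top (Ideal.eq_top_of_isUnit_mem _ h1 (IsLocalization.Away.algebraMap_isUnit h))

variable [LocallyOfFiniteType G.hom] [QuasiCompact G.hom]

/-- **Local existence.** -/
theorem exists_local [IsNoetherianRing A] [IsReduced A] (hq : 1 < q) (hqu : IsUnit (q : A)) (hu : ∀ k, IsMonHom (u k))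
    (hcoh : ∀ j k (h : j ≤ k), Red.DSmap _ (tz r (pow_dvd_pow q h)) ≫ u k = u j)
    (hF : ∀ (K : Type u) [Field K] (v : Spec (CommRingCat.of K) ⟶ Spec (CommRingCat.of A)), Has u (Over.mk v))
    (y : Spec (CommRingCat.of (MonoidAlgebra A (Multiplicative (Fin r → ℤ))))) :
    ∃ h : MonoidAlgebra A (Multiplicative (Fin r → ℤ)), h ∉ y.asIdeal ∧ ∃ ψ : pt A (Localization.Away h) ⟶ G,
      (∀ (K : Type u) [Field K] (v : Spec (CommRingCat.of K) ⟶ Spec (CommRingCat.of A))
        (x : Over.mk v ⟶ pt A (Localization.Away h)), Val u (x ≫ xh A r h) (x ≫ ψ)) ∧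
      ∀ k, ptMap (Localization.awayMapₐ (qA A (cz r (q ^ k))) h) ≫ ψ = xk A r q h k ≫ u k := by
  obtain ⟨U, hU, hyE⟩ := exists_mem_E hq hF ((univPt A (Fin r → ℤ)).left y)
  obtain ⟨B, _, _, g, hg, hgU⟩ := exists_model U hU
  obtain ⟨h, hyh, hxh⟩ := exists_basic _ (isOpen_E hq hqu hu hcoh hF U) y hyE
  refine ⟨h, hyh, ?_⟩
  let R := Localization.Away h
  let Ek : ℕ → Type u := fun k => Localization.Away (qA A (cz r (q ^ k)) h)
  let ρ : ∀ k, R →ₐ[A] Ek k := fun k => Localization.awayMapₐ (qA A (cz r (q ^ k))) h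
  have hfR : Module.Flat A R := Module.Flat.trans A (MonoidAlgebra A (Multiplicative (Fin r → ℤ))) R
  have hfE : ∀ k, Module.Flat A (Ek k) := fun k =>
    Module.Flat.trans A (MonoidAlgebra A (Multiplicative (Fin r → ZMod (q ^ k)))) (Ek k)
  have hinj : ∀ (P : Ideal A) [P.IsPrime] (x : P.ResidueField ⊗[A] R),
      (∀ i, Algebra.TensorProduct.map (AlgHom.id A _) (ρ i) x = 0) → x = 0 := fun P _ x hx =>
    LocDense.eq_zero hq hqu h P.ResidueField x hx
  -- the fibres
  have hP : ∀ (P : Ideal A) [P.IsPrime], Has u (pt A (P.ResidueField ⊗[A] R)) := fun P _ =>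
    (hF P.ResidueField (Spec.map (CommRingCat.ofHom (algebraMap A P.ResidueField)))).pull
      (ptMap (Algebra.TensorProduct.includeLeft : P.ResidueField →ₐ[A] P.ResidueField ⊗[A] R))
  have hPE : ∀ (P : Ideal A) [P.IsPrime] (k : ℕ), Has u (pt A (P.ResidueField ⊗[A] Ek k)) := fun P _ k =>
    (hF P.ResidueField (Spec.map (CommRingCat.ofHom (algebraMap A P.ResidueField)))).pull
      (ptMap (Algebra.TensorProduct.includeLeft : P.ResidueField →ₐ[A] P.ResidueField ⊗[A] Ek k))
  have h1 : ∀ (P : Ideal A) [P.IsPrime], ∃ gp : B →ₐ[A] P.ResidueField ⊗[A] R,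
      Val u (ptMap (Algebra.TensorProduct.includeRight : R →ₐ[A] P.ResidueField ⊗[A] R) ≫ xh A r h) (ptMap gp ≫ g) := by
    intro P _
    obtain ⟨z, hz⟩ := (hP P).exists_val
      (ptMap (Algebra.TensorProduct.includeRight : R →ₐ[A] P.ResidueField ⊗[A] R) ≫ xh A r h)
    obtain ⟨gp, hgp⟩ := exists_algHom g z (by
      rw [hgU]
      refine range_subset_of_val hq hF (fun K _ v w => hz.comp w) _ ?_
      refine subset_trans ?_ hxh
      rw [Over.comp_left]
      rintro _ ⟨a, rfl⟩
      exact ⟨_, rfl⟩)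
    exact ⟨gp, by rw [hgp]; exact hz⟩
  choose gp hgp using h1
  have h2 : ∀ k, ∃ ek : B →ₐ[A] Ek k, ptMap ek ≫ g = xk A r q h k ≫ u k := by
    intro k
    refine exists_algHom g _ ?_
    rw [hgU]
    refine range_subset_of_val hq hF (x := xk A r q h k ≫ Red.DSmap _ (cz r (q ^ k))) (fun K _ v w => ?_) _ ?_
    · have h3 := (hF K v).val_tors k (w ≫ xk A r q h k)
      rwa [Category.assoc, Category.assoc] at h3
    · rw [xk_DSmap]
      refine subset_trans ?_ hxh
      rw [Over.comp_left]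
      rintro _ ⟨a, rfl⟩
      exact ⟨_, rfl⟩
  choose ek hek using h2
  obtain ⟨f, hf1, hf2⟩ := Push.exists_lift Ek ρ hinj gp ek (by
    intro P _ k b
    have h3 : (Algebra.TensorProduct.map (AlgHom.id A P.ResidueField) (ρ k)).comp (gp P) =
        (Algebra.TensorProduct.includeRight : Ek k →ₐ[A] P.ResidueField ⊗[A] Ek k).comp (ek k) := by
      apply algHom_ext g
      rw [← ptMap_comp, ← ptMap_comp, Category.assoc, Category.assoc, hek]
      refine Val.unique (u := u) hq (x := ptMap (Algebra.TensorProduct.includeRight : Ek k →ₐ[A] P.ResidueField ⊗[A] Ek k) ≫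
        xk A r q h k ≫ Red.DSmap _ (cz r (q ^ k))) ?_ ?_
      · have h4 := (hgp P).comp (ptMap (Algebra.TensorProduct.map (AlgHom.id A P.ResidueField) (ρ k)))
        rw [← Category.assoc, ptMap_comp] at h4
        have h5 : (Algebra.TensorProduct.map (AlgHom.id A P.ResidueField) (ρ k)).comp
            (Algebra.TensorProduct.includeRight : R →ₐ[A] P.ResidueField ⊗[A] R) =
            (Algebra.TensorProduct.includeRight : Ek k →ₐ[A] P.ResidueField ⊗[A] Ek k).comp (ρ k) := by
          ext b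
          simp
        rw [h5] at h4
        rw [xk_DSmap, ← Category.assoc, ptMap_comp]
        exact h4
      · have h4 := (hPE P k).val_tors k (ptMap (Algebra.TensorProduct.includeRight : Ek k →ₐ[A] P.ResidueField ⊗[A] Ek k) ≫
          xk A r q h k)
        rwa [Category.assoc, Category.assoc] at h4
    exact congr($h3 b))
  refine ⟨ptMap f ≫ g, ?_, ?_⟩
  · intro K _ v x
    obtain ⟨P, _, w, rfl⟩ := exists_fibre x
    have h3 : ptMap (Algebra.TensorProduct.includeRight : R →ₐ[A] P.ResidueField ⊗[A] R) ≫ ptMap f = ptMap (gp P) := by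
      rw [ptMap_comp]
      congr 1
      ext b
      exact hf1 P b
    rw [Category.assoc, Category.assoc, ← Category.assoc (ptMap _) (ptMap f), h3]
    exact (hgp P).comp w
  · intro k
    rw [← hek, ← Category.assoc, ptMap_comp]
    congr 2
    ext b
    exact hf2 k b

end K211.LocalHom
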