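import Groth.Agent.SGA3x.K211.LocalHom
import Groth.Agent.Etcore.SmoothRed

/-!
# Extension of homomorphisms from split tori over reduced bases

`exists_hom`: `A` a reduced Noetherian ring, `q > 1` invertible in `A`, `G` an `A`-group of finite type, `u k` a coherent
family of homomorphisms `D((ℤ/q^k)^r) ⟶ G` which, over every field, extends to a homomorphism from `D(ℤ^r)`. Then it
extends to a homomorphism `D(ℤ^r) ⟶ G` over `A`.
-/

set_option autoImplicit false
set_option linter.dupNamespace false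
universe u
open CategoryTheory MonoidalCategory CartesianMonoidalCategory MonObj GrpObj AlgebraicGeometry Limits
open scoped TensorProduct

namespace K211.RedGlue

open Groth.Agent Groth.Agent.Sga3B Groth.Agent.Sga3B.DSPts Groth.Agent.Sga3B.InfConj Groth.Agent.Sga3B.InfConjFam
  Groth.Agent.Sga3B.DSRigid Groth.Agent.Sga3.H767 TorsQ Fam Val FamLim Spread OpenE LocalHom

/-- Morphisms from a reduced scheme are determined by their values at the points. -/
theorem eq_of_reduced {T X : Scheme.{u}} [AlgebraicGeometry.IsReduced T] (a b : T ⟶ X)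
    (h : ∀ t : T, T.fromSpecResidueField t ≫ a = T.fromSpecResidueField t ≫ b) : a = b := by
  let z := equalizer.ι a b
  have hr : Set.range z = Set.univ := by
    rw [Set.eq_univ_iff_forall]
    intro t
    obtain ⟨p⟩ : Nonempty (Spec (T.residueField t)) := inferInstance
    refine ⟨equalizer.lift _ (h t) p, ?_⟩
    rw [← Scheme.Hom.comp_apply, equalizer.lift_ι]
    exact Scheme.fromSpecResidueField_apply _ p
  have hz : IsClosedImmersion z := IsClosedImmersion.of_isPreimmersion z (by rw [hr]; exact isClosed_univ)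
  have hs : Surjective z := ⟨Set.range_eq_univ.1 hr⟩
  have hi : IsIso z := isIso_of_isClosedImmersion_of_surjective z
  rw [← cancel_epi z]
  exact equalizer.condition a b

theorem over_ext {S : Scheme.{u}} {P G : Over S} [AlgebraicGeometry.IsReduced P.left] (a b : P ⟶ G)
    (h : ∀ (K : Type u) [Field K] (v : Spec (CommRingCat.of K) ⟶ S) (w : Over.mk v ⟶ P), w ≫ a = w ≫ b) : a = b := by
  ext1
  refine eq_of_reduced _ _ fun t => ?_
  exact congrArg (fun f => Over.Hom.left f) (h _ _ (rp t))

section alg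

variable {A : Type u} [CommRing A]

lemma isReduced_monoidAlgebra [_root_.IsReduced A] {N : Type*} [CommGroup N]
    (h : ∀ (P : Ideal A) [P.IsPrime], _root_.IsReduced (MonoidAlgebra P.ResidueField N)) :
    _root_.IsReduced (MonoidAlgebra A N) := by
  constructor
  intro x hx
  ext n
  refine (nilpotent_iff_mem_prime.2 fun P hP => ?_ : IsNilpotent (x.coeff n)).eq_zero
  have := h P
  have h1 : IsNilpotent (MonoidAlgebra.mapRingHom N (algebraMap A P.ResidueField) x) := hx.map _
  have h2 := congrArg (fun y => MonoidAlgebra.coeff y n) h1.eq_zero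
  have h3 : algebraMap A P.ResidueField (x.coeff n) = 0 := by simpa using h2
  exact Ideal.algebraMap_residueField_eq_zero.1 h3

end alg

section glueOver

/-- Gluing of morphisms over a base. -/
theorem glue_over {S : Scheme.{u}} {X G : Over S} {I : Type u} (U : I → Over S) (j : ∀ i, U i ⟶ X)
    (hj : ∀ i, IsOpenImmersion (j i).left) (hcov : ∀ x : X.left, ∃ i, x ∈ Set.range (j i).left) (ψ : ∀ i, U i ⟶ G)
    (h : ∀ (i i' : I) (Z : Over S) (p₁ : Z ⟶ U i) (p₂ : Z ⟶ U i'), IsOpenImmersion (p₁ ≫ j i).left →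
      p₁ ≫ j i = p₂ ≫ j i' → p₁ ≫ ψ i = p₂ ≫ ψ i') :
    ∃ Φ : X ⟶ G, ∀ i, j i ≫ Φ = ψ i := by
  let 𝒰 : X.left.OpenCover := Scheme.Cover.mkOfCovers I (fun i => (U i).left) (fun i => (j i).left)
    (fun x => by obtain ⟨i, y, hy⟩ := hcov x; exact ⟨i, y, hy⟩) hj
  have hgl : ∀ i i' : I, pullback.fst (j i).left (j i').left ≫ (ψ i).left =
      pullback.snd (j i).left (j i').left ≫ (ψ i').left := by
    intro i i'
    let Z : Over S := Over.mk (pullback.fst (j i).left (j i').left ≫ (U i).hom)
    let p₁ : Z ⟶ U i := Over.homMk (pullback.fst (j i).left (j i').left) rfl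
    have hw : pullback.snd (j i).left (j i').left ≫ (U i').hom = pullback.fst (j i).left (j i').left ≫ (U i).hom := by
      rw [← Over.w (j i), ← Over.w (j i'), ← Category.assoc, ← Category.assoc, pullback.condition]
    let p₂ : Z ⟶ U i' := Over.homMk (pullback.snd (j i).left (j i').left) hw
    have h1 : IsOpenImmersion (p₁ ≫ j i).left := by
      have := hj i
      have := hj i'
      have : IsOpenImmersion (pullback.fst (j i).left (j i').left ≫ (j i).left) := inferInstance
      exact this
    have h2 : p₁ ≫ j i = p₂ ≫ j i' := by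
      ext1
      exact pullback.condition
    exact congrArg (fun f => Over.Hom.left f) (h i i' Z p₁ p₂ h1 h2)
  let Φ₀ : X.left ⟶ G.left := 𝒰.glueMorphisms (fun i => (ψ i).left) hgl
  have hΦ₀ : ∀ i, (j i).left ≫ Φ₀ = (ψ i).left := fun i => 𝒰.ι_glueMorphisms (fun i => (ψ i).left) hgl i
  have hw1 : ∀ i, (j i).left ≫ Φ₀ ≫ G.hom = (j i).left ≫ X.hom := fun i => by
    rw [← Category.assoc, hΦ₀, Over.w, Over.w]
  have hw : Φ₀ ≫ G.hom = X.hom := 𝒰.hom_ext _ _ hw1
  refine ⟨Over.homMk Φ₀ hw, fun i => ?_⟩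
  ext1
  exact hΦ₀ i

end glueOver

section glue

variable {A : Type u} [CommRing A] {G : Over (Spec (CommRingCat.of A))} [GrpObj G] {r q : ℕ}
  {u : ∀ k, Red.DS (Spec (CommRingCat.of A)) (Fin r → ZMod (q ^ k)) ⟶ G}

instance isIso_univPt (M : Type) [AddCommGroup M] : IsIso (univPt A M) := by
  have : IsIso ((Over.forget _).map (univPt A M)) := inferInstanceAs (IsIso (univPt A M).left)
  exact isIso_of_reflects_iso (univPt A M) (Over.forget _)

/-- Gluing. -/
theorem exists_glue (hq : 1 < q) [_root_.IsReduced (MonoidAlgebra A (Multiplicative (Fin r → ℤ)))]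
    (hloc : ∀ y : Spec (CommRingCat.of (MonoidAlgebra A (Multiplicative (Fin r → ℤ)))),
      ∃ h : MonoidAlgebra A (Multiplicative (Fin r → ℤ)), h ∉ y.asIdeal ∧ ∃ ψ : pt A (Localization.Away h) ⟶ G,
      ∀ (K : Type u) [Field K] (v : Spec (CommRingCat.of K) ⟶ Spec (CommRingCat.of A))
        (x : Over.mk v ⟶ pt A (Localization.Away h)), Val u (x ≫ xh A r h) (x ≫ ψ)) :
    ∃ Φ : Red.DS (Spec (CommRingCat.of A)) (Fin r → ℤ) ⟶ G,
      ∀ (K : Type u) [Field K] (v : Spec (CommRingCat.of K) ⟶ Spec (CommRingCat.of A))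
        (x : Over.mk v ⟶ Red.DS (Spec (CommRingCat.of A)) (Fin r → ℤ)), Val u x (x ≫ Φ) := by
  choose h hy ψ hψ using hloc
  let Q := MonoidAlgebra A (Multiplicative (Fin r → ℤ))
  let X : Scheme.{u} := Spec (CommRingCat.of Q)
  let jj : ∀ y : X, pt A (Localization.Away (h y)) ⟶ pt A Q := fun y =>
    ptMap (IsScalarTower.toAlgHom A Q (Localization.Away (h y)))
  have hjj : ∀ y, IsOpenImmersion (jj y).left := fun y =>
    inferInstanceAs (IsOpenImmersion (Spec.map (CommRingCat.ofHom (algebraMap Q (Localization.Away (h y))))))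
  have hrange : ∀ y z : X, z ∈ Set.range (jj y).left ↔ h y ∉ z.asIdeal := by
    intro y z
    have h1 := PrimeSpectrum.localization_away_comap_range (Localization.Away (h y)) (h y)
    change z ∈ Set.range (PrimeSpectrum.comap (algebraMap Q (Localization.Away (h y)))) ↔ _
    rw [h1]
    rfl
  have hred : AlgebraicGeometry.IsReduced (pt A Q).left := by
    change AlgebraicGeometry.IsReduced (Spec (CommRingCat.of Q))
    have : _root_.IsReduced (CommRingCat.of Q) := ‹_root_.IsReduced (MonoidAlgebra A (Multiplicative (Fin r → ℤ)))›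
    infer_instance
  obtain ⟨Φ₁, hΦ₁⟩ := glue_over (fun y : X => pt A (Localization.Away (h y))) jj hjj
    (fun z => ⟨z, (hrange z z).2 (hy z)⟩) ψ (by
      intro y y' Z p₁ p₂ ho hp
      have hZ : AlgebraicGeometry.IsReduced Z.left := isReduced_of_isOpenImmersion (p₁ ≫ jj y).left
      refine over_ext _ _ fun K _ v w => ?_
      have h1 := hψ y K v (w ≫ p₁)
      have h2 := hψ y' K v (w ≫ p₂)
      have h3 : (w ≫ p₁) ≫ xh A r (h y) = (w ≫ p₂) ≫ xh A r (h y') := by
        change (w ≫ p₁) ≫ jj y ≫ univPt A _ = (w ≫ p₂) ≫ jj y' ≫ univPt A _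
        rw [Category.assoc, Category.assoc, ← Category.assoc p₁, hp, Category.assoc]
      rw [h3] at h1
      have h4 := h1.unique hq h2
      rwa [Category.assoc, Category.assoc] at h4)
  refine ⟨inv (univPt A (Fin r → ℤ)) ≫ Φ₁, fun K _ v x => ?_⟩
  let x' : Over.mk v ⟶ pt A Q := x ≫ inv (univPt A (Fin r → ℤ))
  let y : X := x'.left (IsLocalRing.closedPoint K)
  obtain ⟨x'', hx''⟩ : ∃ x'' : Over.mk v ⟶ pt A (Localization.Away (h y)), x'' ≫ jj y = x' := by
    have h1 : Set.range x'.left ⊆ Set.range (jj y).left := by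
      rintro _ ⟨c, rfl⟩
      obtain rfl : c = IsLocalRing.closedPoint K := @Subsingleton.elim (Spec (CommRingCat.of K)) inferInstance _ _
      exact (hrange y y).2 (hy y)
    refine ⟨Over.homMk (IsOpenImmersion.lift (jj y).left x'.left h1) ?_, ?_⟩
    · rw [← Over.w (jj y), ← Category.assoc, IsOpenImmersion.lift_fac, Over.w]
    · ext1
      exact IsOpenImmersion.lift_fac _ _ _
  have h2 := hψ y K v x''
  have h3 : x'' ≫ xh A r (h y) = x := by
    change x'' ≫ jj y ≫ univPt A _ = x
    rw [← Category.assoc, hx'', Category.assoc, IsIso.inv_hom_id, Category.comp_id]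
  have h4 : x'' ≫ ψ y = x ≫ inv (univPt A (Fin r → ℤ)) ≫ Φ₁ := by
    rw [← hΦ₁, ← Category.assoc, hx'', Category.assoc]
  rwa [h3, h4] at h2

lemma isReduced_left {M : Type} [AddCommGroup M] (h : _root_.IsReduced (MonoidAlgebra A (Multiplicative M))) :
    AlgebraicGeometry.IsReduced (Red.DS (Spec (CommRingCat.of A)) M).left := by
  have h1 : AlgebraicGeometry.IsReduced (pt A (MonoidAlgebra A (Multiplicative M))).left := by
    change AlgebraicGeometry.IsReduced (Spec (CommRingCat.of (MonoidAlgebra A (Multiplicative M))))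
    have : _root_.IsReduced (CommRingCat.of (MonoidAlgebra A (Multiplicative M))) := h
    infer_instance
  have h2 : IsOpenImmersion (inv (univPt A M)).left := by
    have : IsIso (inv (univPt A M)).left := inferInstanceAs (IsIso ((Over.forget _).map (inv (univPt A M))))
    infer_instance
  exact isReduced_of_isOpenImmersion (inv (univPt A M)).left

variable [LocallyOfFiniteType G.hom] [QuasiCompact G.hom]

/-- **Extension of homomorphisms from split tori** over reduced Noetherian bases. -/
theorem exists_hom [IsNoetherianRing A] [_root_.IsReduced A] (hq : 1 < q) (hqu : IsUnit (q : A)) (hu : ∀ k, IsMonHom (u k))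
    (hcoh : ∀ j k (h : j ≤ k), Red.DSmap _ (tz r (pow_dvd_pow q h)) ≫ u k = u j)
    (hF : ∀ (K : Type u) [Field K] (v : Spec (CommRingCat.of K) ⟶ Spec (CommRingCat.of A)), Has u (Over.mk v)) :
    ∃ Φ : Red.DS (Spec (CommRingCat.of A)) (Fin r → ℤ) ⟶ G, IsMonHom Φ ∧
      ∀ k, Red.DSmap _ (cz r (q ^ k)) ≫ Φ = u k := by
  have hr1 : _root_.IsReduced (MonoidAlgebra A (Multiplicative (Fin r → ℤ))) :=
    isReduced_monoidAlgebra fun P _ => inferInstance
  have hr2 : ∀ k, _root_.IsReduced (MonoidAlgebra A (Multiplicative (Fin r → ZMod (q ^ k)))) := fun k =>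
    isReduced_monoidAlgebra fun P _ => by
      have hqK : (q : P.ResidueField) ≠ 0 := by
        have h1 := hqu.map (algebraMap A P.ResidueField)
        rw [map_natCast] at h1
        exact h1.ne_zero
      have : NeZero (q ^ k) := ⟨(pow_pos (by omega) k).ne'⟩
      apply Sga3.H816.TorsDense.isReduced_of_field
      rw [Nat.card_eq_fintype_card]
      simp [hqK]
  have hl1 := isReduced_left hr1
  have hl2 := fun k => isReduced_left (hr2 k)
  obtain ⟨Φ, hΦ⟩ := exists_glue (u := u) hq fun y => by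
    obtain ⟨h, hy, ψ, hψ, -⟩ := exists_local hq hqu hu hcoh hF y
    exact ⟨h, hy, ψ, hψ⟩
  have hl3 : AlgebraicGeometry.IsReduced (Red.DS (Spec (CommRingCat.of A)) (Fin r → ℤ) ⊗
      Red.DS (Spec (CommRingCat.of A)) (Fin r → ℤ)).left := by
    have h1 : Smooth (pullback.fst (Red.DS (Spec (CommRingCat.of A)) (Fin r → ℤ)).hom
      (Red.DS (Spec (CommRingCat.of A)) (Fin r → ℤ)).hom) := inferInstance
    exact Etcore.SmoothRed.isReduced_of_smooth (pullback.fst (Red.DS (Spec (CommRingCat.of A)) (Fin r → ℤ)).hom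
      (Red.DS (Spec (CommRingCat.of A)) (Fin r → ℤ)).hom)
  refine ⟨Φ, ?_, fun k => ?_⟩
  · have h1 : (fst (Red.DS (Spec (CommRingCat.of A)) (Fin r → ℤ)) (Red.DS (Spec (CommRingCat.of A)) (Fin r → ℤ)) *
        snd _ _) ≫ Φ = (fst _ _ ≫ Φ) * (snd _ _ ≫ Φ) := by
      refine over_ext _ _ fun K _ v w => ?_
      have h2 := hΦ K v (w ≫ (fst _ _ * snd _ _))
      have h3 := Val.mul hq (hΦ K v (w ≫ fst _ _)) (hΦ K v (w ≫ snd _ _))
      rw [← MonObj.comp_mul] at h3
      rw [← Category.assoc, h2.unique hq h3, MonObj.comp_mul, Category.assoc, Category.assoc]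
    refine Graph.isMonHom_of_mul _ fun T x y => ?_
    have h2 := congrArg (fun f => lift x y ≫ f) h1
    simp only [MonObj.comp_mul, ← Category.assoc, lift_fst, lift_snd] at h2
    exact h2
  · refine over_ext _ _ fun K _ v w => ?_
    have h2 := hΦ K v (w ≫ Red.DSmap _ (cz r (q ^ k)))
    rw [← Category.assoc, h2.unique hq ((hF K v).val_tors k w)]

end glue

end K211.RedGlue
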