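import Groth.Agent.SGA3x.K18.StrLoc
import Groth.Agent.SGA3x.K211.FibD
import Groth.Agent.SGA3.K207.FibDesc
import Groth.Agent.SGA3x.K211.RedGlue
import Groth.Agent.SGA3x.K9.Rigid

/-!
# Subtori with given torsion over strictly henselian reduced Noetherian rings
-/

set_option autoImplicit false
set_option linter.dupNamespace false
universe u
open CategoryTheory MonoidalCategory CartesianMonoidalCategory MonObj GrpObj AlgebraicGeometry Limits

namespace K211.ShStep

open Groth.Agent Groth.Agent.Sga3B Groth.Agent.Sga3B.DSPts Groth.Agent.Sga3B.InfConjFam Groth.Agent.Sga3B.DSRigid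
  Groth.Agent.Sga3.H767 TorsQ Fam Val FibD K207.FibDesc

section gen

variable {S S' : Scheme.{u}} {G : Over S} [GrpObj G] {r q : ℕ} {u : ∀ k, Red.DS S (Fin r → ZMod (q ^ k)) ⟶ G}

/-- Homomorphisms over `S'` with given torsion are families. -/
theorem isExt_fam {f : S' ⟶ S} (F : Red.bc f (Red.DS S (Fin r → ℤ)) ⟶ Red.bc f G) [IsMonHom F]
    (h : ∀ k, (Over.pullback f).map (Red.DSmap S (cz r (q ^ k))) ≫ F = (Over.pullback f).map (u k)) :
    IsExt u (BcPts.fam F) where
  hom := IsoFam.isHomFamily_fam F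
  tors k := by
    apply K9.Rigid.unfam_injective
    have h1 := map_unfam (f := f) (Red.DSmap S (cz r (q ^ k))) (BcPts.fam F)
    have h2 := K12.CentFam.unfam_fam F
    have h3 := unfam_fst (f := f) (u k)
    exact (h1.symm.trans ((congrArg _ h2).trans (h k))).trans h3.symm

theorem eq_map_of_isExt {C : CommRingCat.{u}} {f : Spec C ⟶ S} (hq : 1 < q)
    (F : Red.bc f (Red.DS S (Fin r → ℤ)) ⟶ Red.bc f G) (hF : IsMonHom F)
    (h : ∀ k, (Over.pullback f).map (Red.DSmap S (cz r (q ^ k))) ≫ F = (Over.pullback f).map (u k))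
    (Φ : Red.DS S (Fin r → ℤ) ⟶ G) [IsMonHom Φ] (hΦ : ∀ k, Red.DSmap _ (cz r (q ^ k)) ≫ Φ = u k) :
    (Over.pullback f).map Φ = F := by
  have h1 := isExt_fam F h
  have h2 := isExt_fam (u := u) (f := f) ((Over.pullback f).map Φ) (fun k => by rw [← Functor.map_comp, hΦ])
  have h3 := IsExt.unique (C := C) (v := f) hq h2 h1
  rw [← K12.CentFam.unfam_fam F, ← K12.CentFam.unfam_fam ((Over.pullback f).map Φ), h3]

/-- `Has` at all field-valued points, from the residue fields. -/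
theorem has_of_residue
    (h : ∀ s : S, ∃ F : Red.bc (S.fromSpecResidueField s) (Red.DS S (Fin r → ℤ)) ⟶ Red.bc (S.fromSpecResidueField s) G,
      IsMonHom F ∧ Mono F ∧ ∀ k, (Over.pullback (S.fromSpecResidueField s)).map (Red.DSmap S (cz r (q ^ k))) ≫ F =
        (Over.pullback (S.fromSpecResidueField s)).map (u k)) (K : Type u) [Field K] (v : Spec (CommRingCat.of K) ⟶ S) :
    Has u (Over.mk v) := by
  obtain ⟨g, hg⟩ := exists_fac_pt v (IsLocalRing.closedPoint K)
  obtain ⟨F, hF, -, hFu⟩ := h (v (IsLocalRing.closedPoint K))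
  have h1 : Has u (Over.mk (S.fromSpecResidueField (v (IsLocalRing.closedPoint K)))) := ⟨_, isExt_fam F hFu⟩
  exact h1.pull (Over.homMk g hg)

end gen

/-- **Strictly henselian reduced Noetherian bases.** -/
theorem main {R : Type u} [CommRing R] [IsNoetherianRing R] [HenselianLocalRing R]
    [IsSepClosed (IsLocalRing.ResidueField R)] [_root_.IsReduced R] {q : ℕ} (hq : 1 < q) (hqu : IsUnit (q : R))
    {G : Over (Spec (CommRingCat.of R))} [GrpObj G] [QuasiCompact G.hom] [LocallyOfFiniteType G.hom]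
    {M : ℕ → Over (Spec (CommRingCat.of R))} [grp : ∀ k, GrpObj (M k)] {m : ∀ k, M k ⟶ G} (hm : Coh q m)
    (hfib : ∀ s : ↥(Spec (CommRingCat.of R)), FD q m ((Spec (CommRingCat.of R)).fromSpecResidueField s)) :
    ∃ (r : ℕ) (Φ : Red.DS (Spec (CommRingCat.of R)) (Fin r → ℤ) ⟶ G), IsMonHom Φ ∧ Mono Φ ∧
      ∀ k, ∃ e : Red.DS (Spec (CommRingCat.of R)) (Fin r → ZMod (q ^ k)) ≅ M k,
        e.hom ≫ m k = Red.DSmap _ (cz r (q ^ k)) ≫ Φ := by
  choose Ts grpT js hjs1 hjs2 hjs3 hker using hfib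
  obtain ⟨r, u, hu, hcoh, he, hF⟩ := K18.StrLoc.main hq hqu Ts grpT js (fun s => ⟨hjs1 s, hjs2 s, hjs3 s⟩) M grp m
    hm.hm (fun j k hjk => (hm.hcoh j k hjk).imp fun f hf => hf.1) hker
  obtain ⟨Φ, hΦ, hΦu⟩ := RedGlue.exists_hom hq hqu hu hcoh (fun K _ v => has_of_residue hF K v)
  refine ⟨r, Φ, hΦ, ?_, fun k => ?_⟩
  · refine mono_of_fibres fun s => ?_
    obtain ⟨F, hF1, hF2, hFu⟩ := hF s
    have h1 : (Over.pullback ((Spec (CommRingCat.of R)).fromSpecResidueField s)).map Φ = F :=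
      eq_map_of_isExt hq F hF1 hFu Φ hΦu
    rw [h1]
    exact hF2
  · obtain ⟨e, -, he⟩ := he k
    exact ⟨e, by rw [he, hΦu]⟩

end K211.ShStep
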