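import Groth.Agent.SGA3x.K211.DPull
import Groth.Agent.SGA3x.K211.ShStep
import Groth.Agent.SGA3x.K21.ShNhd
import Groth.Agent.SGA3x.K21.MultLoc
import Groth.Agent.SGA3x.K764.FibEq
import Groth.Agent.SGA3x.K12.FibSpec
import Groth.Agent.Hensel.EtalePerm

/-!
# Subtori with given torsion in an étale neighbourhood of a point
-/

set_option autoImplicit false
set_option linter.dupNamespace false
universe u
open CategoryTheory MonoidalCategory CartesianMonoidalCategory MonObj GrpObj AlgebraicGeometry Limits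

namespace K211.NearStep

open Groth.Agent Groth.Agent.Sga3B Groth.Agent.Sga3B.DSPts Groth.Agent.Sga3B.InfConjFam Groth.Agent.Sga3B.DSRigid
  Groth.Agent.Sga3.H767 Groth.Agent.Sga3.H767.FamLim TorsQ Fam FLang FibD K207.FibDesc DPull Groth.Agent.Proet.FacM
  Groth.Agent.Proet.FacInd

section gen

variable {S : Scheme.{u}} {r : ℕ}

lemma isMultTypeFT_DSn (r n : ℕ) (S : Scheme.{u}) : SGA3x.IsMultTypeFT (Red.DS S (Fin r → ZMod n)) := by
  have h1 : AddGroup.FG (Fin r → ZMod n) := by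
    have h2 : Function.Surjective (cz r n) := cz_surjective r n
    have h3 : AddGroup.FG (Fin r → ℤ) := Module.Finite.iff_addGroup_fg.mp inferInstance
    exact AddGroup.fg_of_surjective h2
  exact K21.MultLoc.isMultTypeFT_DS _ h1

lemma pow_of_mono {H K : Over S} [GrpObj H] [GrpObj K] (g : H ⟶ K) [IsMonHom g] [Mono g] (n : ℕ) (h : g ^ n = 1) :
    (𝟙 H : H ⟶ H) ^ n = 1 := by
  rw [← cancel_mono g, MonObj.pow_comp, Category.id_comp, h, MonObj.one_comp]

lemma pow_DSn (n : ℕ) : (𝟙 (Red.DS S (Fin r → ZMod n)) : Red.DS S (Fin r → ZMod n) ⟶ _) ^ n = 1 := by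
  have h1 : Mono (Red.DSmap S (cz r n)) := K7.DSProp.mono_DSmap _ _ (cz_surjective _ _)
  have h2 : IsMonHom (Red.DSmap S (cz r n)) := Sga3.H827.KerLoc.isMonHom_DSmap _
  exact pow_of_mono (Red.DSmap S (cz r n)) n (DSmap_cz_pow n)

end gen

section base

variable {W : Type u} [CommRing W] [IsNoetherianRing W] {q r : ℕ}
  {G : Over (Spec (CommRingCat.of W))} [GrpObj G] [QuasiCompact G.hom] [LocallyOfFiniteType G.hom]
  {M : ℕ → Over (Spec (CommRingCat.of W))} [grp : ∀ k, GrpObj (M k)] {m : ∀ k, M k ⟶ G}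

/-- From the points over the minimal primes to the base. -/
theorem fd_of_minimal [_root_.IsReduced W] (hq : 1 < q) (hqu : IsUnit (q : W)) (hm : Coh q m)
    (Φ : Red.DS (Spec (CommRingCat.of W)) (Fin r → ℤ) ⟶ G) [IsMonHom Φ]
    (h : ∀ t : PrimeSpectrum W, t.asIdeal ∈ minimalPrimes W → D q Φ m ((Spec (CommRingCat.of W)).fromSpecResidueField t)) :
    ∃ (T : Over (Spec (CommRingCat.of W))) (_ : GrpObj T) (j : T ⟶ G), IsMonHom j ∧ Mono j ∧ Red.IsTorus T ∧
      ∀ k, ∃ g : M k ⟶ T, g ≫ j = m k ∧ AlgGrp.IsKernel g ((𝟙 T : T ⟶ T) ^ (q ^ k)) := by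
  have hD : ∀ s : ↥(Spec (CommRingCat.of W)), D q Φ m ((Spec (CommRingCat.of W)).fromSpecResidueField s) := by
    intro s
    have hsp : (s : PrimeSpectrum W).asIdeal.IsPrime := PrimeSpectrum.isPrime _
    obtain ⟨P, hP, hPs⟩ := Ideal.exists_minimalPrimes_le (I := (⊥ : Ideal W)) (J := (s : PrimeSpectrum W).asIdeal) bot_le
    have hPp : P.IsPrime := hP.1.1
    have h0 := h ⟨P, hPp⟩ hP
    exact K12.FibSpec.main_iso hq (K12.NormTrait.natCast_ne_zero hqu) Φ M grp m hm.hm hm.hcoh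
      (t := (⟨P, hPp⟩ : PrimeSpectrum W)) (s := s) ((PrimeSpectrum.le_iff_specializes (R := W) ⟨P, hPp⟩ s).1 hPs) h0.1 h0.2
  have hmono : Mono Φ := mono_of_fibres fun s => (hD s).1
  refine final (q := q) (Phi := Φ) (m := m) fun k => ?_
  have hqk : IsUnit ((q ^ k : ℕ) : W) := by
    rw [Nat.cast_pow]
    exact hqu.pow k
  have h1 : Mono (Red.DSmap (Spec (CommRingCat.of W)) (cz r (q ^ k))) := K7.DSProp.mono_DSmap _ _ (cz_surjective _ _)
  have h2 : IsMonHom (Red.DSmap (Spec (CommRingCat.of W)) (cz r (q ^ k))) := Sga3.H827.KerLoc.isMonHom_DSmap _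
  have h3 : Mono (Red.DSmap (Spec (CommRingCat.of W)) (cz r (q ^ k)) ≫ Φ) := mono_comp _ _
  obtain ⟨h4, h5, h6⟩ := hm.hm k
  exact K764.FibEq.exists_iso hqk (isMultTypeFT_DSn r (q ^ k) _) h6 (pow_DSn _) (hm.pow_eq_one k)
    (Red.DSmap (Spec (CommRingCat.of W)) (cz r (q ^ k)) ≫ Φ) (m k) fun s => (hD s).2 k

end base

/-- **Étale neighbourhoods.** -/
theorem near {A : Type u} [CommRing A] [IsNoetherianRing A] [_root_.IsReduced A] {q : ℕ} (hq : 1 < q)
    (hqu : IsUnit (q : A)) {G : Over (Spec (CommRingCat.of A))} [GrpObj G] [QuasiCompact G.hom] [LocallyOfFiniteType G.hom]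
    {M : ℕ → Over (Spec (CommRingCat.of A))} [grp : ∀ k, GrpObj (M k)] {m : ∀ k, M k ⟶ G} (hm : Coh q m)
    (hfib : ∀ s : ↥(Spec (CommRingCat.of A)), FD q m ((Spec (CommRingCat.of A)).fromSpecResidueField s))
    (x : ↥(Spec (CommRingCat.of A))) :
    ∃ (V : Scheme.{u}) (v : V ⟶ Spec (CommRingCat.of A)), Etale v ∧ x ∈ Set.range v ∧ FD q m v := by
  have hG : LocallyOfFinitePresentation G.hom := LocallyOfFinitePresentation.iff_locallyOfFiniteType.2 inferInstance
  have hmm : ∀ k, Mono (m k) := fun k => (hm.hm k).2.1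
  obtain ⟨R, _, _, _, _, _, _, hx, hfl, hind, hred⟩ := K21.ShNhd.exists_sh A x
  have hredR : _root_.IsReduced R := hred inferInstance
  let vR : Spec (CommRingCat.of R) ⟶ Spec (CommRingCat.of A) := Spec.map (CommRingCat.ofHom (algebraMap A R))
  have hqR : IsUnit (q : R) := by
    have h1 := hqu.map (algebraMap A R)
    rwa [map_natCast] at h1
  have hlftR : LocallyOfFiniteType (Red.bc vR G).hom := inferInstanceAs (LocallyOfFiniteType (pullback.snd _ _))
  have hqcR : QuasiCompact (Red.bc vR G).hom := inferInstanceAs (QuasiCompact (pullback.snd _ _))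
  obtain ⟨r, ΦR, hΦR1, hΦR2, heR⟩ := ShStep.main hq hqR (hm.bc vR) (fd_up hfib vR)
  have haff : IsAffineHom (Red.DS (Spec (CommRingCat.of A)) (Fin r → ℤ)).hom := SplitTor.isAffineHom_DS r _
  have hfam : AutFam.IsHomFamily _ _ (ofH vR ΦR) := isHomFamily_ofH ΦR
  obtain ⟨W₀, _, _, b₀, ψ₀, hW₀, hψ₀, hbψ⟩ := FamRing.exists_of_isInd (A := A) (L := R) hind (ofH vR ΦR) hfam
  have hW₀' : Algebra.Etale A W₀ := hW₀
  obtain ⟨W, _, _, hW, β, b, hb, hmin⟩ := K21.ShNhd.exists_shrink A R W₀ b₀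
  let vW : Spec (CommRingCat.of W) ⟶ Spec (CommRingCat.of A) := Spec.map (CommRingCat.ofHom (algebraMap A W))
  have hetW : Etale vW := (HasRingHomProperty.Spec_iff (P := @Etale)).2 (by
    rw [CommRingCat.hom_ofHom, RingHom.etale_algebraMap]
    infer_instance)
  have hnoeW : IsNoetherianRing W := Algebra.FiniteType.isNoetherianRing A W
  have hredW : _root_.IsReduced W := Groth.Agent.Hensel.EtalePerm.isReduced_of_etale A W
  have hqW : IsUnit (q : W) := by
    have h1 := hqu.map (algebraMap A W)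
    rwa [map_natCast] at h1
  let ψ : Red.DS (Spec (CommRingCat.of A)) (Fin r → ℤ) ⊗ Over.mk vW ⟶ G := Red.DS _ (Fin r → ℤ) ◁ spMap β ≫ ψ₀
  have hψ : AutFam.IsHomFamily _ _ ψ := IsoFam.isHomFamily_pull hψ₀ _
  let p : Over.mk vR ⟶ Over.mk vW := spMap b
  have hpψ : Red.DS _ (Fin r → ℤ) ◁ p ≫ ψ = ofH vR ΦR := by
    change Red.DS _ (Fin r → ℤ) ◁ spMap b ≫ Red.DS _ (Fin r → ℤ) ◁ spMap β ≫ ψ₀ = _
    rw [← Category.assoc, ← MonoidalCategory.whiskerLeft_comp, Spread.spMap_comp, hb, hbψ]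
  have hD := d_of_family p ψ ΦR hpψ hmm heR
  have hΦ : IsMonHom (toH vW ψ) := isMonHom_toH hψ
  have hlftW : LocallyOfFiniteType (Red.bc vW G).hom := inferInstanceAs (LocallyOfFiniteType (pullback.snd _ _))
  have hqcW : QuasiCompact (Red.bc vW G).hom := inferInstanceAs (QuasiCompact (pullback.snd _ _))
  refine ⟨_, vW, hetW, ?_, ?_⟩
  · refine ⟨p.left (IsLocalRing.closedPoint R), ?_⟩
    have h1 : p.left ≫ vW = vR := Over.w p
    exact (congrArg (fun f : Spec (CommRingCat.of R) ⟶ Spec (CommRingCat.of A) => f (IsLocalRing.closedPoint R)) h1).trans hx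
  · refine fd_of_minimal hq hqW (hm.bc vW) (toH vW ψ) fun t ht => ?_
    obtain ⟨Q, hQ, hQt⟩ := hmin _ ht
    refine d_transfer (fun k => ((hm.bc vW).hm k).2.1) p.left ⟨Q, hQ⟩ t ?_ hD
    exact PrimeSpectrum.ext hQt

end K211.NearStep
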