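import Groth.Agent.SGA3x.K211.Spread

/-!
# Openness of the domain of definition
-/

set_option autoImplicit false
set_option linter.dupNamespace false
universe u
open CategoryTheory MonoidalCategory CartesianMonoidalCategory MonObj GrpObj AlgebraicGeometry Limits

namespace K211.OpenE

open Groth.Agent Groth.Agent.Sga3B Groth.Agent.Sga3B.DSPts Groth.Agent.Sga3B.InfConjFam Groth.Agent.Sga3B.DSRigid
  Groth.Agent.Sga3.H767 TorsQ Fam Val FamLim Spread

section alg

variable {A : Type u} [CommRing A] (P : Ideal A) [P.IsPrime] (f : A)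

lemma range_spec : Set.range (Spec.map (CommRingCat.ofHom (algebraMap A (Localization.Away (Ideal.Quotient.mk P f))))) =
    {s : Spec (CommRingCat.of A) | P ≤ s.asIdeal ∧ f ∉ s.asIdeal} := by
  have h1 : algebraMap A (Localization.Away (Ideal.Quotient.mk P f)) =
      (algebraMap (A ⧸ P) (Localization.Away (Ideal.Quotient.mk P f))).comp (Ideal.Quotient.mk P) := rfl
  rw [h1]
  ext s
  constructor
  · rintro ⟨y, rfl⟩
    refine ⟨?_, ?_⟩
    · intro x hx
      change algebraMap (A ⧸ P) _ (Ideal.Quotient.mk P x) ∈ y.asIdeal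
      rw [Ideal.Quotient.eq_zero_iff_mem.2 hx, map_zero]
      exact Ideal.zero_mem _
    · intro hf
      have h2 : algebraMap (A ⧸ P) (Localization.Away (Ideal.Quotient.mk P f)) (Ideal.Quotient.mk P f) ∈ y.asIdeal := hf
      exact y.isPrime.ne_top (Ideal.eq_top_of_isUnit_mem _ h2 (IsLocalization.Away.algebraMap_isUnit _))
  · rintro ⟨hs, hf⟩
    have h2 : s ∈ Set.range (PrimeSpectrum.comap (Ideal.Quotient.mk P)) := by
      rw [range_comap_of_surjective _ _ Ideal.Quotient.mk_surjective]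
      change ((RingHom.ker (Ideal.Quotient.mk P) : Ideal A) : Set A) ⊆ s.asIdeal
      rw [Ideal.mk_ker]
      exact hs
    obtain ⟨s', rfl⟩ := h2
    have h3 : s' ∈ Set.range (PrimeSpectrum.comap (algebraMap (A ⧸ P) (Localization.Away (Ideal.Quotient.mk P f)))) := by
      rw [PrimeSpectrum.localization_away_comap_range _ (Ideal.Quotient.mk P f)]
      exact hf
    obtain ⟨y, rfl⟩ := h3
    exact ⟨y, rfl⟩

instance isPreimmersion_spec :
    IsPreimmersion (Spec.map (CommRingCat.ofHom (algebraMap A (Localization.Away (Ideal.Quotient.mk P f))))) := by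
  have h1 : Spec.map (CommRingCat.ofHom (algebraMap A (Localization.Away (Ideal.Quotient.mk P f)))) =
      Spec.map (CommRingCat.ofHom (algebraMap (A ⧸ P) (Localization.Away (Ideal.Quotient.mk P f)))) ≫
        Spec.map (CommRingCat.ofHom (Ideal.Quotient.mk P)) := by
    rw [← Spec.map_comp]
    rfl
  rw [h1]
  have h2 : IsOpenImmersion (Spec.map (CommRingCat.ofHom (algebraMap (A ⧸ P)
    (Localization.Away (Ideal.Quotient.mk P f))))) := inferInstance
  have h3 : IsClosedImmersion (Spec.map (CommRingCat.ofHom (Ideal.Quotient.mk P))) :=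
    IsClosedImmersion.spec_of_surjective _ Ideal.Quotient.mk_surjective
  infer_instance

end alg

variable {A : Type u} [CommRing A] {G : Over (Spec (CommRingCat.of A))} [GrpObj G] {r q : ℕ}
  {u : ∀ k, Red.DS (Spec (CommRingCat.of A)) (Fin r → ZMod (q ^ k)) ⟶ G} [LocallyOfFiniteType G.hom] [QuasiCompact G.hom]

omit [GrpObj G] [LocallyOfFiniteType G.hom] [QuasiCompact G.hom] in
lemma range_fst_left {S : Scheme.{u}} (X Y : Over S) : Set.range (fst X Y).left = X.hom ⁻¹' Set.range Y.hom :=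
  Scheme.Pullback.range_fst (f := X.hom) (g := Y.hom)

omit [LocallyOfFiniteType G.hom] [QuasiCompact G.hom] in
lemma fst_mem_E_iff (hq : 1 < q)
    (hF : ∀ (K : Type u) [Field K] (v : Spec (CommRingCat.of K) ⟶ Spec (CommRingCat.of A)), Has u (Over.mk v))
    {Q : Over (Spec (CommRingCat.of A))} (a : Red.DS (Spec (CommRingCat.of A)) (Fin r → ℤ) ⊗ Q ⟶ G)
    (ha : ∀ (K : Type u) [Field K] (v : Spec (CommRingCat.of K) ⟶ Spec (CommRingCat.of A)) (h : Over.mk v ⟶ Q),
        IsExt u (Red.DS _ (Fin r → ℤ) ◁ h ≫ a)) (U : Set G.left)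
    (b : (Red.DS (Spec (CommRingCat.of A)) (Fin r → ℤ) ⊗ Q).left) :
    (fst (Red.DS (Spec (CommRingCat.of A)) (Fin r → ℤ)) Q).left b ∈ E u U ↔ a.left b ∈ U := by
  have h1 := mem_E_iff hq hF (val_of_isExt a (rp b) (ha _ _ _)) (IsLocalRing.closedPoint _) U
  have h2 : (rp b).left (IsLocalRing.closedPoint _) = b := Scheme.fromSpecResidueField_apply _ _
  have h3 : (rp b ≫ fst (Red.DS (Spec (CommRingCat.of A)) (Fin r → ℤ)) Q).left (IsLocalRing.closedPoint _) =
      (fst (Red.DS (Spec (CommRingCat.of A)) (Fin r → ℤ)) Q).left b :=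
    congrArg (fst (Red.DS (Spec (CommRingCat.of A)) (Fin r → ℤ)) Q).left h2
  have h4 : (rp b ≫ a).left (IsLocalRing.closedPoint _) = a.left b := congrArg a.left h2
  rw [← h3, ← h4]
  exact h1

/-- `E u U` is open if `U` is. -/
theorem isOpen_E [IsNoetherianRing A] (hq : 1 < q) (hqu : IsUnit (q : A)) (hu : ∀ k, IsMonHom (u k))
    (hcoh : ∀ j k (h : j ≤ k), Red.DSmap _ (tz r (pow_dvd_pow q h)) ≫ u k = u j)
    (hF : ∀ (K : Type u) [Field K] (v : Spec (CommRingCat.of K) ⟶ Spec (CommRingCat.of A)), Has u (Over.mk v))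
    (U : G.left.Opens) : IsOpen (E u (U : Set G.left)) := by
  have hln : IsLocallyNoetherian (Red.DS (Spec (CommRingCat.of A)) (Fin r → ℤ)).left :=
    LocallyOfFiniteType.isLocallyNoetherian (Red.DS (Spec (CommRingCat.of A)) (Fin r → ℤ)).hom
  have hcs : CompactSpace (Red.DS (Spec (CommRingCat.of A)) (Fin r → ℤ)).left :=
    QuasiCompact.compactSpace_of_compactSpace (Red.DS (Spec (CommRingCat.of A)) (Fin r → ℤ)).hom
  have hns : IsNoetherian (Red.DS (Spec (CommRingCat.of A)) (Fin r → ℤ)).left := {}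
  refine Top.isOpen_of_gen _ (stableUnderGeneralization_E hq hqu hu hcoh hF U) ?_
  intro t ht
  let s : Spec (CommRingCat.of A) := (Red.DS (Spec (CommRingCat.of A)) (Fin r → ℤ)).hom t
  have hs : s.asIdeal.IsPrime := s.isPrime
  obtain ⟨f, hf, a, ha, hE⟩ := exists_spread hq hqu hu hcoh s.asIdeal (hF _ _)
  let Q := sp A (Localization.Away (Ideal.Quotient.mk s.asIdeal f))
  have hr : Set.range Q.hom = {s' : Spec (CommRingCat.of A) | s.asIdeal ≤ s'.asIdeal ∧ f ∉ s'.asIdeal} :=
    range_spec s.asIdeal f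
  have himm : IsPreimmersion Q.hom := isPreimmersion_spec s.asIdeal f
  have hemb : Topology.IsEmbedding (fst (Red.DS (Spec (CommRingCat.of A)) (Fin r → ℤ)) Q).left := by
    have : IsPreimmersion (pullback.fst (Red.DS (Spec (CommRingCat.of A)) (Fin r → ℤ)).hom Q.hom) := inferInstance
    exact (pullback.fst (Red.DS (Spec (CommRingCat.of A)) (Fin r → ℤ)).hom Q.hom).isEmbedding
  have hopen : IsOpen ((fst (Red.DS (Spec (CommRingCat.of A)) (Fin r → ℤ)) Q).left ⁻¹' (E u (U : Set G.left))) := by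
    have h1 : (fst (Red.DS (Spec (CommRingCat.of A)) (Fin r → ℤ)) Q).left ⁻¹' (E u (U : Set G.left)) =
        a.left ⁻¹' (U : Set G.left) := by
      ext b
      exact fst_mem_E_iff hq hF a hE _ b
    rw [h1]
    exact U.2.preimage a.left.continuous
  obtain ⟨O, hO, hOE⟩ := hemb.isOpen_iff.1 hopen
  refine ⟨O ∩ (Red.DS (Spec (CommRingCat.of A)) (Fin r → ℤ)).hom ⁻¹' (PrimeSpectrum.basicOpen f : Set (PrimeSpectrum A)),
    hO.inter ((PrimeSpectrum.basicOpen f).2.preimage (Red.DS (Spec (CommRingCat.of A)) (Fin r → ℤ)).hom.continuous),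
    ?_, ?_⟩
  · refine ⟨?_, hf⟩
    have h1 : t ∈ Set.range (fst (Red.DS (Spec (CommRingCat.of A)) (Fin r → ℤ)) Q).left := by
      rw [range_fst_left, hr]
      exact ⟨le_refl s.asIdeal, hf⟩
    obtain ⟨b, hb⟩ := h1
    have h2 : b ∈ (fst (Red.DS (Spec (CommRingCat.of A)) (Fin r → ℤ)) Q).left ⁻¹' O := by
      rw [hOE, Set.mem_preimage, hb]
      exact ht
    rw [← hb]
    exact h2
  · rintro z ⟨⟨hzO, hzf⟩, hz⟩
    have h1 : z ∈ Set.range (fst (Red.DS (Spec (CommRingCat.of A)) (Fin r → ℤ)) Q).left := by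
      rw [range_fst_left, hr]
      refine ⟨?_, hzf⟩
      have h3 : t ⤳ z := specializes_iff_mem_closure.2 hz
      have h4 := h3.map (Red.DS (Spec (CommRingCat.of A)) (Fin r → ℤ)).hom.continuous
      exact (PrimeSpectrum.le_iff_specializes _ _).2 h4
    obtain ⟨b, hb⟩ := h1
    rw [← hb] at hzO ⊢
    have h2 : b ∈ (fst (Red.DS (Spec (CommRingCat.of A)) (Fin r → ℤ)) Q).left ⁻¹' O := hzO
    rw [hOE] at h2
    exact h2

end K211.OpenE
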