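import Mathlib.GroupTheory.OrderOfElement
import Mathlib.Data.Nat.Factorization.Basic
import Mathlib.GroupTheory.Subgroup.Simple
import Mathlib.Algebra.Group.Subgroup.Basic

/-!
# A group-theoretic lemma: infinitely `q`-divisible elements of a central extension with finite kernel

`Γ` a group, `D` a divisible commutative group, `P : Γ → D` with a section `W` and finite kernel. An element `a` of `Γ`
which for all `m` is a `q ^ m`-th power of an element of `q`-power order lies in the image of `W`.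
-/

set_option autoImplicit false

namespace K211.QDiv

lemma dvd_pow_of_dvd {d q K n : ℕ} (hd : d ∣ q ^ K) (hn : d ≤ n) (hq : 0 < q) : d ∣ q ^ n := by
  have hd0 : d ≠ 0 := fun h => by
    rw [h, zero_dvd_iff] at hd
    exact (pow_pos hq K).ne' hd
  rw [← Nat.factorization_le_iff_dvd hd0 (pow_pos hq n).ne']
  intro p
  have h1 := (Nat.factorization_le_iff_dvd hd0 (pow_pos hq K).ne').2 hd p
  rw [Nat.factorization_pow] at h1 ⊢
  simp only [Finsupp.smul_apply, smul_eq_mul] at h1 ⊢
  by_cases h0 : d.factorization p = 0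
  · rw [h0]; exact Nat.zero_le _
  · have h2 : q.factorization p ≠ 0 := by
      intro h3
      rw [h3, mul_zero] at h1
      exact h0 (Nat.le_zero.1 h1)
    have h3 : d.factorization p < d := Nat.factorization_lt p hd0
    calc d.factorization p ≤ n := (h3.le.trans hn)
      _ = n * 1 := (mul_one n).symm
      _ ≤ n * q.factorization p := Nat.mul_le_mul_left n (Nat.one_le_iff_ne_zero.2 h2)

theorem eq_of_divisible {Γ D : Type*} [Group Γ] [Group D] (P : Γ →* D) (W : D →* Γ) (hPW : ∀ d, P (W d) = d)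
    [hfin : Finite P.ker] (hdiv : ∀ (n : ℕ) (d : D), 0 < n → ∃ d', d' ^ n = d) {q : ℕ} (hq : 0 < q) (a : Γ)
    (h : ∀ m, ∃ a' : Γ, a' ^ (q ^ m) = a ∧ ∃ K, a' ^ (q ^ K) = 1) : a = W (P a) := by
  let θ : D →* MulAut P.ker := MulAut.conjNormal.comp W
  have hfin' : Finite (MulAut P.ker) := by
    refine Finite.of_injective (fun f : MulAut P.ker => (f : P.ker → P.ker)) ?_
    intro f g hfg
    exact MulEquiv.ext fun x => congrFun hfg x
  have hθ : ∀ d, θ d = 1 := by
    intro d
    obtain ⟨d', rfl⟩ := hdiv (Nat.card (MulAut P.ker)) d Nat.card_pos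
    rw [map_pow]
    exact pow_card_eq_one'
  have hcomm : ∀ (d : D) (c : Γ), c ∈ P.ker → W d * c = c * W d := by
    intro d c hc
    have h1 : θ d ⟨c, hc⟩ = ⟨c, hc⟩ := by rw [hθ]; rfl
    have h2 : W d * c * (W d)⁻¹ = c := congrArg Subtype.val h1
    rw [mul_inv_eq_iff_eq_mul] at h2
    exact h2
  obtain ⟨a', h1, K, h2⟩ := h (Nat.card P.ker)
  let c : Γ := a' * (W (P a'))⁻¹
  have hc : c ∈ P.ker := by
    rw [MonoidHom.mem_ker]
    simp [c, hPW]
  have ha' : a' = c * W (P a') := by simp [c]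
  have hpow : ∀ j : ℕ, a' ^ j = c ^ j * W (P (a' ^ j)) := by
    intro j
    have h3 : Commute c (W (P a')) := (hcomm _ c hc).symm
    rw [map_pow, map_pow]
    conv_lhs => rw [ha']
    exact h3.mul_pow j
  have h3 : c ^ (q ^ K) = 1 := by
    have h4 := hpow (q ^ K)
    rw [h2, map_one, map_one, mul_one] at h4
    exact h4.symm
  have h4 : orderOf c ∣ q ^ K := orderOf_dvd_of_pow_eq_one h3
  have h5 : orderOf c ∣ Nat.card P.ker := by
    have h6 : orderOf (⟨c, hc⟩ : P.ker) ∣ Nat.card P.ker := orderOf_dvd_natCard _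
    rwa [Subgroup.orderOf_mk] at h6
  have h6 : orderOf c ∣ q ^ Nat.card P.ker := dvd_pow_of_dvd h4 (Nat.le_of_dvd Nat.card_pos h5) hq
  have h7 : c ^ (q ^ Nat.card P.ker) = 1 := orderOf_dvd_iff_pow_eq_one.1 h6
  have h8 := hpow (q ^ Nat.card P.ker)
  rw [h1, h7, one_mul] at h8
  exact h8

/-- Two sections over a divisible group of a homomorphism with finite kernel are equal. -/
theorem eq_of_sections {Γ D : Type*} [Group Γ] [Group D] (P : Γ →* D) (W Z : D →* Γ) (hPW : ∀ d, P (W d) = d)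
    (hPZ : ∀ d, P (Z d) = d) [hfin : Finite P.ker] (hdiv : ∀ (n : ℕ) (d : D), 0 < n → ∃ d', d' ^ n = d) (d : D) :
    Z d = W d := by
  let θ : D →* MulAut P.ker := MulAut.conjNormal.comp W
  have hfin' : Finite (MulAut P.ker) := by
    refine Finite.of_injective (fun f : MulAut P.ker => (f : P.ker → P.ker)) ?_
    intro f g hfg
    exact MulEquiv.ext fun x => congrFun hfg x
  have hθ : ∀ d, θ d = 1 := by
    intro d
    obtain ⟨d', rfl⟩ := hdiv (Nat.card (MulAut P.ker)) d Nat.card_pos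
    rw [map_pow]
    exact pow_card_eq_one'
  have hcomm : ∀ (d : D) (c : Γ), c ∈ P.ker → W d * c = c * W d := by
    intro d c hc
    have h1 : θ d ⟨c, hc⟩ = ⟨c, hc⟩ := by rw [hθ]; rfl
    have h2 : W d * c * (W d)⁻¹ = c := congrArg Subtype.val h1
    rw [mul_inv_eq_iff_eq_mul] at h2
    exact h2
  obtain ⟨e, rfl⟩ := hdiv (Nat.card P.ker) d Nat.card_pos
  let c : Γ := Z e * (W e)⁻¹
  have hc : c ∈ P.ker := by
    rw [MonoidHom.mem_ker]
    simp [c, hPW, hPZ]
  have ha' : Z e = c * W e := by simp [c]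
  have h3 : Commute c (W e) := (hcomm _ c hc).symm
  have h4 : c ^ Nat.card P.ker = 1 := by
    have h5 : (⟨c, hc⟩ : P.ker) ^ Nat.card P.ker = 1 := pow_card_eq_one'
    exact congrArg Subtype.val h5
  rw [map_pow, map_pow, ha', h3.mul_pow, h4, one_mul]

end K211.QDiv
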