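import Groth.Agent.SGA3x.K211.QDiv
import Groth.Agent.SGA3x.K211.TorsQ
import Groth.Agent.SGA3x.K7.DSProp
import Groth.Agent.Sga3.H827.DSFlat
import Mathlib.AlgebraicGeometry.AlgClosed.Basic
import Mathlib.AlgebraicGeometry.Morphisms.QuasiFinite

/-!
# Coherent families of torsion sections of a locally quasi-finite homomorphism onto a split torus

* `exists_root`: the geometric points of a split torus form a divisible group;
* `finite_fibre`: finitely many geometric points in the fibres of a quasi-finite morphism;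
* `eq_section`: `p : H ⟶ T = D(ℤ^r)` quasi-finite homomorphism with a section `w`; a coherent family of homomorphisms
  `z k : D((ℤ/q^k)^r) ⟶ H` over `T` agrees with `w` on geometric points.
-/

set_option autoImplicit false
universe u
open CategoryTheory MonoidalCategory CartesianMonoidalCategory MonObj GrpObj AlgebraicGeometry Limits

namespace K211.SecDiv

open Groth.Agent Groth.Agent.Sga3B.DSPts TorsQ

variable {S : Scheme.{u}} {r : ℕ}

section roots

variable {E : Type*} [CommRing E]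

/-- The character of `ℤ^r` attached to a family of units. -/
def chr (t : Fin r → Eˣ) : Multiplicative (Fin r → ℤ) →* E where
  toFun γ := ((∏ i, t i ^ (γ.toAdd i) : Eˣ) : E)
  map_one' := by simp
  map_mul' a b := by
    rw [← Units.val_mul, ← Finset.prod_mul_distrib]
    congr 2
    funext i
    rw [← zpow_add]
    rfl

lemma chr_pow (t : Fin r → Eˣ) (n : ℕ) : chr (t ^ n) = chr t ^ n := by
  refine MonoidHom.ext fun γ => ?_
  change ((∏ i, (t i ^ n) ^ (γ.toAdd i) : Eˣ) : E) = (((∏ i, t i ^ (γ.toAdd i) : Eˣ) : E)) ^ n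
  rw [← Units.val_pow_eq_pow_val, ← Finset.prod_pow]
  congr 2
  funext i
  rw [← zpow_natCast, ← zpow_mul, ← zpow_natCast, ← zpow_mul, mul_comm]

lemma exists_chr (χ : Multiplicative (Fin r → ℤ) →* E) : ∃ t, chr t = χ := by
  classical
  let bas : Fin r → Multiplicative (Fin r → ℤ) := fun i => Multiplicative.ofAdd (Pi.single i 1)
  have h1 : ∀ γ : Multiplicative (Fin r → ℤ), γ = ∏ i, bas i ^ (γ.toAdd i) := by
    intro γ
    apply Multiplicative.toAdd.injective
    funext j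
    rw [toAdd_prod, Finset.sum_apply, Finset.sum_eq_single j]
    · simp [bas]
    · intro i _ hi
      simp [bas, hi.symm]
    · simp
  refine ⟨fun i => χ.toHomUnits (bas i), MonoidHom.ext fun γ => ?_⟩
  change ((∏ i, χ.toHomUnits (bas i) ^ (γ.toAdd i) : Eˣ) : E) = χ γ
  have h2 : (∏ i, χ.toHomUnits (bas i) ^ (γ.toAdd i)) = χ.toHomUnits γ := by
    conv_rhs => rw [h1 γ]
    rw [map_prod]
    refine Finset.prod_congr rfl fun i _ => ?_
    rw [map_zpow]
  rw [h2]
  rfl

lemma exists_root_chr {n : ℕ} (h : ∀ x : Eˣ, ∃ y : Eˣ, y ^ n = x) (χ : Multiplicative (Fin r → ℤ) →* E) :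
    ∃ χ', χ' ^ n = χ := by
  obtain ⟨t, rfl⟩ := exists_chr χ
  choose t' ht' using fun i => h (t i)
  exact ⟨chr t', by rw [← chr_pow]; congr 1; exact funext ht'⟩

end roots

variable {Ω : Type u} [Field Ω] [IsAlgClosed Ω]

lemma exists_root_units {n : ℕ} (hn : 0 < n) (x : Ωˣ) : ∃ y : Ωˣ, y ^ n = x := by
  obtain ⟨y, hy⟩ := IsAlgClosed.exists_pow_nat_eq (x : Ω) hn
  have hy0 : y ≠ 0 := by
    rintro rfl
    rw [zero_pow hn.ne'] at hy
    exact x.ne_zero hy.symm
  exact ⟨Units.mk0 y hy0, Units.ext hy⟩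

/-- The geometric points of a split torus form a divisible group. -/
theorem exists_root (x : Spec (CommRingCat.of Ω) ⟶ S) {n : ℕ} (hn : 0 < n)
    (d : Over.mk x ⟶ Red.DS S (Fin r → ℤ)) : ∃ d' : Over.mk x ⟶ Red.DS S (Fin r → ℤ), d' ^ n = d := by
  let e : Ω ≃+* Γ((Over.mk x).left, ⊤) := (Scheme.ΓSpecIso (CommRingCat.of Ω)).symm.commRingCatIsoToRingEquiv
  have h1 : ∀ y : Γ((Over.mk x).left, ⊤)ˣ, ∃ z : Γ((Over.mk x).left, ⊤)ˣ, z ^ n = y := by
    intro y
    obtain ⟨z, hz⟩ := exists_root_units hn (Units.mapEquiv e.symm.toMulEquiv y)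
    refine ⟨Units.mapEquiv e.toMulEquiv z, ?_⟩
    rw [← map_pow, hz]
    ext
    simp
  obtain ⟨χ, hχ⟩ := exists_root_chr h1 (dsChar d)
  refine ⟨dsEquiv _ _ χ, ?_⟩
  rw [← map_pow, hχ, dsEquiv_dsChar]

/-- A quasi-finite morphism has finitely many geometric points over a given one. -/
theorem finite_fibre {H T : Over S} (p : H ⟶ T) [LocallyQuasiFinite p.left] [QuasiCompact p.left]
    [LocallyOfFiniteType p.left] (x : Spec (CommRingCat.of Ω) ⟶ S) (t : Over.mk x ⟶ T) :
    Finite {c : Over.mk x ⟶ H // c ≫ p = t} := by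
  let F : Scheme.{u} := pullback p.left t.left
  let f : F ⟶ Spec (CommRingCat.of Ω) := pullback.snd p.left t.left
  have hF : Finite F := by
    have h1 : LocallyQuasiFinite f := inferInstanceAs (LocallyQuasiFinite (pullback.snd p.left t.left))
    have h2 : QuasiCompact f := inferInstanceAs (QuasiCompact (pullback.snd p.left t.left))
    have h3 : (f ⁻¹' {IsLocalRing.closedPoint Ω}).Finite := f.finite_preimage_singleton _
    have h4 : f ⁻¹' {IsLocalRing.closedPoint Ω} = Set.univ := by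
      ext y
      simp only [Set.mem_preimage, Set.mem_univ, iff_true]
      exact Subsingleton.elim _ _
    rw [h4] at h3
    exact Set.finite_univ_iff.1 h3
  have h5 : Finite {s : Spec (CommRingCat.of Ω) ⟶ F // s ≫ f = 𝟙 _} := by
    have : LocallyOfFiniteType f := inferInstanceAs (LocallyOfFiniteType (pullback.snd p.left t.left))
    exact Finite.of_injective _ (pointEquivClosedPoint f).injective
  refine Finite.of_injective (fun c : {c : Over.mk x ⟶ H // c ≫ p = t} =>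
    (⟨pullback.lift c.1.left (𝟙 _) (by
      rw [← Over.comp_left, c.2]
      exact (Category.id_comp _).symm), pullback.lift_snd _ _ _⟩ : {s : Spec (CommRingCat.of Ω) ⟶ F // s ≫ f = 𝟙 _})) ?_
  intro c c' h
  apply Subtype.ext
  ext1
  have h1 := congrArg (fun s => s.1 ≫ pullback.fst p.left t.left) h
  exact (pullback.lift_fst _ _ _).symm.trans (h1.trans (pullback.lift_fst _ _ _))

/-- The group homomorphism on points. -/
def post {X Y : Over S} [GrpObj X] [GrpObj Y] (f : X ⟶ Y) [IsMonHom f] (Z : Over S) : (Z ⟶ X) →* (Z ⟶ Y) where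
  toFun a := a ≫ f
  map_one' := MonObj.one_comp f
  map_mul' a b := MonObj.mul_comp a b f

variable {H T : Over S} [GrpObj H] [GrpObj T] (p : H ⟶ T) [IsMonHom p] [LocallyQuasiFinite p.left] [QuasiCompact p.left]
  [LocallyOfFiniteType p.left] (w : T ⟶ H) [IsMonHom w]

theorem eq_comp_section (hw : w ≫ p = 𝟙 _) (x : Spec (CommRingCat.of Ω) ⟶ S)
    (hdiv : ∀ (n : ℕ) (d : Over.mk x ⟶ T), 0 < n → ∃ d', d' ^ n = d) {q : ℕ} (hq : 0 < q) (a : Over.mk x ⟶ H)
    (h : ∀ m, ∃ a' : Over.mk x ⟶ H, a' ^ (q ^ m) = a ∧ ∃ K, a' ^ (q ^ K) = 1) : a = a ≫ p ≫ w := by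
  have hfin : Finite (post p (Over.mk x)).ker := by
    have h1 := finite_fibre p x (1 : Over.mk x ⟶ T)
    exact Finite.of_injective (fun c : (post p (Over.mk x)).ker => (⟨c.1, c.2⟩ : {c : Over.mk x ⟶ H // c ≫ p = 1}))
      (fun c c' hcc => Subtype.ext (congrArg Subtype.val hcc))
  have h2 := QDiv.eq_of_divisible (post p (Over.mk x)) (post w (Over.mk x)) (fun d => by
    change (d ≫ w) ≫ p = d
    rw [Category.assoc, hw, Category.comp_id]) hdiv hq a h
  have h3 : (post w (Over.mk x)) ((post p (Over.mk x)) a) = (a ≫ p) ≫ w := rfl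
  rw [h3, Category.assoc] at h2
  exact h2

omit [IsAlgClosed Ω] in
lemma pow_DSmap {M N : Type} [AddCommGroup M] [AddCommGroup N] (φ : M →+ N) {X : Over S} (y : X ⟶ Red.DS S N) (m : ℕ) :
    (y ^ m) ≫ Red.DSmap S φ = (y ≫ Red.DSmap S φ) ^ m := by
  have hk1 : IsMonHom (Red.DSmap S φ) := Sga3.H827.KerLoc.isMonHom_DSmap _
  exact MonObj.pow_comp _ _ _

omit [IsAlgClosed Ω] in
lemma pow_post {A B X : Over S} [GrpObj A] [GrpObj B] {f : A ⟶ B} (hf : IsMonHom f) (y : X ⟶ A) (m : ℕ) :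
    (y ^ m) ≫ f = (y ≫ f) ^ m := MonObj.pow_comp _ _ _

/-- A group-theoretic consequence of coherence. -/
lemma exists_divisible {H : Over S} [GrpObj H] {q : ℕ} (z : ∀ k, Red.DS S (Fin r → ZMod (q ^ k)) ⟶ H)
    (hz : ∀ k, IsMonHom (z k))
    (hcoh : ∀ j k (h : j ≤ k), Red.DSmap S (tz r (pow_dvd_pow q h)) ≫ z k = z j) {X : Over S} (k : ℕ)
    (y : X ⟶ Red.DS S (Fin r → ZMod (q ^ k))) (m : ℕ) (d : X ⟶ Red.DS S (Fin r → ℤ))
    (hd : d ^ (q ^ m) = y ≫ Red.DSmap S (cz r (q ^ k))) :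
    ∃ a' : X ⟶ H, a' ^ (q ^ m) = y ≫ z k ∧ a' ^ (q ^ (k + m)) = 1 := by
  have hd' : d ^ (q ^ (k + m)) = 1 := by
    rw [pow_add, mul_comm, pow_mul, hd, ← MonObj.comp_pow, DSmap_cz_pow, MonObj.comp_one]
  obtain ⟨y', hy'⟩ := exists_fac d _ hd'
  have hz1 := hz (k + m)
  have hk1 : IsMonHom (Red.DSmap S (cz r (q ^ (k + m)))) := Sga3.H827.KerLoc.isMonHom_DSmap _
  have hmono : Mono (Red.DSmap S (cz r (q ^ (k + m)))) :=
    K7.DSProp.mono_DSmap _ _ (cz_surjective _ _)
  refine ⟨y' ≫ z (k + m), ?_, ?_⟩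
  · have h1 : y' ^ (q ^ m) = y ≫ Red.DSmap S (tz r (pow_dvd_pow q (Nat.le_add_right k m))) := by
      rw [← cancel_mono (Red.DSmap S (cz r (q ^ (k + m)))), pow_DSmap, ← hy', hd, Category.assoc,
        K7.DSProp.DSmap_comp, tz_comp_cz]
    rw [← pow_post (hz (k + m)), h1, Category.assoc, hcoh k (k + m) (Nat.le_add_right k m)]
  · have h1 : y' ^ (q ^ (k + m)) = 1 := by
      rw [← cancel_mono (Red.DSmap S (cz r (q ^ (k + m)))), pow_DSmap, ← hy', hd']
      exact (MonObj.one_comp (Red.DSmap S (cz r (q ^ (k + m))))).symm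
    rw [← pow_post (hz (k + m)), h1]
    exact MonObj.one_comp (z (k + m))

/-- **A coherent family of torsion sections agrees with the section.** -/
theorem eq_section {H : Over S} [GrpObj H] (p : H ⟶ Red.DS S (Fin r → ℤ)) [IsMonHom p] [LocallyQuasiFinite p.left]
    [QuasiCompact p.left] [LocallyOfFiniteType p.left] (w : Red.DS S (Fin r → ℤ) ⟶ H) [IsMonHom w] (hw : w ≫ p = 𝟙 _)
    {q : ℕ} (hq : 0 < q) (z : ∀ k, Red.DS S (Fin r → ZMod (q ^ k)) ⟶ H) (hz : ∀ k, IsMonHom (z k))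
    (hzp : ∀ k, z k ≫ p = Red.DSmap S (cz r (q ^ k)))
    (hcoh : ∀ j k (h : j ≤ k), Red.DSmap S (tz r (pow_dvd_pow q h)) ≫ z k = z j)
    (x : Spec (CommRingCat.of Ω) ⟶ S) (k : ℕ) (y : Over.mk x ⟶ Red.DS S (Fin r → ZMod (q ^ k))) :
    y ≫ z k = y ≫ Red.DSmap S (cz r (q ^ k)) ≫ w := by
  have h1 := eq_comp_section p w hw x (fun n d hn => exists_root x hn d) hq (y ≫ z k) (fun m => by
    obtain ⟨d, hd⟩ := exists_root x (pow_pos hq m) (y ≫ Red.DSmap S (cz r (q ^ k)))
    obtain ⟨a', h1, h2⟩ := exists_divisible z hz hcoh k y m d hd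
    exact ⟨a', h1, _, h2⟩)
  rw [h1, Category.assoc, ← hzp k, Category.assoc]

/-- **Two homomorphic sections agree on geometric points.** -/
theorem eq_of_sections {H : Over S} [GrpObj H] (p : H ⟶ Red.DS S (Fin r → ℤ)) [IsMonHom p] [LocallyQuasiFinite p.left]
    [QuasiCompact p.left] [LocallyOfFiniteType p.left] (w z : Red.DS S (Fin r → ℤ) ⟶ H) [IsMonHom w] [IsMonHom z]
    (hw : w ≫ p = 𝟙 _) (hz : z ≫ p = 𝟙 _) (x : Spec (CommRingCat.of Ω) ⟶ S) (y : Over.mk x ⟶ Red.DS S (Fin r → ℤ)) :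
    y ≫ z = y ≫ w := by
  have hfin : Finite (post p (Over.mk x)).ker := by
    have h1 := finite_fibre p x (1 : Over.mk x ⟶ Red.DS S (Fin r → ℤ))
    exact Finite.of_injective (fun c : (post p (Over.mk x)).ker =>
      (⟨c.1, c.2⟩ : {c : Over.mk x ⟶ H // c ≫ p = 1}))
      (fun c c' hcc => Subtype.ext (congrArg Subtype.val hcc))
  exact QDiv.eq_of_sections (post p (Over.mk x)) (post w (Over.mk x)) (post z (Over.mk x)) (fun d => by
    change (d ≫ w) ≫ p = d
    rw [Category.assoc, hw, Category.comp_id]) (fun d => by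
    change (d ≫ z) ≫ p = d
    rw [Category.assoc, hz, Category.comp_id]) (fun n d hn => exists_root x hn d) y

end K211.SecDiv
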