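import Mathlib.Topology.NoetherianSpace
import Mathlib.Topology.Sober
import Mathlib.Topology.Inseparable
import Mathlib.Order.Preorder.Finite

/-!
# Openness criterion in Noetherian sober spaces
-/

set_option autoImplicit false

namespace K211.Top

/-- **Nagata's criterion.** A subset `E` of a Noetherian sober space which is stable under generization and contains a
neighbourhood of each of its points `y` in the closure of `y` is open. -/
theorem isOpen_of_gen {Y : Type*} [TopologicalSpace Y] [QuasiSober Y] [TopologicalSpace.NoetherianSpace Y] (E : Set Y)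
    (hgen : StableUnderGeneralization E) (h : ∀ y ∈ E, ∃ O : Set Y, IsOpen O ∧ y ∈ O ∧ O ∩ closure {y} ⊆ E) :
    IsOpen E := by
  rw [← isClosed_compl_iff, ← closure_eq_iff_isClosed]
  refine subset_antisymm ?_ subset_closure
  intro x hx hxE
  obtain ⟨S, hS, hcl, hirr, hZS⟩ := TopologicalSpace.NoetherianSpace.exists_finite_set_isClosed_irreducible
    (isClosed_closure (s := Eᶜ))
  rw [hZS] at hx
  obtain ⟨t₀, ht₀, hxt₀⟩ := hx
  have hfin : {t ∈ S | x ∈ t}.Finite := hS.subset fun t ht => ht.1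
  obtain ⟨t, ht⟩ := hfin.exists_maximal ⟨t₀, ht₀, hxt₀⟩
  have hgt : IsGenericPoint ((hirr t ht.1.1).genericPoint) t := by
    have := (hirr t ht.1.1).isGenericPoint_genericPoint_closure
    rwa [(hcl t ht.1.1).closure_eq] at this
  set z := (hirr t ht.1.1).genericPoint with hz
  have hzE : z ∈ E := hgen (hgt.specializes ht.1.2) hxE
  obtain ⟨O, hO, hzO, hOE⟩ := h z hzE
  rw [hgt.def] at hOE
  let T : Set Y := ⋃₀ (S \ {t})
  have hT : IsClosed T := by
    change IsClosed (⋃₀ (S \ {t}))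
    rw [Set.sUnion_eq_biUnion]
    exact (hS.subset Set.sdiff_subset).isClosed_biUnion fun s hs => hcl s hs.1
  have hzT : z ∉ T := by
    rintro ⟨s, ⟨hs, hst⟩, hzs⟩
    have h1 : t ⊆ s := by
      rw [← hgt.def, (hcl s hs).closure_subset_iff, Set.singleton_subset_iff]
      exact hzs
    exact hst (subset_antisymm (ht.2 ⟨hs, h1 ht.1.2⟩ h1) h1)
  have hzc : z ∈ closure Eᶜ := by
    rw [hZS]
    exact ⟨t, ht.1.1, hgt.mem⟩
  obtain ⟨w, ⟨hwO, hwT⟩, hwE⟩ := mem_closure_iff.1 hzc (O ∩ Tᶜ) (hO.inter hT.isOpen_compl) ⟨hzO, hzT⟩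
  have hw1 : w ∈ closure Eᶜ := subset_closure hwE
  rw [hZS] at hw1
  obtain ⟨s, hs, hws⟩ := hw1
  by_cases hst : s = t
  · subst hst
    exact hwE (hOE ⟨hwO, hws⟩)
  · exact hwT ⟨s, ⟨hs, hst⟩, hws⟩

end K211.Top
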