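import Groth.Agent.SGA3x.K211.Fam
import Groth.Agent.SGA3x.K211.Top
import Groth.Agent.AlgSt.K735.DvrSpec
import Groth.Agent.SGA3x.K12.Agree

/-!
# Values of homomorphisms from split tori with given torsion

`Val u x y`: `x` is a point of `D(ℤ^r)` with values in `P`, `y` the image of `x` under the family of homomorphisms
`D(ℤ^r) → G` over `P` with torsion `u`.
-/

set_option autoImplicit false
set_option linter.dupNamespace false
universe u
open CategoryTheory MonoidalCategory CartesianMonoidalCategory MonObj GrpObj AlgebraicGeometry Limits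

namespace K211.Val

open Groth.Agent Groth.Agent.Sga3B Groth.Agent.Sga3B.DSPts Groth.Agent.Sga3B.InfConjFam Groth.Agent.Sga3B.DSRigid
  Groth.Agent.Sga3.H767 TorsQ Fam

section gen

variable {S : Scheme.{u}} {G : Over S} [GrpObj G] {r q : ℕ} (u : ∀ k, Red.DS S (Fin r → ZMod (q ^ k)) ⟶ G)

/-- There is a family of homomorphisms with torsion `u` over `P`. -/
def Has (P : Over S) : Prop := ∃ a : Red.DS S (Fin r → ℤ) ⊗ P ⟶ G, IsExt u a

/-- `y` is the image of `x`. -/
def Val {P : Over S} (x : P ⟶ Red.DS S (Fin r → ℤ)) (y : P ⟶ G) : Prop :=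
  ∃ a : Red.DS S (Fin r → ℤ) ⊗ P ⟶ G, IsExt u a ∧ lift x (𝟙 P) ≫ a = y

variable {u}

lemma Has.pull {P P' : Over S} (h : Has u P) (f : P' ⟶ P) : Has u P' := by
  obtain ⟨a, ha⟩ := h
  exact ⟨_, ha.pull f⟩

lemma Has.exists_val {P : Over S} (h : Has u P) (x : P ⟶ Red.DS S (Fin r → ℤ)) : ∃ y, Val u x y := by
  obtain ⟨a, ha⟩ := h
  exact ⟨_, a, ha, rfl⟩

lemma Val.comp {P P' : Over S} {x : P ⟶ Red.DS S (Fin r → ℤ)} {y : P ⟶ G} (h : Val u x y) (f : P' ⟶ P) :
    Val u (f ≫ x) (f ≫ y) := by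
  obtain ⟨a, ha, rfl⟩ := h
  refine ⟨_, ha.pull f, ?_⟩
  rw [← Category.assoc, lift_whiskerLeft, Category.id_comp, comp_lift_assoc, Category.comp_id]

lemma Val.unique {C : Type u} [CommRing C] {v : Spec (CommRingCat.of C) ⟶ S} (hq : 1 < q)
    {x : Over.mk v ⟶ Red.DS S (Fin r → ℤ)} {y y' : Over.mk v ⟶ G} (h : Val u x y) (h' : Val u x y') : y = y' := by
  obtain ⟨a, ha, rfl⟩ := h
  obtain ⟨b, hb, rfl⟩ := h'
  rw [ha.unique hq hb]

lemma val_of_isExt {P Q : Over S} (a : Red.DS S (Fin r → ℤ) ⊗ Q ⟶ G) (z : P ⟶ Red.DS S (Fin r → ℤ) ⊗ Q)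
    (h : IsExt u (Red.DS S (Fin r → ℤ) ◁ (z ≫ snd _ _) ≫ a)) : Val u (z ≫ fst _ _) (z ≫ a) := by
  refine ⟨_, h, ?_⟩
  rw [← Category.assoc, lift_whiskerLeft, Category.id_comp]
  congr 1
  apply CartesianMonoidalCategory.hom_ext <;> simp

/-- The value at torsion points. -/
lemma Has.val_tors {P : Over S} (h : Has u P) (k : ℕ) (x : P ⟶ Red.DS S (Fin r → ZMod (q ^ k))) :
    Val u (x ≫ Red.DSmap S (cz r (q ^ k))) (x ≫ u k) := by
  obtain ⟨a, ha⟩ := h
  refine ⟨a, ha, ?_⟩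
  have h1 := congrArg (fun f => lift x (𝟙 P) ≫ f) (ha.tors k)
  simp only [← Category.assoc, lift_whiskerRight, lift_fst] at h1
  exact h1

/-- Multiplicativity of values. -/
lemma Val.mul {C : Type u} [CommRing C] {v : Spec (CommRingCat.of C) ⟶ S} (hq : 1 < q)
    {x x' : Over.mk v ⟶ Red.DS S (Fin r → ℤ)} {y y' : Over.mk v ⟶ G} (h : Val u x y) (h' : Val u x' y') :
    Val u (x * x') (y * y') := by
  obtain ⟨a, ha, rfl⟩ := h
  obtain ⟨b, hb, rfl⟩ := h'
  obtain rfl := ha.unique hq hb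
  exact ⟨a, ha, ha.hom _ _ _ _⟩

lemma exists_fac_pt {K : Type u} [Field K] {X : Scheme.{u}} (f : Spec (CommRingCat.of K) ⟶ X)
    (p : Spec (CommRingCat.of K)) : ∃ g : Spec (CommRingCat.of K) ⟶ Spec (X.residueField (f p)),
      g ≫ X.fromSpecResidueField (f p) = f := by
  obtain rfl : p = IsLocalRing.closedPoint K := Subsingleton.elim _ _
  exact ⟨_, Scheme.descResidueField_stalkClosedPointTo_fromSpecResidueField K X f⟩

variable (u) in
/-- The points whose value is in a given set. -/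
def E (U : Set G.left) : Set (Red.DS S (Fin r → ℤ)).left :=
  {t | ∃ (K : Type u) (_ : Field K) (v : Spec (CommRingCat.of K) ⟶ S) (x : Over.mk v ⟶ Red.DS S (Fin r → ℤ))
    (y : Over.mk v ⟶ G) (p : Spec (CommRingCat.of K)), Val u x y ∧ x.left p = t ∧ y.left p ∈ U}

/-- The residue field point, over `S`. -/
noncomputable abbrev rp {X : Over S} (t : X.left) : Over.mk (X.left.fromSpecResidueField t ≫ X.hom) ⟶ X :=
  Over.homMk (X.left.fromSpecResidueField t)

lemma exists_fac_rp {K : Type u} [Field K] {v : Spec (CommRingCat.of K) ⟶ S} {X : Over S} (x : Over.mk v ⟶ X)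
    (p : Spec (CommRingCat.of K)) :
    ∃ g : Over.mk v ⟶ Over.mk (X.left.fromSpecResidueField (x.left p) ≫ X.hom), g ≫ rp (x.left p) = x := by
  obtain ⟨g, hg⟩ := exists_fac_pt x.left p
  refine ⟨Over.homMk g ?_, ?_⟩
  · simp only [Over.mk_hom]
    rw [← Category.assoc, hg]
    exact Over.w x
  · ext1
    exact hg

theorem Val.eq_point (hq : 1 < q) (hF : ∀ (K : Type u) [Field K] (v : Spec (CommRingCat.of K) ⟶ S), Has u (Over.mk v))
    {K : Type u} [Field K] {v : Spec (CommRingCat.of K) ⟶ S} {x : Over.mk v ⟶ Red.DS S (Fin r → ℤ)}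
    {y : Over.mk v ⟶ G} (h : Val u x y) (p : Spec (CommRingCat.of K))
    {K' : Type u} [Field K'] {v' : Spec (CommRingCat.of K') ⟶ S} {x' : Over.mk v' ⟶ Red.DS S (Fin r → ℤ)}
    {y' : Over.mk v' ⟶ G} (h' : Val u x' y') (p' : Spec (CommRingCat.of K')) (hp : x.left p = x'.left p') :
    y.left p = y'.left p' := by
  obtain ⟨y₀, hy₀⟩ := (hF _ (((Red.DS S (Fin r → ℤ)).left.fromSpecResidueField (x.left p)) ≫ _)).exists_val
    (rp (x.left p))
  have key : ∀ {K : Type u} [Field K] {v : Spec (CommRingCat.of K) ⟶ S} {x : Over.mk v ⟶ Red.DS S (Fin r → ℤ)}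
    {y : Over.mk v ⟶ G} (_ : Val u x y) (p : Spec (CommRingCat.of K)) (t : (Red.DS S (Fin r → ℤ)).left)
    (_ : x.left p = t) (y₀ : _ ⟶ G) (_ : Val u (rp t) y₀) (p₀ : Spec _), y.left p = y₀.left p₀ := by
    intro K _ v x y h p t ht y₀ hy₀ p₀
    subst ht
    obtain ⟨g, hg⟩ := exists_fac_rp x p
    have h1 := hy₀.comp g
    rw [hg] at h1
    rw [h.unique hq h1, Over.comp_left, Scheme.Hom.comp_apply]
    congr 1
    exact @Subsingleton.elim (Spec ((Red.DS S (Fin r → ℤ)).left.residueField (x.left p))) inferInstance _ _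
  rw [key h p _ rfl y₀ hy₀ (IsLocalRing.closedPoint _), key h' p' _ hp.symm y₀ hy₀ (IsLocalRing.closedPoint _)]

theorem mem_E_iff (hq : 1 < q) (hF : ∀ (K : Type u) [Field K] (v : Spec (CommRingCat.of K) ⟶ S), Has u (Over.mk v))
    {K : Type u} [Field K] {v : Spec (CommRingCat.of K) ⟶ S} {x : Over.mk v ⟶ Red.DS S (Fin r → ℤ)}
    {y : Over.mk v ⟶ G} (h : Val u x y) (p : Spec (CommRingCat.of K)) (U : Set G.left) :
    x.left p ∈ E u U ↔ y.left p ∈ U := by
  constructor
  · rintro ⟨K', _, v', x', y', p', h', hx', hy'⟩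
    rwa [h.eq_point hq hF p h' p' hx'.symm]
  · intro hy
    exact ⟨K, inferInstance, v, x, y, p, h, rfl, hy⟩

end gen

section base

variable {A : Type u} [CommRing A] {G : Over (Spec (CommRingCat.of A))} [GrpObj G] {r q : ℕ}
  {u : ∀ k, Red.DS (Spec (CommRingCat.of A)) (Fin r → ZMod (q ^ k)) ⟶ G}

/-- `Spec Frac V` over `S`, in two ways. -/
noncomputable def genI {S S' S'' : Scheme.{u}} (v : S' ⟶ S) (g : S'' ⟶ S') : (Over.map v).obj (Over.mk g) ≅ Over.mk (g ≫ v) :=
  Over.isoMk (Iso.refl _)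

lemma isUnit_of_spec {V : Type u} [CommRing V] (v : Spec (CommRingCat.of V) ⟶ Spec (CommRingCat.of A))
    (hqu : IsUnit (q : A)) : IsUnit (q : V) := by
  have h1 := hqu.map (Spec.preimage v).hom
  rwa [map_natCast] at h1

variable [LocallyOfFiniteType G.hom] [QuasiCompact G.hom]

/-- Existence over discrete valuation rings. -/
theorem has_dvr (hq : 1 < q) (hqu : IsUnit (q : A)) (hu : ∀ k, IsMonHom (u k))
    (hcoh : ∀ j k (h : j ≤ k), Red.DSmap _ (tz r (pow_dvd_pow q h)) ≫ u k = u j)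
    {V : Type u} [CommRing V] [IsDomain V] [IsDiscreteValuationRing V]
    (v : Spec (CommRingCat.of V) ⟶ Spec (CommRingCat.of A)) (h : Has u (Over.mk (Neron.genPt V ≫ v))) :
    Has u (Over.mk v) := by
  obtain ⟨a, ha⟩ := h
  exact IsExt.exists_of_dvr v hq (isUnit_of_spec v hqu) hu hcoh (ha.pull (genI v _).hom)

lemma closedPoint_range (V : Type u) [CommRing V] [IsLocalRing V] : ∃ p : Spec (CommRingCat.of (IsLocalRing.ResidueField V)),
    Spec.map (CommRingCat.ofHom (IsLocalRing.residue V)) p = IsLocalRing.closedPoint V :=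
  ⟨⟨⊥, Ideal.isPrime_bot⟩, IsLocalRing.PrimeSpectrum.comap_residue V _⟩

/-- `E u U` is stable under generization. -/
theorem stableUnderGeneralization_E [IsNoetherianRing A] (hq : 1 < q) (hqu : IsUnit (q : A)) (hu : ∀ k, IsMonHom (u k))
    (hcoh : ∀ j k (h : j ≤ k), Red.DSmap _ (tz r (pow_dvd_pow q h)) ≫ u k = u j)
    (hF : ∀ (K : Type u) [Field K] (v : Spec (CommRingCat.of K) ⟶ Spec (CommRingCat.of A)), Has u (Over.mk v))
    (U : G.left.Opens) : StableUnderGeneralization (E u (U : Set G.left)) := by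
  intro t t' htt' ht
  have hln : IsLocallyNoetherian (Red.DS (Spec (CommRingCat.of A)) (Fin r → ℤ)).left :=
    LocallyOfFiniteType.isLocallyNoetherian (Red.DS (Spec (CommRingCat.of A)) (Fin r → ℤ)).hom
  obtain ⟨V, _, _, _, α, κ, hκ, hκt, hαt⟩ := K735.DvrSpec.exists_dvr (𝟙 (Red.DS (Spec (CommRingCat.of A)) (Fin r → ℤ)).left)
    t' t htt'
  rw [Category.comp_id] at hκ
  let v := α ≫ (Red.DS (Spec (CommRingCat.of A)) (Fin r → ℤ)).hom
  obtain ⟨y, hy⟩ := (has_dvr hq hqu hu hcoh v (hF _ _)).exists_val (Over.homMk α : Over.mk v ⟶ _)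
  -- the closed point
  obtain ⟨p, hp⟩ := closedPoint_range V
  let f : Over.mk (Spec.map (CommRingCat.ofHom (IsLocalRing.residue V)) ≫ v) ⟶ Over.mk v := Over.homMk (Spec.map _)
  have h1 : y.left (IsLocalRing.closedPoint V) ∈ U := by
    have h2 := (mem_E_iff hq hF (hy.comp f) p U).1 (by
      have h3 : (f ≫ (Over.homMk α : Over.mk v ⟶ _)).left p = t := by
        rw [Over.comp_left, Scheme.Hom.comp_apply]
        exact (congrArg α hp).trans hαt
      rw [h3]
      exact ht)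
    rw [Over.comp_left, Scheme.Hom.comp_apply] at h2
    have h3 : f.left p = IsLocalRing.closedPoint V := hp
    rwa [h3] at h2
  -- the generic point
  let g : Over.mk (Neron.genPt V ≫ v) ⟶ Over.mk v := Over.homMk (Neron.genPt V)
  let p' : Spec (CommRingCat.of (FractionRing V)) := ⟨⊥, Ideal.isPrime_bot⟩
  have h4 : (g ≫ (Over.homMk α : Over.mk v ⟶ _)).left p' = t' := by
    rw [Over.comp_left]
    have h5 : g.left ≫ (Over.homMk α : Over.mk v ⟶ Red.DS (Spec (CommRingCat.of A)) (Fin r → ℤ)).left = κ := hκ.symm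
    rw [h5, hκt]
  rw [← h4, mem_E_iff hq hF (hy.comp g) p' U, Over.comp_left, Scheme.Hom.comp_apply]
  exact ((IsLocalRing.specializes_closedPoint (g.left p')).map y.left.continuous).mem_open U.2 h1

end base

end K211.Val
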